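import Cfsg.Agent.Lib.Solvable.Coprime
import Mathlib.GroupTheory.SemidirectProduct

/-!
Fixed points of coprime actions on invariant Sylow subgroups, and exact stabilisers from fixed point counts.
-/

set_option autoImplicit false
set_option linter.style.haveILetI false

namespace Cfsg.Agent.CopBase

open scoped Pointwise
open Cfsg.Agent.SolvBasic

universe u v w

/-- Points with stabiliser containing a subgroup, by exact stabiliser. -/
theorem card_le_split {Z : Type*} [Fintype Z] {L : Type*} [PartialOrder L] [Fintype L] [DecidableEq L]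
    [DecidableLE L] [DecidableLT L] (st : Z → L) (B : L) :
    (Finset.univ.filter fun z => B ≤ st z).card = (Finset.univ.filter fun z => st z = B).card +
      ∑ C ∈ Finset.univ.filter (fun C => B < C), (Finset.univ.filter fun z => st z = C).card := by
  classical
  have h1 : (Finset.univ.filter fun z => B ≤ st z) = (Finset.univ.filter fun z => st z = B) ∪
      (Finset.univ.filter fun z => B < st z) := by
    ext z
    simp only [Finset.mem_filter, Finset.mem_univ, true_and, Finset.mem_union]
    rw [le_iff_eq_or_lt, eq_comm]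
  rw [h1, Finset.card_union_of_disjoint]
  · congr 1
    rw [Finset.card_eq_sum_card_fiberwise (f := st) (t := Finset.univ.filter (fun C => B < C))
      (fun z hz => Finset.mem_coe.2 (Finset.mem_filter.2 ⟨Finset.mem_univ _, (Finset.mem_filter.1 hz).2⟩))]
    refine Finset.sum_congr rfl fun C hC => ?_
    congr 1
    ext z
    simp only [Finset.mem_filter, Finset.mem_univ, true_and]
    exact ⟨fun hz => hz.2, fun hz => ⟨hz ▸ (Finset.mem_filter.1 hC).2, hz⟩⟩
  · rw [Finset.disjoint_filter]
    intro z _ hz
    rw [hz]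
    exact lt_irrefl B

/-- Equal fixed point counts give equal exact stabiliser sets. -/
theorem exists_stabilizer_eq {A : Type u} [Group A] [Finite A] {X : Type v} {Y : Type w} [Finite X] [Finite Y]
    [MulAction A X] [MulAction A Y]
    (h : ∀ B : Subgroup A, Nat.card {x : X // ∀ a ∈ B, a • x = x} = Nat.card {y : Y // ∀ a ∈ B, a • y = y})
    (y : Y) : ∃ x : X, MulAction.stabilizer A x = MulAction.stabilizer A y := by
  classical
  haveI := Fintype.ofFinite X
  haveI := Fintype.ofFinite Y
  haveI := Fintype.ofFinite (Subgroup A)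
  suffices key : ∀ B : Subgroup A, (Finset.univ.filter fun x : X => MulAction.stabilizer A x = B).card =
      (Finset.univ.filter fun z : Y => MulAction.stabilizer A z = B).card by
    have h1 : 0 < (Finset.univ.filter fun z : Y => MulAction.stabilizer A z = MulAction.stabilizer A y).card :=
      Finset.card_pos.2 ⟨y, by simp⟩
    rw [← key] at h1
    obtain ⟨x, hx⟩ := Finset.card_pos.1 h1
    exact ⟨x, (Finset.mem_filter.1 hx).2⟩
  intro B
  induction B using WellFoundedGT.induction with
  | _ B ih =>
  have hB := h B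
  rw [Nat.card_eq_fintype_card, Nat.card_eq_fintype_card, Fintype.card_subtype, Fintype.card_subtype] at hB
  have hX : (Finset.univ.filter fun z : X => ∀ a ∈ B, a • z = z) =
      Finset.univ.filter fun z : X => B ≤ MulAction.stabilizer A z :=
    Finset.filter_congr fun z _ => Iff.rfl
  have hY : (Finset.univ.filter fun z : Y => ∀ a ∈ B, a • z = z) =
      Finset.univ.filter fun z : Y => B ≤ MulAction.stabilizer A z :=
    Finset.filter_congr fun z _ => Iff.rfl
  rw [hX, hY, card_le_split (fun z : X => MulAction.stabilizer A z) B,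
    card_le_split (fun z : Y => MulAction.stabilizer A z) B,
    Finset.sum_congr rfl fun C hC => ih C (Finset.mem_filter.1 hC).2] at hB
  exact Nat.add_right_cancel hB

variable {A : Type u} {K : Type v} [Group A] [Finite A] [Group K] [Finite K] [MulDistribMulAction A K]

/-- An invariant Sylow subgroup contains the full prime part of every fixed point subgroup. -/
theorem exists_sylow_marks (hsol : Group.IsSolvable A) (hcop : (Nat.card A).Coprime (Nat.card K))
    (p : ℕ) [Fact p.Prime] :
    ∃ P : Subgroup K, IsPGroup p P ∧ (∀ a : A, ∀ z ∈ P, a • z ∈ P) ∧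
      ∀ B : Subgroup A, Nat.card {z : P // ∀ a ∈ B, a • (z : K) = z} =
        p ^ (Nat.card {z : K // ∀ a ∈ B, a • z = z}).factorization p := by
  classical
  let φ : A →* MulAut K := MulDistribMulAction.toMulAut A K
  haveI : Finite (K ⋊[φ] A) := Finite.of_equiv _ SemidirectProduct.equivProd.symm
  set Kb : Subgroup (K ⋊[φ] A) := (SemidirectProduct.inl : K →* _).range with hKb
  have hinl : Function.Injective (SemidirectProduct.inl : K →* K ⋊[φ] A) := SemidirectProduct.inl_injective
  have hconj : ∀ (a : A) (k : K), (SemidirectProduct.inr a : K ⋊[φ] A) * SemidirectProduct.inl k *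
      (SemidirectProduct.inr a)⁻¹ = SemidirectProduct.inl (a • k) := fun a k => by
    rw [← map_inv, ← SemidirectProduct.inl_aut]; rfl
  haveI : Kb.Normal := by
    rw [hKb, SemidirectProduct.range_inl_eq_ker_rightHom]; infer_instance
  let up : Subgroup A → Subgroup (K ⋊[φ] A) := fun B => B.map SemidirectProduct.inr
  have hnorm : ∀ B, up B ≤ Subgroup.normalizer (Kb : Set (K ⋊[φ] A)) := fun B =>
    Subgroup.le_normalizer_of_normal
  have hKcard : Nat.card Kb = Nat.card K := (Nat.card_congr (MonoidHom.ofInjective hinl).toEquiv).symm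
  have hcop' : ∀ B, (Nat.card (up B)).Coprime (Nat.card Kb) := fun B => by
    rw [hKcard, Subgroup.card_map_of_injective SemidirectProduct.inr_injective]
    exact hcop.coprime_dvd_left (Subgroup.card_subgroup_dvd_card B)
  have hsol' : ∀ B, Group.IsSolvable (up B) := fun B => by
    haveI := hsol
    exact solvable_of_surjective (f := (SemidirectProduct.inr (φ := φ)).subgroupMap B)
      (MonoidHom.subgroupMap_surjective _ _)
  obtain ⟨Q, hQ⟩ := CoprimeAct.exists_invariant_sylow (hnorm ⊤) (hcop' ⊤) (Or.inl (hsol' ⊤)) p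
  set P' : Subgroup (K ⋊[φ] A) := (Q : Subgroup Kb).map Kb.subtype with hP'
  let P : Subgroup K := P'.comap SemidirectProduct.inl
  have hP'K : P' ≤ Kb := Subgroup.map_subtype_le _
  have hPmap : P.map SemidirectProduct.inl = P' := Subgroup.map_comap_eq_self hP'K
  have hPp : IsPGroup p P := by
    have h1 : IsPGroup p P' := Q.isPGroup'.map _
    exact h1.comap_of_injective _ hinl
  have hPinv : ∀ a : A, ∀ z ∈ P, a • z ∈ P := fun a z hz => by
    show SemidirectProduct.inl (a • z) ∈ P'
    rw [← hconj]
    exact CoprimeAct.conj_mem_of_mem_normalizer (hQ (Subgroup.mem_map_of_mem _ (Subgroup.mem_top a))) hz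
  refine ⟨P, hPp, hPinv, fun B => ?_⟩
  let C : Subgroup K :=
    { carrier := {z | ∀ a ∈ B, a • z = z}
      one_mem' := fun a _ => smul_one a
      mul_mem' := fun {x y} hx hy a ha => by rw [smul_mul', hx a ha, hy a ha]
      inv_mem' := fun {x} hx a ha => by rw [smul_inv', hx a ha] }
  have hC : ∀ z, z ∈ C ↔ SemidirectProduct.inl z ∈ Subgroup.centralizer (up B : Set (K ⋊[φ] A)) := by
    intro z
    rw [Subgroup.mem_centralizer_iff]
    constructor
    · rintro hz _ ⟨a, ha, rfl⟩
      have h1 := hconj a z
      rwa [hz a ha, mul_inv_eq_iff_eq_mul] at h1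
    · intro hz a ha
      refine hinl ?_
      rw [← hconj, hz _ (Subgroup.mem_map_of_mem _ ha), mul_inv_cancel_right]
  obtain ⟨S⟩ : Nonempty (Sylow p C) := inferInstance
  let S' : Subgroup (K ⋊[φ] A) := ((S : Subgroup C).map C.subtype).map SemidirectProduct.inl
  have hS'K : S' ≤ Kb := by
    rintro _ ⟨z, -, rfl⟩
    exact ⟨z, rfl⟩
  have hS'C : S' ≤ Subgroup.centralizer (up B : Set (K ⋊[φ] A)) := by
    rintro _ ⟨z, ⟨w, -, rfl⟩, rfl⟩
    exact (hC w).1 w.2
  obtain ⟨R, hSR, hR⟩ := CoprimeAct.exists_invariant_sylow_ge (hnorm B) (hcop' B) (Or.inl (hsol' B))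
    (p := p) hS'K ((S.isPGroup'.map _).map _) (fun b hb => Subgroup.mem_normalizer_iff.2 fun x => by
      have key : ∀ x ∈ S', b * x * b⁻¹ = x := fun x hx => by
        rw [Subgroup.mem_centralizer_iff.1 (hS'C hx) b hb, mul_inv_cancel_right]
      refine ⟨fun hx => by rwa [key x hx], fun hx => ?_⟩
      have h2 : b * x * b⁻¹ = x := mul_left_cancel (a := b) (mul_right_cancel (b := b⁻¹) (key _ hx))
      rwa [h2] at hx)
  obtain ⟨c, hc, hcR⟩ := CoprimeAct.invariant_sylow_conj (hnorm B) (hcop' B) (Or.inl (hsol' B)) R Q hR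
    (le_trans (Subgroup.map_mono le_top) hQ)
  have hCK : Nat.card C = Nat.card {z : K // ∀ a ∈ B, a • z = z} := rfl
  rw [← hCK]
  let PC : Subgroup C := P.comap C.subtype
  have hPC : Nat.card {z : P // ∀ a ∈ B, a • (z : K) = z} = Nat.card PC := Nat.card_congr
    { toFun := fun z => ⟨⟨z.1, z.2⟩, z.1.2⟩
      invFun := fun z => ⟨⟨z.1, z.2⟩, z.1.2⟩
      left_inv := fun z => rfl
      right_inv := fun z => rfl }
  rw [hPC]
  obtain ⟨k, hk⟩ := IsPGroup.iff_card.1 (hPp.comap_of_injective C.subtype C.subtype_injective : IsPGroup p PC)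
  refine Nat.dvd_antisymm ?_ ?_
  · rw [hk]
    exact Nat.pow_dvd_pow p (((Fact.out : p.Prime).pow_dvd_iff_le_factorization Nat.card_pos.ne').1
      (hk ▸ Subgroup.card_subgroup_dvd_card PC))
  · rw [← S.card_eq_multiplicity]
    let g : ↥(S : Subgroup C) → PC := fun s =>
      have hm : SemidirectProduct.inl ((s : C) : K) ∈ (R : Subgroup Kb).map Kb.subtype :=
        hSR (Subgroup.mem_map_of_mem _ (Subgroup.mem_map_of_mem _ s.2))
      have hck : ∃ c0 : K, SemidirectProduct.inl c0 = ((c : Kb) : K ⋊[φ] A) := c.2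
      ⟨⟨hck.choose * (s : C) * hck.choose⁻¹, by
          rw [hC, map_mul, map_mul, map_inv, hck.choose_spec]
          exact mul_mem (mul_mem hc ((hC _).1 (s : C).2)) (inv_mem hc)⟩, by
        show SemidirectProduct.inl (hck.choose * (s : C) * hck.choose⁻¹) ∈ P'
        rw [map_mul, map_mul, map_inv, hck.choose_spec, hP', ← hcR]
        obtain ⟨r, hr, hre⟩ := hm
        refine ⟨c * r * c⁻¹, ?_, by rw [← hre]; simp⟩
        rw [Sylow.pointwise_smul_def]
        exact Subgroup.smul_mem_pointwise_smul r (MulAut.conj c) _ hr⟩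
    have hck : ∃ c0 : K, SemidirectProduct.inl c0 = ((c : Kb) : K ⋊[φ] A) := c.2
    let cC : C := ⟨hck.choose, by rw [hC, hck.choose_spec]; exact hc⟩
    let gh : ↥(S : Subgroup C) →* PC :=
      { toFun := g
        map_one' := Subtype.ext (Subtype.ext (by simp [g]))
        map_mul' := fun a b => Subtype.ext (Subtype.ext (by simp [g, mul_assoc])) }
    exact Subgroup.card_dvd_of_injective gh fun a b e => by
      have h1 : ((g a : C) : K) = ((g b : C) : K) := congrArg (fun z : PC => ((z : C) : K)) e
      simp only [g, mul_left_inj, mul_right_inj] at h1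
      exact Subtype.ext (Subtype.ext h1)

end Cfsg.Agent.CopBase
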