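import Cfsg.Agent.Lib.CopBase.ModuleTwo
import Cfsg.Agent.Lib.CopBase.Marks
import Mathlib.Data.Nat.Factorization.Induction

/-!
Two points with trivial common stabiliser for a soluble group acting coprimely on a finite group.
-/

set_option autoImplicit false
set_option linter.style.haveILetI false

namespace Cfsg.Agent.CopBase

universe u v

/-- A product of prime parts over a set of primes containing the support. -/
theorem prod_prime_parts {s : Finset ℕ} {m : ℕ} (hm : m ≠ 0) (hs : m.primeFactors ⊆ s) :
    ∏ p : s, (p : ℕ) ^ m.factorization p = m := by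
  rw [Finset.prod_coe_sort s fun p => p ^ m.factorization p]
  refine Eq.trans ?_ (Nat.prod_factorization_pow_eq_self hm)
  rw [Finsupp.prod, Nat.support_factorization]
  exact (Finset.prod_subset hs fun p _ hp => by
    rw [Finsupp.notMem_support_iff.1 (by rwa [Nat.support_factorization]), pow_zero]).symm

variable {A : Type u} {K : Type v} [Group A] [Finite A] [Group K] [Finite K] [MulDistribMulAction A K]

/-- Two points whose common stabiliser acts trivially. -/
theorem two_coprime_action (hsol : Group.IsSolvable A) (hcop : (Nat.card A).Coprime (Nat.card K)) :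
    ∃ x y : K, ∀ a : A, a • x = x → a • y = y → ∀ z : K, a • z = z := by
  classical
  let s := (Nat.card K).primeFactors
  have hprime : ∀ p : s, Fact (p : ℕ).Prime := fun p => ⟨Nat.prime_of_mem_primeFactors p.2⟩
  choose P hPp hPinv hmarks using fun p : s =>
    @exists_sylow_marks A K _ _ _ _ _ hsol hcop (p : ℕ) (hprime p)
  have hpA : ∀ p : s, ¬ (p : ℕ) ∣ Nat.card A := fun p h =>
    (hprime p).out.ne_one (Nat.dvd_one.1 (hcop ▸ Nat.dvd_gcd h (Nat.dvd_of_mem_primeFactors p.2)))
  have htwo : ∀ p : s, ∃ x y : P p, ∀ a : A, a • (x : K) = x → a • (y : K) = y →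
      ∀ z : P p, a • (z : K) = z := by
    intro p
    haveI := hprime p
    obtain ⟨x, y, h⟩ := two_pgroup (p := (p : ℕ)) hsol (hpA p) _ (P p) rfl (hPp p)
      (fun a => ((MulDistribMulAction.toMonoidHom K a).comp (P p).subtype).codRestrict (P p)
        fun z => hPinv p a z z.2)
      (fun z => Subtype.ext (one_smul A (z : K))) (fun a b z => Subtype.ext (mul_smul a b (z : K)))
    exact ⟨x, y, fun a hx hy z => congrArg Subtype.val (h a (Subtype.ext hx) (Subtype.ext hy) z)⟩
  choose x y hxy using htwo
  letI : MulAction A ((p : s) → P p) :=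
    { smul := fun a t p => ⟨a • (t p : K), hPinv p a _ (t p).2⟩
      one_smul := fun t => funext fun p => Subtype.ext (one_smul A (t p : K))
      mul_smul := fun a b t => funext fun p => Subtype.ext (mul_smul a b (t p : K)) }
  have hsupp : ∀ m, m ∣ Nat.card K → m.primeFactors ⊆ s := fun m hm =>
    Nat.primeFactors_mono hm Nat.card_pos.ne'
  have hmK : ∀ B : Subgroup A, Nat.card {z : K // ∀ a ∈ B, a • z = z} ∣ Nat.card K := fun B => by
    let C : Subgroup K :=
      { carrier := {z | ∀ a ∈ B, a • z = z}
        one_mem' := fun a _ => smul_one a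
        mul_mem' := fun {u w} hu hw a ha => by rw [smul_mul', hu a ha, hw a ha]
        inv_mem' := fun {u} hu a ha => by rw [smul_inv', hu a ha] }
    exact Subgroup.card_subgroup_dvd_card C
  have hprod : ∀ B : Subgroup A, ∏ p : s, Nat.card {z : P p // ∀ a ∈ B, a • (z : K) = z} =
      Nat.card {z : K // ∀ a ∈ B, a • z = z} := fun B => by
    rw [Finset.prod_congr rfl fun p _ => hmarks p B]
    haveI : Nonempty {z : K // ∀ a ∈ B, a • z = z} := ⟨⟨1, fun a _ => smul_one a⟩⟩
    exact prod_prime_parts Nat.card_pos.ne' (hsupp _ (hmK B))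
  have hmk : ∀ B : Subgroup A, Nat.card {z : K // ∀ a ∈ B, a • z = z} =
      Nat.card {t : (p : s) → P p // ∀ a ∈ B, a • t = t} := fun B => by
    rw [← hprod B, ← Nat.card_pi]
    exact Nat.card_congr
      { toFun := fun f => ⟨fun p => (f p).1, fun a ha => funext fun p => Subtype.ext ((f p).2 a ha)⟩
        invFun := fun t p => ⟨t.1 p, fun a ha => congrArg (fun u => ((u p : P p) : K)) (t.2 a ha)⟩
        left_inv := fun f => rfl
        right_inv := fun t => rfl }
  obtain ⟨x', hx'⟩ := exists_stabilizer_eq hmk x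
  obtain ⟨y', hy'⟩ := exists_stabilizer_eq hmk y
  refine ⟨x', y', fun a hax hay z => ?_⟩
  have h1 : a • x = x := MulAction.mem_stabilizer_iff.1 (hx' ▸ MulAction.mem_stabilizer_iff.2 hax)
  have h2 : a • y = y := MulAction.mem_stabilizer_iff.1 (hy' ▸ MulAction.mem_stabilizer_iff.2 hay)
  have hall : ∀ p : s, ∀ w : P p, a • (w : K) = w := fun p =>
    hxy p a (congrArg Subtype.val (congrFun h1 p)) (congrArg Subtype.val (congrFun h2 p))
  have hzp : ∀ p : s, ∀ w : P p, ∀ b ∈ Subgroup.zpowers a, b • (w : K) = w := fun p w b hb =>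
    MulAction.mem_stabilizer_iff.1 ((Subgroup.zpowers_le.2 (MulAction.mem_stabilizer_iff.2 (hall p w))) hb)
  have h3 := hprod (Subgroup.zpowers a)
  have h4 := hprod ⊥
  rw [Finset.prod_congr rfl fun p _ => Nat.card_congr (Equiv.subtypeUnivEquiv (hzp p))] at h3
  rw [Finset.prod_congr rfl fun p _ => Nat.card_congr (Equiv.subtypeUnivEquiv fun (w : P p) b hb => by
    rw [Subgroup.mem_bot.1 hb, one_smul]), h3] at h4
  rw [Nat.card_congr (Equiv.subtypeUnivEquiv fun (w : K) b (hb : b ∈ (⊥ : Subgroup A)) => by
    rw [Subgroup.mem_bot.1 hb, one_smul])] at h4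
  haveI := Fintype.ofFinite K
  by_contra hne
  have h5 : Nat.card {w : K // ∀ b ∈ Subgroup.zpowers a, b • w = w} < Nat.card K := by
    rw [Nat.card_eq_fintype_card, Nat.card_eq_fintype_card]
    exact Fintype.card_subtype_lt (x := z) fun h => hne (h a (Subgroup.mem_zpowers a))
  omega

end Cfsg.Agent.CopBase
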