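import Cfsg.Agent.Lib.CopBase.Pairing

/-!
Representatives of the layer adapted to the line stabiliser, and the involutions they give.
-/

set_option autoImplicit false
set_option linter.style.haveILetI false
set_option linter.unusedSectionVars false

namespace Cfsg.Agent.CopBase

open PrimSol SolBase
open scoped commutatorElement

universe u v

variable {F : Type*} [Field F] {V : Type v} [AddCommGroup V] [Module F V] [FiniteDimensional F V]
  [Finite V] [Nontrivial V] {G : Type u} [Group G] [Finite G] {ρ : G →* Module.End F V}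
  {A E : Subgroup G} {w : V}

/-- Commuting representatives dual to elements of the line stabiliser, commuting with two further elements. -/
structure Adapted (ht : IsTop ρ A E w) (k : ℕ) (m₁ m₂ : G) where
  fe : ℕ → G
  le : ℕ → G
  fe_mem : ∀ i < k, fe i ∈ E
  le_mem : ∀ i < k, le i ∈ ht.L
  fe_comm : ∀ i < k, ∀ j < k, cb (fe i) (fe j) = false
  dual : ∀ i < k, ∀ j < k, cb (fe i) (le j) = decide (i = j)
  fe_m : ∀ i < k, cb (fe i) m₁ = false ∧ cb (fe i) m₂ = false
  genL : ∀ X : Subgroup G, A ≤ X → (∀ i < k, le i ∈ X) → ht.L ≤ X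
  genE : ∀ X : Subgroup G, A ≤ X → (∀ i < k, le i ∈ X) → (∀ i < k, fe i ∈ X) → m₁ ∈ X → m₂ ∈ X → E ≤ X

/-- A product of representatives with given bits has the prescribed commutator bits. -/
theorem exists_bitsum (hl : IsLayer ρ A E) (hsq : ∀ f ∈ E, f ^ 2 ∈ A) (h2 : (2 : F) ≠ 0) {k : ℕ}
    (y : ℕ → G) (X : Subgroup G) (hy : ∀ i < k, y i ∈ X) (hyE : ∀ i < k, y i ∈ E)
    (x : ℕ → G) (hxE : ∀ i < k, x i ∈ E) (hdual : ∀ i < k, ∀ j < k, cb (x i) (y j) = decide (i = j))
    (b : ℕ → Bool) : ∀ d ≤ k, ∃ z ∈ X, z ∈ E ∧ ∀ i < k, cb (x i) z = (decide (i < d) && b i) := by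
  intro d
  induction d with
  | zero => exact fun _ => ⟨1, X.one_mem, E.one_mem, fun i _ => by simp [cb_one]⟩
  | succ d ih =>
    intro hd
    obtain ⟨z, hzX, hzE, hz⟩ := ih (by omega)
    cases hb : b d
    · refine ⟨z, hzX, hzE, fun i hi => ?_⟩
      rw [hz i hi]
      by_cases hid : i = d
      · subst hid; simp [hb]
      · rw [decide_eq_decide.2 (show i < d ↔ i < d + 1 by omega)]
    · refine ⟨z * y d, X.mul_mem hzX (hy d (by omega)), E.mul_mem hzE (hyE d (by omega)), fun i hi => ?_⟩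
      rw [cb_mul_right hl hsq h2 hzE (hyE d (by omega)) (hxE i hi), hz i hi, hdual i hi d (by omega)]
      by_cases hid : i = d
      · subst hid; simp [hb]
      · rw [decide_eq_decide.2 (show i < d ↔ i < d + 1 by omega), decide_eq_false hid, Bool.xor_false]

/-- Elements commuting with representatives are corrected inside a subgroup. -/
theorem mem_of_bits (hl : IsLayer ρ A E) (hsq : ∀ f ∈ E, f ^ 2 ∈ A) (h2 : (2 : F) ≠ 0) {k : ℕ}
    (y : ℕ → G) (X : Subgroup G) (hy : ∀ i < k, y i ∈ X) (hyE : ∀ i < k, y i ∈ E)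
    (x : ℕ → G) (hxE : ∀ i < k, x i ∈ E) (hdual : ∀ i < k, ∀ j < k, cb (x i) (y j) = decide (i = j))
    {f : G} (hf : f ∈ E) : ∃ z ∈ X, z ∈ E ∧ ∀ i < k, cb (x i) (f * z) = false := by
  obtain ⟨z, hzX, hzE, hz⟩ := exists_bitsum hl hsq h2 y X hy hyE x hxE hdual (fun i => cb (x i) f) k le_rfl
  refine ⟨z, hzX, hzE, fun i hi => ?_⟩
  rw [cb_mul_right hl hsq h2 hf hzE (hxE i hi), hz i hi, decide_eq_true hi, Bool.true_and, Bool.xor_self]

/-- Adapted representatives exist. -/
theorem exists_adapted (ht : IsTop ρ A E w) [(ht.N.subgroupOf E).Normal] (hsq : ∀ f ∈ E, f ^ 2 ∈ A)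
    (h2 : (2 : F) ≠ 0) {k : ℕ} (e : E ⧸ ht.N.subgroupOf E ≃* Multiplicative (Fin k → ZMod 2))
    (m₁ m₂ : G) (hm₁ : m₁ ∈ ht.N) (hm₂ : m₂ ∈ ht.N) (hN : ht.N ≤ ht.L ⊔ Subgroup.closure {m₁, m₂})
    (hfix : ∀ f ∈ E, ∃ n ∈ ht.N, cb (f * n) m₁ = false ∧ cb (f * n) m₂ = false) :
    Nonempty (Adapted ht k m₁ m₂) := by
  classical
  have hl := ht.toIsLayer
  obtain ⟨f0, hf0, hpair0⟩ := exists_pairing ht hsq h2 e
  choose n hn hn1 hn2 using fun i => hfix (f0 i) (hf0 i).choose
  let f1 : Fin k → G := fun i => f0 i * n i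
  have hf1E : ∀ i, f1 i ∈ E := fun i => E.mul_mem (hf0 i).choose (hn i).1
  have hNL : ∀ x ∈ ht.N, ∀ l ∈ ht.L, cb x l = false := fun x hx l hl' => cb_eq_false.2 (hx.2 l hl')
  have hpair : ∀ b : Fin k → Bool, ∃ l ∈ ht.L, ∀ i, cb (f1 i) l = b i := fun b => by
    obtain ⟨l, hlm, hlb⟩ := hpair0 b
    exact ⟨l, hlm, fun i => by
      rw [cb_mul_left hl hsq h2 (hf0 i).choose (hn i).1 (ht.L_le hlm), hlb, hNL _ (hn i) _ hlm, Bool.xor_false]⟩
  -- corrections making the representatives commute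
  choose P hP hPb using fun j : Fin k => hpair fun i => decide ((i : ℕ) < j) && cb (f1 i) (f1 j)
  let f2 : Fin k → G := fun j => f1 j * P j
  have hf2E : ∀ j, f2 j ∈ E := fun j => E.mul_mem (hf1E j) (ht.L_le (hP j))
  choose l hl' hlb using fun j : Fin k => hpair fun i => decide (i = j)
  let fe : ℕ → G := fun i => if h : i < k then f2 ⟨i, h⟩ else 1
  let le : ℕ → G := fun i => if h : i < k then l ⟨i, h⟩ else 1
  have hfe : ∀ i (h : i < k), fe i = f2 ⟨i, h⟩ := fun i h => dif_pos h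
  have hle : ∀ i (h : i < k), le i = l ⟨i, h⟩ := fun i h => dif_pos h
  have hfe_mem : ∀ i < k, fe i ∈ E := fun i h => by rw [hfe i h]; exact hf2E _
  have hle_mem : ∀ i < k, le i ∈ ht.L := fun i h => by rw [hle i h]; exact hl' _
  have hcomm2 : ∀ i j : Fin k, cb (f2 i) (f2 j) = false := by
    intro i j
    rw [cb_mul_left hl hsq h2 (hf1E i) (ht.L_le (hP i)) (hf2E j),
      cb_mul_right hl hsq h2 (hf1E j) (ht.L_le (hP j)) (hf1E i),
      cb_mul_right hl hsq h2 (hf1E j) (ht.L_le (hP j)) (ht.L_le (hP i)),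
      hNL _ (ht.L_le_N (hP i)) _ (hP j), cb_symm (P i), hPb, hPb, cb_symm (f1 j) (f1 i)]
    rcases lt_trichotomy (i : ℕ) j with h | h | h
    · simp [h, not_lt.2 h.le]
    · have e' : i = j := Fin.ext h
      subst e'
      simp [cb_self]
    · simp [h, not_lt.2 h.le]
  have hdual : ∀ i < k, ∀ j < k, cb (fe i) (le j) = decide (i = j) := fun i hi j hj => by
    rw [hfe i hi, hle j hj, cb_mul_left hl hsq h2 (hf1E _) (ht.L_le (hP _)) (ht.L_le (hl' _)),
      hlb, hNL _ (ht.L_le_N (hP _)) _ (hl' _), Bool.xor_false, decide_eq_decide]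
    exact Fin.ext_iff
  have hgen0 : ∀ X : Subgroup G, ht.N ≤ X → (∀ i < k, fe i ∈ X) → E ≤ X := by
    intro X hNX hfX f hf
    let S : AddSubgroup (Fin k → ZMod 2) :=
      { carrier := {v | ∃ x : E, (x : G) ∈ X ∧ Multiplicative.toAdd (e (x : E ⧸ ht.N.subgroupOf E)) = v}
        zero_mem' := ⟨1, X.one_mem, by rw [QuotientGroup.mk_one, map_one, toAdd_one]⟩
        add_mem' := by
          rintro _ _ ⟨x, hx, rfl⟩ ⟨y, hy, rfl⟩
          exact ⟨x * y, X.mul_mem hx hy, by rw [QuotientGroup.mk_mul, map_mul, toAdd_mul]⟩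
        neg_mem' := by
          rintro _ ⟨x, hx, rfl⟩
          exact ⟨x⁻¹, X.inv_mem hx, by rw [QuotientGroup.mk_inv, map_inv, toAdd_inv]⟩ }
    have hS : ∀ i : Fin k, (Pi.single i 1 : Fin k → ZMod 2) ∈ S := fun i => by
      have hfi := hfX i i.2
      rw [hfe _ i.2] at hfi
      refine ⟨⟨f2 i, hf2E i⟩, hfi, ?_⟩
      have hPn : ((⟨f2 i, hf2E i⟩ : E) : E ⧸ ht.N.subgroupOf E) =
          ((⟨f0 i, (hf0 i).choose⟩ : E) : E ⧸ ht.N.subgroupOf E) := by
        rw [eq_comm, QuotientGroup.eq, Subgroup.mem_subgroupOf]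
        show (f0 i)⁻¹ * (f0 i * n i * P i) ∈ ht.N
        rw [mul_assoc (f0 i), inv_mul_cancel_left]
        exact ht.N.mul_mem (hn i) (ht.L_le_N (hP i))
      rw [hPn, (hf0 i).choose_spec, MulEquiv.apply_symm_apply, toAdd_ofAdd]
    have hall : ∀ v, v ∈ S := fun v => by
      rw [← Finset.univ_sum_single v]
      refine S.sum_mem fun i _ => ?_
      rcases (by decide : ∀ c : ZMod 2, c = 0 ∨ c = 1) (v i) with h | h <;> rw [h]
      · rw [Pi.single_zero]; exact S.zero_mem
      · exact hS i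
    obtain ⟨x, hx, hxe⟩ := hall (Multiplicative.toAdd (e ((⟨f, hf⟩ : E) : E ⧸ ht.N.subgroupOf E)))
    have h1 := e.injective (Multiplicative.toAdd.injective hxe)
    rw [QuotientGroup.eq, Subgroup.mem_subgroupOf] at h1
    have := X.mul_mem hx (hNX h1)
    simpa using this
  have hgenL : ∀ X : Subgroup G, A ≤ X → (∀ i < k, le i ∈ X) → ht.L ≤ X := by
    intro X hAX hlX f hf
    obtain ⟨z, hz, -, hzb⟩ := mem_of_bits hl hsq h2 le (X ⊓ ht.L) (fun i hi => ⟨hlX i hi, hle_mem i hi⟩)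
      (fun i hi => ht.L_le (hle_mem i hi)) fe hfe_mem hdual (ht.L_le hf)
    have hfz : f * z ∈ ht.L := ht.L.mul_mem hf hz.2
    have hA : f * z ∈ A := by
      refine hl.self _ (fun a ha => hl.cent _ (ht.L_le hfz) a ha) fun g hg => ?_
      have hc : E ≤ Subgroup.centralizer {f * z} := hgen0 _
        (fun x hx => Subgroup.mem_centralizer_iff.2 fun y hy => by
          rw [Set.mem_singleton_iff.1 hy]; exact (hx.2 _ hfz).symm)
        (fun i hi => Subgroup.mem_centralizer_iff.2 fun y hy => by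
          rw [Set.mem_singleton_iff.1 hy]; exact (cb_eq_false.1 (hzb i hi)).symm)
      exact Subgroup.mem_centralizer_iff.1 (hc hg) _ rfl
    have := X.mul_mem (hAX hA) (X.inv_mem hz.1)
    rwa [mul_inv_cancel_right] at this
  refine ⟨⟨fe, le, hfe_mem, hle_mem, fun i hi j hj => by rw [hfe i hi, hfe j hj]; exact hcomm2 _ _, hdual,
    fun i hi => ?_, hgenL, fun X hAX hlX hfX h1X h2X => ?_⟩⟩
  · rw [hfe i hi]
    exact ⟨by rw [cb_mul_left hl hsq h2 (hf1E _) (ht.L_le (hP _)) hm₁.1, hn1,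
        cb_symm, hNL _ hm₁ _ (hP _), Bool.xor_false],
      by rw [cb_mul_left hl hsq h2 (hf1E _) (ht.L_le (hP _)) hm₂.1, hn2,
        cb_symm, hNL _ hm₂ _ (hP _), Bool.xor_false]⟩
  · refine hgen0 X (hN.trans (sup_le (hgenL X hAX hlX) ((Subgroup.closure_le _).2 ?_))) hfX
    rintro x (rfl | hx)
    · exact h1X
    · rw [Set.mem_singleton_iff.1 hx]; exact h2X

/-- The representatives may be multiplied by their duals. -/
noncomputable def Adapted.shift {ht : IsTop ρ A E w} {k : ℕ} {m₁ m₂ : G} (d : Adapted ht k m₁ m₂)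
    (hsq : ∀ f ∈ E, f ^ 2 ∈ A) (h2 : (2 : F) ≠ 0) (hm₁ : m₁ ∈ ht.N) (hm₂ : m₂ ∈ ht.N) (b : ℕ → Bool) :
    Adapted ht k m₁ m₂ where
  fe i := d.fe i * if b i then d.le i else 1
  le := d.le
  fe_mem i hi := by
    split
    exacts [E.mul_mem (d.fe_mem i hi) (ht.L_le (d.le_mem i hi)), by rw [mul_one]; exact d.fe_mem i hi]
  le_mem := d.le_mem
  fe_comm i hi j hj := by
    have hl := ht.toIsLayer
    have hc : ∀ i < k, ∀ j < k, cb (d.le i) (d.le j) = false := fun i hi j hj =>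
      cb_eq_false.2 (ht.L_comm (d.le_mem i hi) (d.le_mem j hj))
    have hi' : (if b i then d.le i else 1) ∈ E := by split; exacts [ht.L_le (d.le_mem i hi), E.one_mem]
    have hj' : (if b j then d.le j else 1) ∈ E := by split; exacts [ht.L_le (d.le_mem j hj), E.one_mem]
    rw [cb_mul_left hl hsq h2 (d.fe_mem i hi) hi' (E.mul_mem (d.fe_mem j hj) hj'),
      cb_mul_right hl hsq h2 (d.fe_mem j hj) hj' (d.fe_mem i hi),
      cb_mul_right hl hsq h2 (d.fe_mem j hj) hj' hi', d.fe_comm i hi j hj]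
    by_cases hij : i = j
    · subst hij; cases b i <;> simp [cb_one, cb_symm (1 : G), cb_self, cb_symm (d.le i) (d.fe i)]
    · have h1 : cb (d.le i) (d.fe j) = false := by rw [cb_symm, d.dual j hj i hi, decide_eq_false (Ne.symm hij)]
      have h3 : cb (d.fe i) (d.le j) = false := by rw [d.dual i hi j hj, decide_eq_false hij]
      cases b i <;> cases b j <;> simp [cb_one, cb_symm (1 : G), h1, h3, hc i hi j hj]
  dual i hi j hj := by
    rw [cb_mul_left ht.toIsLayer hsq h2 (d.fe_mem i hi)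
      (by split; exacts [ht.L_le (d.le_mem i hi), E.one_mem]) (ht.L_le (d.le_mem j hj)), d.dual i hi j hj]
    cases b i
    · simp [cb_symm (1 : G), cb_one]
    · simp [cb_eq_false.2 (ht.L_comm (d.le_mem i hi) (d.le_mem j hj))]
  fe_m i hi := by
    have key : ∀ m ∈ ht.N, cb (d.fe i) m = false → cb (d.fe i * if b i then d.le i else 1) m = false := by
      intro m hm h
      cases b i
      · simpa using h
      · rw [if_pos rfl, cb_mul_left ht.toIsLayer hsq h2 (d.fe_mem i hi) (ht.L_le (d.le_mem i hi)) hm.1, h,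
          cb_symm, cb_eq_false.2 (hm.2 _ (d.le_mem i hi)), Bool.xor_false]
    exact ⟨key m₁ hm₁ (d.fe_m i hi).1, key m₂ hm₂ (d.fe_m i hi).2⟩
  genL := d.genL
  genE X hA hlX hfX h1 h2' := d.genE X hA hlX (fun i hi => by
    have := hfX i hi
    cases hb : b i
    · simpa [hb] using this
    · rw [hb, if_pos rfl] at this
      have := X.mul_mem this (X.inv_mem (hlX i hi))
      rwa [mul_inv_cancel_right] at this) h1 h2'

/-- Commuting involutions from adapted representatives whose squares are squares of scalars. -/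
theorem Adapted.exists_ops {ht : IsTop ρ A E w} {k : ℕ} {m₁ m₂ : G} (d : Adapted ht k m₁ m₂)
    (hsq : ∀ f ∈ E, f ^ 2 ∈ A) (h2 : (2 : F) ≠ 0) (hK : ∀ x ∈ alg ρ A, ∃ c : F, x = c • (1 : Module.End F V))
    (hroot : ∀ i < k, ∃ c : F, (c * c) • ρ (d.fe i ^ 2) = 1) :
    ∃ t s : ℕ → Module.End F V, ∃ a b : ℕ → F,
      (∀ i < k, t i = a i • ρ (d.fe i)) ∧ (∀ i < k, s i = b i • ρ (d.le i)) ∧
      (∀ i < k, ∀ j < k, t i * t j = t j * t i) ∧ (∀ i < k, t i * t i = 1) ∧ (∀ i < k, s i * s i = 1) ∧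
      (∀ i < k, ∀ j < k, s i * s j = s j * s i) ∧
      (∀ i < k, ∀ j < k, s i * t j = bitSign F (decide (i = j)) • (t j * s i)) ∧
      (∀ i < k, ∀ x ∈ space ht, s i x = x) ∧ ∀ x, (∀ i < k, s i x = x) → x ∈ space ht := by
  classical
  have hl := ht.toIsLayer
  have hc : ∀ i, ∃ c : F, i < k → ρ (d.le i) w = c • w := fun i => by
    by_cases hi : i < k
    · obtain ⟨-, x, hx, hxw⟩ := d.le_mem i hi
      obtain ⟨c, rfl⟩ := hK x hx
      exact ⟨c, fun _ => by simpa using hxw⟩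
    · exact ⟨0, fun h => absurd h hi⟩
  choose c hcw using hc
  have hc0 : ∀ i < k, c i ≠ 0 := fun i hi h0 => ht.ne (apply_injective ρ (d.le i) (by
    rw [hcw i hi, h0, zero_smul, map_zero]))
  have hr : ∀ i, ∃ a : F, i < k → (a * a) • ρ (d.fe i ^ 2) = 1 := fun i => by
    by_cases hi : i < k
    · obtain ⟨a, ha⟩ := hroot i hi; exact ⟨a, fun _ => ha⟩
    · exact ⟨0, fun h => absurd h hi⟩
  choose a ha using hr
  refine ⟨fun i => a i • ρ (d.fe i), fun i => (c i)⁻¹ • ρ (d.le i), a, fun i => (c i)⁻¹, fun i _ => rfl,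
    fun i _ => rfl, fun i hi j hj => ?_, fun i hi => ?_, fun i hi => ?_, fun i hi j hj => ?_,
    fun i hi j hj => ?_, fun i hi x hx => ?_, fun x hx => ?_⟩
  · simp only [smul_mul_assoc, mul_smul_comm, smul_smul, ← map_mul, cb_eq_false.1 (d.fe_comm i hi j hj),
      mul_comm (a i)]
  · rw [smul_mul_assoc, mul_smul_comm, smul_smul, ← map_mul, ← pow_two (d.fe i), ha i hi]
  · obtain ⟨z, hz⟩ := hK _ (hl.scalar (hsq _ (ht.L_le (d.le_mem i hi))))
    have h1 : z = c i * c i := by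
      refine smul_left_injective F ht.ne ?_
      have h3 := LinearMap.congr_fun hz w
      rw [pow_two, map_mul, Module.End.mul_apply, hcw i hi, map_smul, hcw i hi, smul_smul] at h3
      simpa using h3.symm
    rw [smul_mul_assoc, mul_smul_comm, smul_smul, ← map_mul, ← pow_two (d.le i), hz, h1, smul_smul]
    rw [show (c i)⁻¹ * (c i)⁻¹ * (c i * c i) = 1 by field_simp [hc0 i hi], one_smul]
  · simp only [smul_mul_assoc, mul_smul_comm, smul_smul, ← map_mul,
      ht.L_comm (d.le_mem i hi) (d.le_mem j hj), mul_comm (c i)⁻¹]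
  · rw [smul_mul_assoc, mul_smul_comm, smul_smul, op_comm hl hsq h2 (ht.L_le (d.le_mem i hi)) (d.fe_mem j hj),
      cb_symm, d.dual j hj i hi, smul_smul, smul_mul_assoc, mul_smul_comm, smul_smul, smul_smul,
      decide_eq_decide.2 (eq_comm (a := j) (b := i))]
    congr 1
    ring
  · rw [LinearMap.smul_apply, hx _ (d.le_mem i hi) _ (Algebra.algebraMap_eq_smul_one (A := Module.End F V) (c i) ▸
      Subalgebra.algebraMap_mem _ (c i)) (by simpa using hcw i hi)]
    simp [smul_smul, inv_mul_cancel₀ (hc0 i hi)]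
  · let X : Subgroup G :=
      { carrier := {g | ∃ r : F, ρ g x = r • x ∧ ρ g w = r • w}
        one_mem' := ⟨1, by simp, by simp⟩
        mul_mem' := fun {p q} ⟨r, hr1, hr2⟩ ⟨r', hr1', hr2'⟩ => ⟨r' * r, by
          rw [map_mul, Module.End.mul_apply, hr1', map_smul, hr1, smul_smul], by
          rw [map_mul, Module.End.mul_apply, hr2', map_smul, hr2, smul_smul]⟩
        inv_mem' := fun {p} ⟨r, hr1, hr2⟩ => by
          have hr0 : r ≠ 0 := fun h => ht.ne (apply_injective ρ p (by rw [hr2, h, zero_smul, map_zero]))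
          refine ⟨r⁻¹, apply_injective ρ p ?_, apply_injective ρ p ?_⟩
          · rw [apply_inv_cancel, map_smul, hr1, smul_smul, inv_mul_cancel₀ hr0, one_smul]
          · rw [apply_inv_cancel, map_smul, hr2, smul_smul, inv_mul_cancel₀ hr0, one_smul] }
    have hLX : ht.L ≤ X := d.genL X (fun q hq => by
        obtain ⟨r, hr⟩ := hK _ (hl.scalar hq)
        exact ⟨r, by simp [hr], by simp [hr]⟩) fun i hi => by
      refine ⟨c i, ?_, hcw i hi⟩
      have h1 := hx i hi
      rw [LinearMap.smul_apply] at h1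
      conv_rhs => rw [← h1]
      rw [smul_smul, mul_inv_cancel₀ (hc0 i hi), one_smul]
    intro l hlm y hy hly
    obtain ⟨r, hr1, hr2⟩ := hLX hlm
    obtain ⟨z, rfl⟩ := hK y hy
    rw [hr1]
    have h3 : z = r := smul_left_injective F ht.ne (by rw [hr2] at hly; simpa using hly.symm)
    simp [h3]

end Cfsg.Agent.CopBase
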