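import Cfsg.Agent.Lib.CopBase.Words

/-!
The signed translations and sign changes of a coordinate space indexed by bit strings.
-/

set_option autoImplicit false
set_option linter.style.haveILetI false

namespace Cfsg.Agent.CopBase

/-- The parity of the low eight bits. -/
def par (n : ℕ) : Bool :=
  let a := n ^^^ (n >>> 4)
  let b := a ^^^ (a >>> 2)
  let c := b ^^^ (b >>> 1)
  c.testBit 0

lemma par_xor (x y : ℕ) : par (x ^^^ y) = (par x ^^ par y) := by
  simp only [par, Nat.shiftRight_xor_distrib, Nat.testBit_xor, Nat.testBit_shiftRight]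
  ring_nf
  cases x.testBit 0 <;> cases y.testBit 0 <;> simp [Bool.xor_assoc, Bool.xor_comm, Bool.xor_left_comm]

lemma par_zero : par 0 = false := rfl

lemma par_two_pow {l : ℕ} (hl : l < 8) : par (2 ^ l) = true := by
  interval_cases l <;> rfl

lemma par_and_two_pow {l : ℕ} (hl : l < 8) (n : ℕ) : par (n &&& 2 ^ l) = n.testBit l := by
  rw [Nat.and_two_pow]
  cases h : n.testBit l
  · simp [par_zero]
  · simp [par_two_pow hl]

/-- The bit of the commutator pairing facing a given bit. -/
def partner (k i : ℕ) : ℕ :=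
  if i < k then k + i else if i < 2 * k then i - k else if i = 2 * k then 2 * k + 1 else 2 * k

/-- A bit string with prescribed bits. -/
lemma exists_bits : ∀ (j : ℕ) (f : ℕ → Bool), ∃ s < 2 ^ j, ∀ i < j, s.testBit i = f i := by
  intro j
  induction j with
  | zero => exact fun f => ⟨0, by norm_num, fun i hi => absurd hi (by omega)⟩
  | succ j ih =>
    intro f
    obtain ⟨s, hs, hsi⟩ := ih (fun i => f (i + 1))
    refine ⟨2 * s + (if f 0 then 1 else 0), ?_, fun i hi => ?_⟩
    · rw [pow_succ]; split <;> omega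
    · rcases i with _ | i
      · rw [Nat.testBit_zero]
        cases hf : f 0 <;> simp [Nat.add_mod]
      · rw [Nat.testBit_succ, ← hsi i (by omega)]
        congr 1
        split <;> omega

/-- A pairing given bit by bit by an involution of bits is perfect. -/
lemma dual_of_partner {m : ℕ} (bt : ℕ → ℕ → Bool) (π : ℕ → ℕ) (hπ : ∀ i < m, π i < m ∧ π (π i) = i)
    (hbit : ∀ x < 2 ^ m, ∀ i < m, (bt x (2 ^ i) ^^ bt (2 ^ i) x) = x.testBit (π i)) :
    (∀ s < 2 ^ m, ∃ h < 2 ^ m, ∀ i < m, (bt h (2 ^ i) ^^ bt (2 ^ i) h) = s.testBit i) ∧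
      ∀ x < 2 ^ m, (∀ i < m, bt x (2 ^ i) = bt (2 ^ i) x) → x = 0 := by
  refine ⟨fun s _ => ?_, fun x hx h => Nat.eq_of_testBit_eq fun i => ?_⟩
  · obtain ⟨h, hh, hhi⟩ := exists_bits m fun i => s.testBit (π i)
    refine ⟨h, hh, fun i hi => ?_⟩
    rw [hbit h hh i hi, hhi _ (hπ i hi).1, (hπ i hi).2]
  · rw [Nat.zero_testBit]
    by_cases hi : i < m
    · have h1 := hbit x hx (π i) (hπ i hi).1
      rw [(hπ i hi).2, h _ (hπ i hi).1, Bool.xor_self] at h1
      exact h1.symm
    · exact Nat.testBit_lt_two_pow (lt_of_lt_of_le hx (Nat.pow_le_pow_right (by omega) (by omega)))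

section split
variable {k : ℕ}

lemma low_xor (x y : ℕ) : (x ^^^ y) % 2 ^ k = x % 2 ^ k ^^^ y % 2 ^ k := by
  refine Nat.eq_of_testBit_eq fun i => ?_
  simp only [Nat.testBit_xor, Nat.testBit_mod_two_pow]
  by_cases hi : i < k <;> simp [hi]

/-- The sign bit of a product of two translations with sign changes. -/
def btMono (k x y : ℕ) : Bool := par ((x >>> k) &&& (y % 2 ^ k))

lemma btMono_bit (hk : k ≤ 4) {x : ℕ} (hx : x < 2 ^ (2 * k)) {i : ℕ} (hi : i < 2 * k) :
    (btMono k x (2 ^ i) ^^ btMono k (2 ^ i) x) = x.testBit (partner k i) := by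
  have hshift : ∀ j, (2 ^ (k + j)) >>> k = 2 ^ j := fun j => by
    rw [Nat.shiftRight_eq_div_pow, pow_add, Nat.mul_div_cancel_left _ (Nat.two_pow_pos k)]
  unfold btMono partner
  by_cases hik : i < k
  · rw [if_pos hik, Nat.mod_eq_of_lt (Nat.pow_lt_pow_right (by omega) hik), par_and_two_pow (by omega),
      Nat.testBit_shiftRight, Nat.shiftRight_eq_zero _ _ (Nat.pow_lt_pow_right (by omega) hik), Nat.zero_and,
      par_zero, Bool.xor_false]
  · obtain ⟨j, rfl⟩ : ∃ j, i = k + j := ⟨i - k, by omega⟩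
    rw [if_neg hik, if_pos hi, hshift, show (2 : ℕ) ^ (k + j) % 2 ^ k = 0 by rw [pow_add]; exact Nat.mul_mod_right _ _,
      Nat.and_zero, par_zero, Bool.false_xor, Nat.and_comm, par_and_two_pow (by omega), Nat.testBit_mod_two_pow,
      show k + j - k = j by omega]
    simp [show j < k by omega]

end split

variable (F : Type*) [Field F] (k : ℕ)

/-- The translated index. -/
def axor (i : Fin (2 ^ k)) (x : ℕ) : Fin (2 ^ k) :=
  ⟨(i : ℕ) ^^^ x % 2 ^ k, Nat.xor_lt_two_pow i.2 (Nat.mod_lt _ (Nat.two_pow_pos k))⟩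

/-- The sign at an index of a word. -/
def msgn (i : Fin (2 ^ k)) (x : ℕ) : Bool := par ((x >>> k) &&& (axor k i x : ℕ))

variable {k}

lemma axor_axor (i : Fin (2 ^ k)) (x y : ℕ) : axor k (axor k i x) y = axor k i (x ^^^ y) :=
  Fin.ext (by simp [axor, low_xor, Nat.xor_assoc])

lemma axor_self (i : Fin (2 ^ k)) (x : ℕ) : axor k (axor k i x) x = i := by
  rw [axor_axor, Nat.xor_self]
  exact Fin.ext (by simp [axor])

lemma msgn_mul (i : Fin (2 ^ k)) (x y : ℕ) :
    (msgn k i x ^^ msgn k (axor k i x) y) = (btMono k x y ^^ msgn k i (x ^^^ y)) := by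
  unfold msgn btMono
  rw [axor_axor, Nat.shiftRight_xor_distrib, Nat.and_xor_distrib_right, par_xor]
  have e : ((axor k i x : Fin (2 ^ k)) : ℕ) = (axor k i (x ^^^ y) : ℕ) ^^^ y % 2 ^ k := by
    simp [axor, low_xor, Nat.xor_assoc]
  rw [e, Nat.and_xor_distrib_left, par_xor]
  simp [Bool.xor_assoc, Bool.xor_comm, Bool.xor_left_comm]

variable (k)

/-- A word acting on coordinates. -/
def opMono (x : ℕ) : Module.End F (Fin (2 ^ k) → F) where
  toFun v := fun i => bitSign F (msgn k i x) * v (axor k i x)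
  map_add' v w := funext fun i => mul_add _ _ _
  map_smul' c v := funext fun i => by simp [mul_left_comm]

/-- The standard form. -/
def dotForm (ι : Type*) [Fintype ι] : (ι → F) →ₗ[F] (ι → F) →ₗ[F] F :=
  LinearMap.mk₂ F (fun v w => ∑ i, v i * w i)
    (fun a b w => by simp [add_mul, Finset.sum_add_distrib])
    (fun c a w => by simp [Finset.mul_sum, mul_assoc])
    (fun a b w => by simp [mul_add, Finset.sum_add_distrib])
    (fun c a w => by simp [Finset.mul_sum, mul_left_comm])

variable {F k}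

lemma bitSign_false : bitSign F false = 1 := rfl

theorem opMono_zero : opMono F k 0 = 1 := by
  refine LinearMap.ext fun v => funext fun i => ?_
  show bitSign F (msgn k i 0) * v (axor k i 0) = v i
  rw [show axor k i 0 = i from Fin.ext (by simp [axor]), show msgn k i 0 = false by simp [msgn, par_zero],
    bitSign_false, one_mul]

theorem opMono_mul (x y : ℕ) :
    opMono F k x * opMono F k y = bitSign F (btMono k x y) • opMono F k (x ^^^ y) := by
  refine LinearMap.ext fun v => funext fun i => ?_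
  show bitSign F (msgn k i x) * (bitSign F (msgn k (axor k i x) y) * v (axor k (axor k i x) y)) =
    bitSign F (btMono k x y) * (bitSign F (msgn k i (x ^^^ y)) * v (axor k i (x ^^^ y)))
  rw [← mul_assoc, ← mul_assoc, ← bitSign_xor, ← bitSign_xor, msgn_mul, axor_axor]

theorem opMono_isometry (x : ℕ) (v w : Fin (2 ^ k) → F) :
    dotForm F _ (opMono F k x v) (opMono F k x w) = dotForm F _ v w := by
  show ∑ i, bitSign F (msgn k i x) * v (axor k i x) * (bitSign F (msgn k i x) * w (axor k i x)) = ∑ i, v i * w i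
  rw [← Equiv.sum_comp (Function.Involutive.toPerm (fun i : Fin (2 ^ k) => axor k i x) fun i => axor_self i x)
    fun i => v i * w i]
  refine Finset.sum_congr rfl fun i _ => ?_
  rw [mul_mul_mul_comm, bitSign_mul_self, one_mul]
  rfl

theorem opMono_single (x : ℕ) (j : Fin (2 ^ k)) :
    opMono F k x (Pi.single j 1) = bitSign F (msgn k (axor k j x) x) • Pi.single (axor k j x) 1 := by
  funext i
  show bitSign F (msgn k i x) * (Pi.single j 1 : Fin (2 ^ k) → F) (axor k i x) = _
  rw [Pi.smul_apply, smul_eq_mul, Pi.single_apply, Pi.single_apply]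
  by_cases h : i = axor k j x
  · subst h
    simp [axor_self]
  · rw [if_neg h, if_neg (fun e => h (by rw [← e, axor_self])), mul_zero, mul_zero]

theorem opMono_unique (hk : k ≤ 4) (h2 : (2 : F) ≠ 0) (γ : (Fin (2 ^ k) → F) →ₗ[F] (Fin (2 ^ k) → F) →ₗ[F] F)
    (h : ∀ i < 2 * k, ∀ v w, γ (opMono F k (2 ^ i) v) (opMono F k (2 ^ i) w) = γ v w) :
    ∃ c : F, γ = c • dotForm F _ := by
  classical
  let e : Fin (2 ^ k) → Fin (2 ^ k) → F := fun i j => γ (Pi.single i 1) (Pi.single j 1)
  have hmove : ∀ x, (∃ l < 2 * k, x = 2 ^ l) → ∀ i j, e i j =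
      bitSign F (msgn k (axor k i x) x ^^ msgn k (axor k j x) x) * e (axor k i x) (axor k j x) := by
    rintro x ⟨l, hl, rfl⟩ i j
    show γ _ _ = _
    rw [← h l hl, opMono_single, opMono_single, map_smul, map_smul, LinearMap.smul_apply, smul_eq_mul,
      smul_eq_mul, ← mul_assoc, mul_comm (bitSign F _) (bitSign F _), ← bitSign_xor, Bool.xor_comm]
  have hlow : ∀ l < k, ∀ i : Fin (2 ^ k), msgn k i (2 ^ l) = false := fun l hl i => by
    rw [msgn, Nat.shiftRight_eq_zero _ _ (Nat.pow_lt_pow_right (by omega) hl), Nat.zero_and, par_zero]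
  have hhigh : ∀ l < k, ∀ i : Fin (2 ^ k), axor k i (2 ^ (k + l)) = i ∧
      msgn k i (2 ^ (k + l)) = (i : ℕ).testBit l := fun l hl i => by
    have h1 : axor k i (2 ^ (k + l)) = i := Fin.ext (by simp [axor, pow_add])
    refine ⟨h1, ?_⟩
    rw [msgn, h1, Nat.shiftRight_eq_div_pow, pow_add, Nat.mul_div_cancel_left _ (Nat.two_pow_pos k),
      Nat.and_comm, par_and_two_pow (by omega)]
  have hoff : ∀ i j, i ≠ j → e i j = 0 := by
    intro i j hij
    obtain ⟨l, hl⟩ := Nat.exists_testBit_ne_of_ne (fun e' => hij (Fin.ext e'))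
    have hlk : l < k := by
      by_contra hlk
      have hb : ∀ a : Fin (2 ^ k), (a : ℕ).testBit l = false := fun a =>
        Nat.testBit_lt_two_pow (lt_of_lt_of_le a.2 (Nat.pow_le_pow_right (by omega) (by omega)))
      exact hl (by rw [hb, hb])
    have h1 := hmove _ ⟨k + l, by omega, rfl⟩ i j
    rw [(hhigh l hlk i).1, (hhigh l hlk j).1, (hhigh l hlk i).2, (hhigh l hlk j).2] at h1
    have hx : ((i : ℕ).testBit l ^^ (j : ℕ).testBit l) = true := by
      revert hl; cases (i : ℕ).testBit l <;> cases (j : ℕ).testBit l <;> simp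
    rw [hx] at h1
    have h3 : (2 : F) * e i j = 0 := by
      rw [show bitSign F true = -1 from rfl] at h1
      linear_combination h1
    exact (mul_eq_zero.1 h3).resolve_left h2
  let o : Fin (2 ^ k) := ⟨0, Nat.two_pow_pos k⟩
  have hdiag : ∀ i, e i i = e o o := by
    intro i
    obtain ⟨n, hn⟩ := i
    induction n using Nat.strong_induction_on with
    | _ n ih =>
      by_cases h0 : n = 0
      · subst h0; rfl
      have hl : n.log2 < k := (Nat.log2_lt h0).2 hn
      rw [hmove _ ⟨n.log2, by omega, rfl⟩ ⟨n, hn⟩ ⟨n, hn⟩, Bool.xor_self, bitSign_false, one_mul]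
      have hlt : ((axor k ⟨n, hn⟩ (2 ^ n.log2) : Fin (2 ^ k)) : ℕ) < n := by
        simp only [axor, Nat.mod_eq_of_lt (Nat.pow_lt_pow_right (show 1 < 2 by omega) hl)]
        refine Nat.lt_of_testBit n.log2 ?_ (Nat.testBit_log2 h0) fun j hj => ?_
        · simp [Nat.testBit_xor, Nat.testBit_log2 h0]
        · simp [Nat.testBit_xor, Nat.testBit_two_pow, (ne_of_lt hj)]
      exact ih _ hlt _
  refine ⟨e o o, LinearMap.ext_basis (Pi.basisFun F _) (Pi.basisFun F _) fun i j => ?_⟩
  rw [LinearMap.smul_apply, LinearMap.smul_apply, Pi.basisFun_apply, Pi.basisFun_apply, smul_eq_mul]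
  show e i j = e o o * ∑ l, (Pi.single i 1 : Fin (2 ^ k) → F) l * (Pi.single j 1 : Fin (2 ^ k) → F) l
  by_cases hij : i = j
  · subst hij
    rw [hdiag, Finset.sum_eq_single i (fun l _ hl => by simp [hl]) (fun hh => absurd (Finset.mem_univ i) hh)]
    simp
  · rw [hoff i j hij, Finset.sum_eq_zero fun l _ => ?_, mul_zero]
    by_cases hli : l = i
    · subst hli; simp [hij]
    · simp [hli]

/-- The monomial model. -/
def monoModel (hk : k ≤ 4) (h2 : (2 : F) ≠ 0) : WordModel F (Fin (2 ^ k) → F) where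
  m := 2 * k
  op := opMono F k
  bt := btMono k
  form := dotForm F _
  op_zero := opMono_zero
  op_mul x _ y _ := opMono_mul x y
  isometry x _ := opMono_isometry x
  unique := opMono_unique hk h2
  dual := (dual_of_partner (btMono k) (partner k) (fun i hi => by unfold partner; split_ifs <;> omega)
    fun x hx i hi => btMono_bit hk hx hi).1
  nondeg := (dual_of_partner (btMono k) (partner k) (fun i hi => by unfold partner; split_ifs <;> omega)
    fun x hx i hi => btMono_bit hk hx hi).2

end Cfsg.Agent.CopBase
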