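import Cfsg.Agent.Lib.CopBase.Pairing
import Cfsg.Agent.Lib.CopBase.Monomial

/-!
Coordinates adapted to commuting involutions, and two vectors from a chart of the layer.
-/

set_option autoImplicit false
set_option linter.style.haveILetI false
set_option linter.unusedSectionVars false

namespace Cfsg.Agent.CopBase

open PrimSol SolBase

universe u v

section coords
variable {F : Type*} [Field F] {V : Type v} [AddCommGroup V] [Module F V]

/-- The product of the involutions with given bits. -/
def tProd (t : ℕ → Module.End F V) : ℕ → ℕ → Module.End F V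
  | 0, _ => 1
  | m + 1, j => (if j.testBit m then t m else 1) * tProd t m j

variable {k : ℕ} {t s : ℕ → Module.End F V}

lemma tProd_congr {m j j' : ℕ} (h : ∀ l < m, j.testBit l = j'.testBit l) : tProd t m j = tProd t m j' := by
  induction m with
  | zero => rfl
  | succ m ih =>
    show _ * _ = _ * _
    rw [h m (by omega), ih fun l hl => h l (by omega)]

lemma tProd_commute (htt : ∀ i < k, ∀ j < k, t i * t j = t j * t i) {m : ℕ} (hm : m ≤ k) {l : ℕ} (hl : l < k)
    (j : ℕ) : t l * tProd t m j = tProd t m j * t l := by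
  induction m with
  | zero => simp [tProd]
  | succ m ih =>
    show t l * (_ * _) = (_ * _) * t l
    rw [mul_assoc, ← ih (by omega), ← mul_assoc, ← mul_assoc]
    congr 1
    split
    · exact htt l hl m (by omega)
    · rw [mul_one, one_mul]

lemma t_tProd (htt : ∀ i < k, ∀ j < k, t i * t j = t j * t i) (ht1 : ∀ i < k, t i * t i = 1) {m : ℕ} (hm : m ≤ k)
    {l : ℕ} (hl : l < m) (j : ℕ) : t l * tProd t m j = tProd t m (j ^^^ 2 ^ l) := by
  induction m with
  | zero => omega
  | succ m ih =>
    show t l * (_ * _) = _ * _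
    have hb : ∀ i, (j ^^^ 2 ^ l).testBit i = (j.testBit i ^^ decide (l = i)) := fun i => by
      rw [Nat.testBit_xor, Nat.testBit_two_pow]
    rcases eq_or_lt_of_le (Nat.lt_succ_iff.1 hl) with rfl | hlm
    · rw [tProd_congr (j := j ^^^ 2 ^ l) (j' := j) fun i hi => by rw [hb, decide_eq_false (by omega), Bool.xor_false],
        hb, decide_eq_true rfl, ← mul_assoc]
      congr 1
      cases j.testBit l <;> simp [ht1 l (by omega)]
    · rw [hb, decide_eq_false (ne_of_lt hlm), Bool.xor_false, ← ih (by omega) hlm, ← mul_assoc, ← mul_assoc]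
      congr 1
      split
      · exact htt l (by omega) m (by omega)
      · rw [mul_one, one_mul]

lemma s_tProd (hst : ∀ i < k, ∀ j < k, s i * t j = bitSign F (decide (i = j)) • (t j * s i)) {l : ℕ} (hl : l < k)
    {m : ℕ} (hm : m ≤ k) (j : ℕ) :
    s l * tProd t m j = bitSign F (decide (l < m) && j.testBit l) • (tProd t m j * s l) := by
  induction m with
  | zero => simp [tProd, bitSign]
  | succ m ih =>
    show s l * (_ * _) = bitSign F _ • (_ * _ * s l)
    cases hb : j.testBit m
    · simp only [Bool.false_eq_true, if_false, one_mul, ih (by omega)]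
      congr 2
      by_cases hlm : l = m
      · subst hlm; simp [hb]
      · rw [decide_eq_decide.2 (show l < m ↔ l < m + 1 by omega)]
    · simp only [if_true]
      rw [← mul_assoc, hst l hl m (by omega), smul_mul_assoc, mul_assoc, ih (by omega), mul_smul_comm, smul_smul,
        ← bitSign_xor, ← mul_assoc]
      congr 2
      by_cases hlm : l = m
      · subst hlm; simp [hb]
      · rw [decide_eq_decide.2 (show l < m ↔ l < m + 1 by omega), decide_eq_false hlm, Bool.false_xor]

variable (t k) {U : Type*} [AddCommGroup U] [Module F U] (j : U →ₗ[F] V)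

/-- Coordinates along the translates of a subspace. -/
def coordMap : (Fin (2 ^ k) → U) →ₗ[F] V where
  toFun v := ∑ i : Fin (2 ^ k), tProd t k (i : ℕ) (j (v i))
  map_add' v w := by simp [Finset.sum_add_distrib]
  map_smul' c v := by simp [Finset.smul_sum]

variable {t k j}

lemma coordMap_single [DecidableEq (Fin (2 ^ k))] (i : Fin (2 ^ k)) (x : U) :
    coordMap k t j (Pi.single i x) = tProd t k i (j x) := by
  show ∑ l : Fin (2 ^ k), tProd t k (l : ℕ) (j ((Pi.single i x : Fin (2 ^ k) → U) l)) = _
  rw [Finset.sum_eq_single i (fun l _ hl => by simp [hl]) (fun hh => absurd (Finset.mem_univ i) hh)]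
  simp

lemma t_coordMap (htt : ∀ i < k, ∀ j < k, t i * t j = t j * t i) (ht1 : ∀ i < k, t i * t i = 1) {l : ℕ}
    (hl : l < k) (v : Fin (2 ^ k) → U) :
    t l (coordMap k t j v) = coordMap k t j (fun i => v (axor k i (2 ^ l))) := by
  show t l (∑ i : Fin (2 ^ k), tProd t k (i : ℕ) (j (v i))) =
    ∑ i : Fin (2 ^ k), tProd t k (i : ℕ) (j (v (axor k i (2 ^ l))))
  rw [map_sum, ← Equiv.sum_comp (Function.Involutive.toPerm (fun i : Fin (2 ^ k) => axor k i (2 ^ l))
    fun i => axor_self i _) fun i => t l (tProd t k i (j (v i)))]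
  refine Finset.sum_congr rfl fun i _ => ?_
  show t l (tProd t k (axor k i (2 ^ l) : ℕ) (j (v (axor k i (2 ^ l))))) = _
  rw [← Module.End.mul_apply, t_tProd htt ht1 le_rfl hl]
  congr 2
  simp only [axor, Nat.mod_eq_of_lt (Nat.pow_lt_pow_right (show 1 < 2 by omega) hl), Nat.xor_assoc, Nat.xor_self,
    Nat.xor_zero]

lemma s_coordMap (hst : ∀ i < k, ∀ j < k, s i * t j = bitSign F (decide (i = j)) • (t j * s i))
    (hfix : ∀ i < k, ∀ x, s i (j x) = j x) {l : ℕ} (hl : l < k) (v : Fin (2 ^ k) → U) :
    s l (coordMap k t j v) = coordMap k t j (fun i => bitSign F ((i : ℕ).testBit l) • v i) := by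
  show s l (∑ i : Fin (2 ^ k), tProd t k (i : ℕ) (j (v i))) =
    ∑ i : Fin (2 ^ k), tProd t k (i : ℕ) (j (bitSign F ((i : ℕ).testBit l) • v i))
  rw [map_sum]
  refine Finset.sum_congr rfl fun i _ => ?_
  rw [← Module.End.mul_apply, s_tProd hst hl le_rfl, LinearMap.smul_apply, Module.End.mul_apply, hfix l hl,
    map_smul, map_smul, decide_eq_true hl, Bool.true_and]

theorem coordMap_bijective (h2 : (2 : F) ≠ 0) (htt : ∀ i < k, ∀ j < k, t i * t j = t j * t i)
    (ht1 : ∀ i < k, t i * t i = 1) (hs1 : ∀ i < k, s i * s i = 1)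
    (hss : ∀ i < k, ∀ j < k, s i * s j = s j * s i)
    (hst : ∀ i < k, ∀ j < k, s i * t j = bitSign F (decide (i = j)) • (t j * s i))
    (hj : Function.Injective j) (hfix : ∀ i < k, ∀ x, s i (j x) = j x)
    (hW : ∀ x, (∀ i < k, s i x = x) → ∃ y, j y = x) : Function.Bijective (coordMap k t j) := by
  classical
  refine ⟨?_, ?_⟩
  · rw [← LinearMap.ker_eq_bot, LinearMap.ker_eq_bot']
    intro v hv
    have key : ∀ m ≤ k, ∀ v : Fin (2 ^ k) → U, coordMap k t j v = 0 → ∀ i0 : Fin (2 ^ k),
        coordMap k t j (fun i => if ∀ l < m, (i : ℕ).testBit l = (i0 : ℕ).testBit l then v i else 0) = 0 := by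
      intro m
      induction m with
      | zero => intro _ v hv i0; simpa using hv
      | succ m ih =>
        intro hm v hv i0
        set u : Fin (2 ^ k) → U := fun i => if ∀ l < m, (i : ℕ).testBit l = (i0 : ℕ).testBit l then v i else 0 with hu
        have h0 := ih (by omega) v hv i0
        have h1 := s_coordMap (j := j) hst hfix (show m < k by omega) u
        rw [h0, map_zero] at h1
        set b := (i0 : ℕ).testBit m with hb
        have e : u + bitSign F b • (fun i : Fin (2 ^ k) => bitSign F ((i : ℕ).testBit m) • u i) =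
            (2 : F) • (fun i : Fin (2 ^ k) =>
              if ∀ l < m + 1, (i : ℕ).testBit l = (i0 : ℕ).testBit l then v i else 0) := by
          funext i
          simp only [Pi.add_apply, Pi.smul_apply, smul_smul, ← bitSign_xor, hu]
          by_cases hlow : ∀ l < m, (i : ℕ).testBit l = (i0 : ℕ).testBit l
          · rw [if_pos hlow]
            by_cases hm' : (i : ℕ).testBit m = b
            · rw [if_pos (fun l hl => (Nat.lt_succ_iff_lt_or_eq.1 hl).elim (hlow l) fun e => e ▸ hm'), hm',
                Bool.xor_self, bitSign_false, one_smul, two_smul]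
            · rw [if_neg (fun h => hm' (h m (by omega))), smul_zero]
              have hx : (b ^^ (i : ℕ).testBit m) = true := by
                revert hm'; cases b <;> cases (i : ℕ).testBit m <;> simp
              rw [hx, show bitSign F true = -1 from rfl, neg_one_smul, add_neg_cancel]
          · rw [if_neg hlow, if_neg (fun h => hlow fun l hl => h l (by omega))]
            simp
        have h3 := congrArg (coordMap k t j) e
        rw [map_add, map_smul, map_smul, h0, ← h1, smul_zero, add_zero] at h3
        exact (smul_eq_zero.1 h3.symm).resolve_left h2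
    funext i0
    have h4 := key k le_rfl v hv i0
    have e : (fun i : Fin (2 ^ k) => if ∀ l < k, (i : ℕ).testBit l = (i0 : ℕ).testBit l then v i else 0) =
        Pi.single i0 (v i0) := by
      funext i
      by_cases hi : i = i0
      · subst hi; simp
      · rw [if_neg, Pi.single_eq_of_ne hi]
        intro h
        refine hi (Fin.ext (Nat.eq_of_testBit_eq fun l => ?_))
        by_cases hl : l < k
        · exact h l hl
        · have hb : ∀ a : Fin (2 ^ k), (a : ℕ).testBit l = false := fun a =>
            Nat.testBit_lt_two_pow (lt_of_lt_of_le a.2 (Nat.pow_le_pow_right (by omega) (by omega)))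
          rw [hb, hb]
    rw [e, coordMap_single] at h4
    have hinv : ∀ m ≤ k, ∀ x, tProd t m (i0 : ℕ) x = 0 → x = 0 := by
      intro m
      induction m with
      | zero => intro _ x hx; simpa [tProd] using hx
      | succ m ih =>
        intro hm x hx
        change (_ * _ : Module.End F V) x = 0 at hx
        rw [Module.End.mul_apply] at hx
        refine ih (by omega) x ?_
        split at hx
        · have := congrArg (t m) hx
          rwa [← Module.End.mul_apply, ht1 m (by omega), Module.End.one_apply, map_zero] at this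
        · simpa using hx
    exact hj ((hinv k le_rfl _ h4).trans (map_zero j).symm)
  · have hrange : ∀ (l : ℕ), l < k → ∀ x ∈ LinearMap.range (coordMap k t j),
        t l x ∈ LinearMap.range (coordMap k t j) := by
      rintro l hl _ ⟨v, rfl⟩
      exact ⟨_, (t_coordMap htt ht1 hl v).symm⟩
    have key : ∀ d ≤ k, ∀ x, (∀ i < k - d, s i x = x) → x ∈ LinearMap.range (coordMap k t j) := by
      intro d
      induction d with
      | zero =>
        intro _ x hx
        obtain ⟨y, rfl⟩ := hW x fun i hi => hx i (by omega)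
        refine ⟨Pi.single ⟨0, Nat.two_pow_pos k⟩ y, ?_⟩
        rw [coordMap_single]
        have h1 : ∀ m, tProd t m 0 = 1 := fun m => by
          induction m with
          | zero => rfl
          | succ m ih => simp [tProd, ih]
        rw [h1, Module.End.one_apply]
      | succ d ih =>
        intro hd x hx
        set l := k - (d + 1) with hl
        have hlk : l < k := by omega
        have hsx : ∀ i < l, s i (s l x) = s l x := fun i hi => by
          rw [← Module.End.mul_apply, hss i (by omega) l hlk, Module.End.mul_apply, hx i hi]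
        have hslsl : s l (s l x) = x := by rw [← Module.End.mul_apply, hs1 l hlk, Module.End.one_apply]
        have hp : x + s l x ∈ LinearMap.range (coordMap k t j) := by
          refine ih (by omega) _ fun i hi => ?_
          rcases lt_or_eq_of_le (show i ≤ l by omega) with hil | rfl
          · rw [map_add, hx i hil, hsx i hil]
          · rw [map_add, hslsl, add_comm]
        have hm : x - s l x ∈ LinearMap.range (coordMap k t j) := by
          have hm' : t l (x - s l x) ∈ LinearMap.range (coordMap k t j) := by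
            refine ih (by omega) _ fun i hi => ?_
            rw [← Module.End.mul_apply, hst i (by omega) l hlk, LinearMap.smul_apply, Module.End.mul_apply, map_sub]
            rcases lt_or_eq_of_le (show i ≤ l by omega) with hil | rfl
            · rw [decide_eq_false (ne_of_lt hil), bitSign_false, one_smul, hx i hil, hsx i hil]
            · rw [decide_eq_true rfl, hslsl, show bitSign F true = -1 from rfl, neg_one_smul, ← map_neg, neg_sub]
          have := hrange l hlk _ hm'
          rwa [← Module.End.mul_apply, ht1 l hlk, Module.End.one_apply] at this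
        have h3 := Submodule.add_mem _ hp hm
        rw [add_add_sub_cancel, ← two_smul F] at h3
        have h4 := Submodule.smul_mem _ (2 : F)⁻¹ h3
        rwa [smul_smul, inv_mul_cancel₀ h2, one_smul] at h4
    exact fun x => key k le_rfl x fun i hi => absurd hi (by omega)

end coords

section chart
variable {F : Type*} [Field F] {V : Type v} [AddCommGroup V] [Module F V] [FiniteDimensional F V]
  [Finite V] [Nontrivial V] {G : Type u} [Group G] [Finite G] {ρ : G →* Module.End F V}
  {A E : Subgroup G}

/-- Words and elements of the layer correspond up to scalars in a chart. -/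
theorem chart_words {U : Type*} [AddCommGroup U] [Module F U] (W : WordModel F U)
    (hAK : ∀ a ∈ A, ∃ c : F, ρ a = c • (1 : Module.End F V))
    (ψ : U ≃ₗ[F] V) (hgen : ∀ i < W.m, ∃ e ∈ E, ∃ c : F, ∀ v, ψ (W.op (2 ^ i) v) = c • ρ e (ψ v))
    (hcl : ∀ X : Subgroup G, A ≤ X →
      (∀ i < W.m, ∀ e ∈ E, ∀ c : F, (∀ v, ψ (W.op (2 ^ i) v) = c • ρ e (ψ v)) → e ∈ X) → E ≤ X) :
    (∀ x, x < 2 ^ W.m → ∃ e ∈ E, ∃ c : F, ∀ v, ψ (W.op x v) = c • ρ e (ψ v)) ∧
      ∀ e ∈ E, ∃ x < 2 ^ W.m, ∃ c : F, ∀ v, ρ e (ψ v) = c • ψ (W.op x v) := by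
  classical
  have hop : ∀ x, x < 2 ^ W.m → ∃ e ∈ E, ∃ c : F, ∀ v, ψ (W.op x v) = c • ρ e (ψ v) := by
    intro x
    induction x using Nat.strong_induction_on with
    | _ x ih =>
      intro hx
      by_cases h0 : x = 0
      · subst h0; exact ⟨1, E.one_mem, 1, fun v => by simp [W.op_zero]⟩
      have hl2 : x.log2 < W.m := (Nat.log2_lt h0).2 hx
      have hp : 2 ^ x.log2 < 2 ^ W.m := Nat.pow_lt_pow_right (by omega) hl2
      have hlt : x ^^^ 2 ^ x.log2 < x := Nat.lt_of_testBit x.log2
        (by simp [Nat.testBit_xor, Nat.testBit_log2 h0]) (Nat.testBit_log2 h0)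
        fun j hj => by simp [Nat.testBit_xor, (ne_of_lt hj)]
      have hlt' := lt_trans hlt hx
      obtain ⟨e, he, c, hc⟩ := ih _ hlt hlt'
      obtain ⟨e', he', c', hc'⟩ := hgen _ hl2
      refine ⟨e' * e, E.mul_mem he' he, bitSign F (W.bt (2 ^ x.log2) (x ^^^ 2 ^ x.log2)) * (c' * c), fun v => ?_⟩
      have h1 := W.op_mul _ hp _ hlt'
      rw [show 2 ^ x.log2 ^^^ (x ^^^ 2 ^ x.log2) = x by rw [Nat.xor_comm x, ← Nat.xor_assoc, Nat.xor_self, Nat.zero_xor]] at h1
      have h3 := congrArg ψ (LinearMap.congr_fun h1 v)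
      rw [Module.End.mul_apply, hc', hc, LinearMap.smul_apply, map_smul, map_smul, smul_smul, ← Module.End.mul_apply, ← map_mul] at h3
      rw [mul_smul, h3, smul_smul, bitSign_mul_self, one_smul]
  let X : Subgroup G :=
    { carrier := {e | ∃ x < 2 ^ W.m, ∃ c : F, ∀ v, ρ e (ψ v) = c • ψ (W.op x v)}
      one_mem' := ⟨0, Nat.two_pow_pos _, 1, fun v => by simp [W.op_zero]⟩
      mul_mem' := by
        rintro e f ⟨x, hx, c, hc⟩ ⟨y, hy, d, hd⟩
        refine ⟨x ^^^ y, Nat.xor_lt_two_pow hx hy, d * (c * bitSign F (W.bt x y)), fun v => ?_⟩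
        have h1 := congrArg ψ (LinearMap.congr_fun (W.op_mul x hx y hy) v)
        rw [Module.End.mul_apply, LinearMap.smul_apply, map_smul] at h1
        rw [map_mul, Module.End.mul_apply, hd, map_smul, hc, h1, smul_smul, smul_smul, mul_assoc d]
      inv_mem' := by
        intro e he
        have key : ∀ n : ℕ, e ^ n ∈ {e | ∃ x < 2 ^ W.m, ∃ c : F, ∀ v, ρ e (ψ v) = c • ψ (W.op x v)} := by
          intro n
          induction n with
          | zero => exact ⟨0, Nat.two_pow_pos _, 1, fun v => by simp [W.op_zero]⟩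
          | succ n ih =>
            rw [pow_succ]
            obtain ⟨x, hx, c, hc⟩ := ih
            obtain ⟨y, hy, d, hd⟩ := he
            refine ⟨x ^^^ y, Nat.xor_lt_two_pow hx hy, d * (c * bitSign F (W.bt x y)), fun v => ?_⟩
            have h1 := congrArg ψ (LinearMap.congr_fun (W.op_mul x hx y hy) v)
            rw [Module.End.mul_apply, LinearMap.smul_apply, map_smul] at h1
            rw [map_mul, Module.End.mul_apply, hd, map_smul, hc, h1, smul_smul, smul_smul, mul_assoc d]
        rw [show e⁻¹ = e ^ (orderOf e - 1) from inv_eq_of_mul_eq_one_right (by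
          rw [← pow_succ', Nat.sub_add_cancel (orderOf_pos e), pow_orderOf_eq_one])]
        exact key _ }
  have hEX : E ≤ X := by
    refine hcl X (fun a' ha => ?_) fun i hi e _ c hc => ?_
    · obtain ⟨c, hc⟩ := hAK a' ha
      exact ⟨0, Nat.two_pow_pos _, c, fun v => by simp [W.op_zero, hc]⟩
    · have hp : 2 ^ i < 2 ^ W.m := Nat.pow_lt_pow_right (by omega) hi
      refine ⟨2 ^ i, hp, c⁻¹, fun v => ?_⟩
      have hc0 : c ≠ 0 := fun h => by
        obtain ⟨z, hz⟩ := exists_ne (0 : V)
        refine hz ?_
        rw [← ψ.apply_symm_apply z, ← W.op_cancel hp (ψ.symm z), map_smul, hc, h, zero_smul, smul_zero]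
      rw [hc, smul_smul, inv_mul_cancel₀ hc0, one_smul]
  exact ⟨hop, fun e he => hEX he⟩

/-- A chart of the layer and a certificate give two vectors. -/
theorem two_of_chart {U : Type*} [AddCommGroup U] [Module F U] (W : WordModel F U) (hl : IsLayer ρ A E)
    (hgA : ∀ g : G, ∀ a ∈ A, g * a = a * g) (hAK : ∀ a ∈ A, ∃ c : F, ρ a = c • (1 : Module.End F V))
    (ψ : U ≃ₗ[F] V) (hgen : ∀ i < W.m, ∃ e ∈ E, ∃ c : F, ∀ v, ψ (W.op (2 ^ i) v) = c • ρ e (ψ v))
    (hcl : ∀ X : Subgroup G, A ≤ X →
      (∀ i < W.m, ∀ e ∈ E, ∀ c : F, (∀ v, ψ (W.op (2 ^ i) v) = c • ρ e (ψ v)) → e ∈ X) → E ≤ X)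
    (a b : U) (hab : a ≠ 0 ∨ b ≠ 0) (r : ℕ) (hr : ∀ g : G, g ^ r = 1 → g = 1)
    (hcert : ∀ g : Module.End F U, Function.Injective g → Function.Surjective g → g a = a → g b = b →
      (∀ x < 2 ^ W.m, ∃ y < 2 ^ W.m, ∃ c : F, g * W.op x = c • (W.op y * g)) →
      ∀ x < 2 ^ W.m, Commute (g ^ r) (W.op x)) : Two ρ := by
  classical
  obtain ⟨hop, hEX'⟩ := chart_words W hAK ψ hgen hcl
  have hEX : ∀ {e : G}, e ∈ E → ∃ x < 2 ^ W.m, ∃ c : F, ∀ v, ρ e (ψ v) = c • ψ (W.op x v) := fun he => hEX' _ he
  refine ⟨ψ a, ψ b, fun g hga hgb => ?_⟩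
  let g' : Module.End F U := ψ.symm.toLinearMap ∘ₗ ρ g ∘ₗ ψ.toLinearMap
  have hg' : ∀ v, ψ (g' v) = ρ g (ψ v) := fun v => ψ.apply_symm_apply _
  have hginj : Function.Injective g' := fun x y h =>
    ψ.injective (apply_injective ρ g (by rw [← hg', ← hg', h]))
  have hgsurj : Function.Surjective g' := fun y => ⟨ψ.symm (ρ g⁻¹ (ψ y)), ψ.injective (by
    rw [hg', ψ.apply_symm_apply, apply_inv_cancel])⟩
  have hcom := hcert g' hginj hgsurj (ψ.injective (by rw [hg', hga])) (ψ.injective (by rw [hg', hgb]))
    fun x hx => by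
      obtain ⟨e, he, c, hc⟩ := hop x hx
      obtain ⟨y, hy, d, hd⟩ := hEX (hl.normal.conj_mem e he g)
      refine ⟨y, hy, c * d, LinearMap.ext fun v => ψ.injective ?_⟩
      rw [Module.End.mul_apply, hg', hc, map_smul, LinearMap.smul_apply, map_smul, Module.End.mul_apply, mul_smul,
        ← hd (g' v), hg', ← Module.End.mul_apply, ← map_mul, ← Module.End.mul_apply, ← map_mul,
        inv_mul_cancel_right]
  have hgr : ∀ n : ℕ, ∀ v, ψ ((g' ^ n) v) = ρ (g ^ n) (ψ v) := by
    intro n
    induction n with
    | zero => intro v; simp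
    | succ n ih => intro v; rw [pow_succ', Module.End.mul_apply, hg', ih, pow_succ', map_mul, Module.End.mul_apply]
  have hEc : ∀ f ∈ E, g ^ r * f = f * g ^ r := by
    intro f hf
    obtain ⟨x, hx, c, hc⟩ := hEX hf
    refine hl.inj (LinearMap.ext fun z => ?_)
    obtain ⟨v, rfl⟩ := ψ.surjective z
    have h1 : (g' ^ r) (W.op x v) = W.op x ((g' ^ r) v) := LinearMap.congr_fun (hcom x hx).eq v
    rw [map_mul, map_mul, Module.End.mul_apply, Module.End.mul_apply, hc, map_smul, ← hgr, h1, ← hgr, hc]
  have hmem : g ^ r ∈ A := hl.self _ (hgA _) hEc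
  have hfix : ∀ z, ρ g z = z → ∀ n : ℕ, ρ (g ^ n) z = z := fun z hz n => by
    induction n with
    | zero => simp
    | succ n ih => rw [pow_succ', map_mul, Module.End.mul_apply, ih, hz]
  refine hr g ?_
  rcases hab with h | h
  · exact hl.eq_one hmem (fun e => h (ψ.injective (e.trans (map_zero ψ).symm))) (hfix _ hga r)
  · exact hl.eq_one hmem (fun e => h (ψ.injective (e.trans (map_zero ψ).symm))) (hfix _ hgb r)

end chart

end Cfsg.Agent.CopBase
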