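import Cfsg.Agent.Lib.CopBase.Monomial

/-!
The signed translations and sign changes tensored with a quaternion block, in characteristic three.
-/

set_option autoImplicit false
set_option linter.style.haveILetI false

namespace Cfsg.Agent.CopBase

/-- The quaternion block of two bits: powers of a quarter turn and of a symmetric map. -/
def qMat (c : ℕ) : Fin 2 → Fin 2 → ZMod 3 :=
  match c % 4 with
  | 0 => ![![1, 0], ![0, 1]]
  | 1 => ![![0, -1], ![1, 0]]
  | 2 => ![![1, 1], ![1, -1]]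
  | _ => ![![-1, 1], ![1, 1]]

/-- The sign bit of a product of two quaternion blocks. -/
def qBt (c d : ℕ) : Bool :=
  (c.testBit 1 && d.testBit 0) ^^ (c.testBit 0 && d.testBit 0) ^^ (c.testBit 1 && d.testBit 1)

lemma qMat_mul : ∀ c < 4, ∀ d < 4, ∀ r s : Fin 2,
    qMat c r 0 * qMat d 0 s + qMat c r 1 * qMat d 1 s =
      (if qBt c d then -1 else 1) * qMat (c ^^^ d) r s := by decide +kernel

lemma qMat_det : ∀ c < 4, qMat c 0 0 * qMat c 1 1 - qMat c 0 1 * qMat c 1 0 = 1 := by decide +kernel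

/-- The sign bit of a product in the quaternion model. -/
def btQuat (k x y : ℕ) : Bool := btMono k x y ^^ qBt (x >>> (2 * k)) (y >>> (2 * k))

lemma qBt_zero : ∀ d, qBt 0 d = false ∧ qBt d 0 = false := fun d => by simp [qBt]

lemma qBt_bit (c : ℕ) : (qBt c 1 ^^ qBt 1 c) = c.testBit 1 ∧ (qBt c 2 ^^ qBt 2 c) = c.testBit 0 := by
  simp only [qBt, show Nat.testBit 1 0 = true from rfl, show Nat.testBit 1 1 = false from rfl,
    show Nat.testBit 2 0 = false from rfl, show Nat.testBit 2 1 = true from rfl]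
  cases c.testBit 0 <;> cases c.testBit 1 <;> decide

lemma btQuat_bit {k : ℕ} (hk : k ≤ 4) {x : ℕ} (hx : x < 2 ^ (2 * k + 2)) {i : ℕ} (hi : i < 2 * k + 2) :
    (btQuat k x (2 ^ i) ^^ btQuat k (2 ^ i) x) = x.testBit (partner k i) := by
  by_cases hik : i < 2 * k
  · have hz : (2 ^ i) >>> (2 * k) = 0 := Nat.shiftRight_eq_zero _ _ (Nat.pow_lt_pow_right (by omega) hik)
    unfold btQuat
    rw [hz, (qBt_zero _).1, (qBt_zero _).2, Bool.xor_false, Bool.xor_false]
    have hpi : partner k i < 2 * k := by unfold partner; split_ifs <;> omega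
    set x' := x % 2 ^ (2 * k) with hx'
    have hb := btMono_bit hk (x := x') (Nat.mod_lt _ (Nat.two_pow_pos _)) hik
    rw [hx', Nat.testBit_mod_two_pow, decide_eq_true hpi, Bool.true_and] at hb
    rw [← hb]
    have e1 : x % 2 ^ k = x' % 2 ^ k := by
      rw [hx', Nat.mod_mod_of_dvd _ (Nat.pow_dvd_pow 2 (by omega))]
    have e2 : ∀ a, a < 2 ^ k → (x >>> k) &&& a = (x' >>> k) &&& a := fun a ha => by
      refine Nat.eq_of_testBit_eq fun j => ?_
      simp only [Nat.testBit_and, Nat.testBit_shiftRight, hx', Nat.testBit_mod_two_pow]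
      by_cases hj : j < k
      · simp [show k + j < 2 * k by omega]
      · rw [Nat.testBit_lt_two_pow (lt_of_lt_of_le ha (Nat.pow_le_pow_right (by omega) (by omega))),
          Bool.and_false, Bool.and_false]
    unfold btMono
    rw [e2 _ (Nat.mod_lt _ (Nat.two_pow_pos k)), e1]
  · have hp : (2 : ℕ) ^ i % 2 ^ k = 0 := Nat.mod_eq_zero_of_dvd (Nat.pow_dvd_pow 2 (by omega))
    have hlow : ∀ y, ((2 ^ i) >>> k) &&& (y % 2 ^ k) = 0 := fun y => by
      refine Nat.eq_of_testBit_eq fun j => ?_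
      simp only [Nat.testBit_and, Nat.testBit_shiftRight, Nat.testBit_two_pow, Nat.testBit_mod_two_pow,
        Nat.zero_testBit]
      by_cases hj : j < k
      · simp [show i ≠ k + j by omega]
      · simp [hj]
    unfold btQuat btMono
    rw [hp, Nat.and_zero, hlow, par_zero, Bool.false_xor, Bool.false_xor]
    have hx2 : ∀ j, (x >>> (2 * k)).testBit j = x.testBit (2 * k + j) := fun j => Nat.testBit_shiftRight x
    rcases (show i = 2 * k ∨ i = 2 * k + 1 by omega) with rfl | rfl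
    · rw [Nat.shiftRight_eq_div_pow (2 ^ (2 * k)), Nat.div_self (Nat.two_pow_pos _), (qBt_bit _).1, hx2]
      simp [partner, show ¬ 2 * k < k by omega]
    · rw [Nat.shiftRight_eq_div_pow (2 ^ (2 * k + 1)), pow_succ, Nat.mul_div_cancel_left _ (Nat.two_pow_pos _),
        (qBt_bit _).2, hx2]
      simp [partner, show ¬ 2 * k + 1 < k by omega, show ¬ 2 * k + 1 < 2 * k by omega]

variable (F : Type*) [Field F] [CharP F 3] (k : ℕ)

/-- The quaternion entries in the field. -/
def qEnt (x : ℕ) (r s : Fin 2) : F := ZMod.castHom (dvd_refl 3) F (qMat (x >>> (2 * k)) r s)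

/-- A word acting on coordinates with quaternion blocks. -/
def opQuat (x : ℕ) : Module.End F (Fin (2 ^ k) × Fin 2 → F) where
  toFun v := fun p => bitSign F (msgn k p.1 x) *
    (qEnt F k x p.2 0 * v (axor k p.1 x, 0) + qEnt F k x p.2 1 * v (axor k p.1 x, 1))
  map_add' v w := funext fun p => by simp only [Pi.add_apply]; ring
  map_smul' c v := funext fun p => by simp only [Pi.smul_apply, smul_eq_mul, RingHom.id_apply]; ring

/-- The alternating form. -/
def altForm : (Fin (2 ^ k) × Fin 2 → F) →ₗ[F] (Fin (2 ^ k) × Fin 2 → F) →ₗ[F] F :=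
  LinearMap.mk₂ F (fun v w => ∑ i, (v (i, 0) * w (i, 1) - v (i, 1) * w (i, 0)))
    (fun a b w => by rw [← Finset.sum_add_distrib]; exact Finset.sum_congr rfl fun i _ => (by
      simp only [Pi.add_apply]; ring))
    (fun c a w => by rw [smul_eq_mul, Finset.mul_sum]; exact Finset.sum_congr rfl fun i _ => (by
      simp only [Pi.smul_apply, smul_eq_mul]; ring))
    (fun a b w => by rw [← Finset.sum_add_distrib]; exact Finset.sum_congr rfl fun i _ => (by
      simp only [Pi.add_apply]; ring))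
    (fun c a w => by rw [smul_eq_mul, Finset.mul_sum]; exact Finset.sum_congr rfl fun i _ => (by
      simp only [Pi.smul_apply, smul_eq_mul]; ring))

variable {F k}

lemma shift_lt {x : ℕ} (hx : x < 2 ^ (2 * k + 2)) : x >>> (2 * k) < 4 := by
  rw [Nat.shiftRight_eq_div_pow, Nat.div_lt_iff_lt_mul (Nat.two_pow_pos _)]
  rwa [pow_add, mul_comm] at hx

lemma qEnt_mul {x y : ℕ} (hx : x < 2 ^ (2 * k + 2)) (hy : y < 2 ^ (2 * k + 2)) (r s : Fin 2) :
    qEnt F k x r 0 * qEnt F k y 0 s + qEnt F k x r 1 * qEnt F k y 1 s =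
      bitSign F (qBt (x >>> (2 * k)) (y >>> (2 * k))) * qEnt F k (x ^^^ y) r s := by
  simp only [qEnt, ← map_mul, ← map_add, qMat_mul _ (shift_lt hx) _ (shift_lt hy), Nat.shiftRight_xor_distrib]
  rw [map_mul]
  congr 1
  unfold bitSign
  split <;> simp

theorem opQuat_zero : opQuat F k 0 = 1 := by
  refine LinearMap.ext fun v => funext fun p => ?_
  show bitSign F (msgn k p.1 0) * (qEnt F k 0 p.2 0 * v (axor k p.1 0, 0) + qEnt F k 0 p.2 1 * v (axor k p.1 0, 1)) = v p
  rw [show axor k p.1 0 = p.1 from Fin.ext (by simp [axor]), show msgn k p.1 0 = false by simp [msgn, par_zero],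
    bitSign_false, one_mul]
  obtain ⟨i, r⟩ := p
  fin_cases r <;> simp [qEnt, qMat]

theorem opQuat_mul {x y : ℕ} (hx : x < 2 ^ (2 * k + 2)) (hy : y < 2 ^ (2 * k + 2)) :
    opQuat F k x * opQuat F k y = bitSign F (btQuat k x y) • opQuat F k (x ^^^ y) := by
  refine LinearMap.ext fun v => funext fun p => ?_
  show bitSign F (msgn k p.1 x) * (qEnt F k x p.2 0 * (bitSign F (msgn k (axor k p.1 x) y) *
      (qEnt F k y 0 0 * v (axor k (axor k p.1 x) y, 0) + qEnt F k y 0 1 * v (axor k (axor k p.1 x) y, 1))) +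
      qEnt F k x p.2 1 * (bitSign F (msgn k (axor k p.1 x) y) *
      (qEnt F k y 1 0 * v (axor k (axor k p.1 x) y, 0) + qEnt F k y 1 1 * v (axor k (axor k p.1 x) y, 1)))) =
    bitSign F (btQuat k x y) * (bitSign F (msgn k p.1 (x ^^^ y)) *
      (qEnt F k (x ^^^ y) p.2 0 * v (axor k p.1 (x ^^^ y), 0) + qEnt F k (x ^^^ y) p.2 1 * v (axor k p.1 (x ^^^ y), 1)))
  rw [axor_axor]
  have h0 := qEnt_mul (F := F) hx hy p.2 0
  have h1 := qEnt_mul (F := F) hx hy p.2 1
  have hs : bitSign F (msgn k p.1 x) * bitSign F (msgn k (axor k p.1 x) y) =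
      bitSign F (btMono k x y) * bitSign F (msgn k p.1 (x ^^^ y)) := by
    rw [← bitSign_xor, msgn_mul, bitSign_xor]
  rw [btQuat, bitSign_xor]
  linear_combination
    (bitSign F (msgn k p.1 x) * bitSign F (msgn k (axor k p.1 x) y)) * v (axor k p.1 (x ^^^ y), 0) * h0 +
    (bitSign F (msgn k p.1 x) * bitSign F (msgn k (axor k p.1 x) y)) * v (axor k p.1 (x ^^^ y), 1) * h1 +
    (bitSign F (qBt (x >>> (2 * k)) (y >>> (2 * k))) *
      (qEnt F k (x ^^^ y) p.2 0 * v (axor k p.1 (x ^^^ y), 0) +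
        qEnt F k (x ^^^ y) p.2 1 * v (axor k p.1 (x ^^^ y), 1))) * hs

theorem opQuat_isometry {x : ℕ} (hx : x < 2 ^ (2 * k + 2)) (v w : Fin (2 ^ k) × Fin 2 → F) :
    altForm F k (opQuat F k x v) (opQuat F k x w) = altForm F k v w := by
  show ∑ i, ((opQuat F k x v) (i, 0) * (opQuat F k x w) (i, 1) - (opQuat F k x v) (i, 1) * (opQuat F k x w) (i, 0)) =
    ∑ i, (v (i, 0) * w (i, 1) - v (i, 1) * w (i, 0))
  rw [← Equiv.sum_comp (Function.Involutive.toPerm (fun i : Fin (2 ^ k) => axor k i x) fun i => axor_self i x)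
    fun i => v (i, 0) * w (i, 1) - v (i, 1) * w (i, 0)]
  refine Finset.sum_congr rfl fun i _ => ?_
  have hdet : qEnt F k x 0 0 * qEnt F k x 1 1 - qEnt F k x 0 1 * qEnt F k x 1 0 = 1 := by
    simp only [qEnt, ← map_mul, ← map_sub, qMat_det _ (shift_lt hx), map_one]
  have hs := bitSign_mul_self (F := F) (msgn k i x)
  show bitSign F (msgn k i x) * (qEnt F k x 0 0 * v (axor k i x, 0) + qEnt F k x 0 1 * v (axor k i x, 1)) *
      (bitSign F (msgn k i x) * (qEnt F k x 1 0 * w (axor k i x, 0) + qEnt F k x 1 1 * w (axor k i x, 1))) -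
    bitSign F (msgn k i x) * (qEnt F k x 1 0 * v (axor k i x, 0) + qEnt F k x 1 1 * v (axor k i x, 1)) *
      (bitSign F (msgn k i x) * (qEnt F k x 0 0 * w (axor k i x, 0) + qEnt F k x 0 1 * w (axor k i x, 1))) =
    v (axor k i x, 0) * w (axor k i x, 1) - v (axor k i x, 1) * w (axor k i x, 0)
  linear_combination (v (axor k i x, 0) * w (axor k i x, 1) - v (axor k i x, 1) * w (axor k i x, 0)) *
    (bitSign F (msgn k i x) * bitSign F (msgn k i x) * hdet + hs)

theorem opQuat_single (x : ℕ) (j : Fin (2 ^ k)) (s : Fin 2) :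
    opQuat F k x (Pi.single (j, s) 1) =
      (bitSign F (msgn k (axor k j x) x) * qEnt F k x 0 s) • Pi.single (axor k j x, 0) 1 +
      (bitSign F (msgn k (axor k j x) x) * qEnt F k x 1 s) • Pi.single (axor k j x, 1) 1 := by
  funext p
  obtain ⟨i, r⟩ := p
  show bitSign F (msgn k i x) * (qEnt F k x r 0 * (Pi.single (j, s) 1 : Fin (2 ^ k) × Fin 2 → F) (axor k i x, 0) +
    qEnt F k x r 1 * (Pi.single (j, s) 1 : Fin (2 ^ k) × Fin 2 → F) (axor k i x, 1)) = _
  simp only [Pi.add_apply, Pi.smul_apply, smul_eq_mul, Pi.single_apply]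
  by_cases h : i = axor k j x
  · subst h
    fin_cases r <;> fin_cases s <;> simp [axor_self]
  · have h' : axor k i x ≠ j := fun e => h (by rw [← e, axor_self])
    simp [h, h']

theorem opQuat_unique (hk : k ≤ 4) (h2 : (2 : F) ≠ 0)
    (γ : (Fin (2 ^ k) × Fin 2 → F) →ₗ[F] (Fin (2 ^ k) × Fin 2 → F) →ₗ[F] F)
    (h : ∀ i < 2 * k + 2, ∀ v w, γ (opQuat F k (2 ^ i) v) (opQuat F k (2 ^ i) w) = γ v w) :
    ∃ c : F, γ = c • altForm F k := by
  classical
  let e : Fin (2 ^ k) → Fin 2 → Fin (2 ^ k) → Fin 2 → F := fun i r j s => γ (Pi.single (i, r) 1) (Pi.single (j, s) 1)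
  have hid : ∀ x, x >>> (2 * k) = 0 → ∀ r s : Fin 2, qEnt F k x r s = if r = s then 1 else 0 := by
    intro x hx r s
    rw [qEnt, hx]
    fin_cases r <;> fin_cases s <;> simp [qMat]
  have hmove : ∀ l < 2 * k, ∀ i r j s, e i r j s =
      bitSign F (msgn k (axor k i (2 ^ l)) (2 ^ l) ^^ msgn k (axor k j (2 ^ l)) (2 ^ l)) *
        e (axor k i (2 ^ l)) r (axor k j (2 ^ l)) s := by
    intro l hl i r j s
    have hz : (2 ^ l) >>> (2 * k) = 0 := Nat.shiftRight_eq_zero _ _ (Nat.pow_lt_pow_right (by omega) hl)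
    show γ _ _ = _
    rw [← h l (by omega), opQuat_single, opQuat_single, bitSign_xor]
    simp only [hid _ hz]
    fin_cases r <;> fin_cases s <;> simp [e] <;> ring
  have hhigh : ∀ l < k, ∀ i : Fin (2 ^ k), axor k i (2 ^ (k + l)) = i ∧
      msgn k i (2 ^ (k + l)) = (i : ℕ).testBit l := fun l hl i => by
    have h1 : axor k i (2 ^ (k + l)) = i := Fin.ext (by simp [axor, pow_add])
    refine ⟨h1, ?_⟩
    rw [msgn, h1, Nat.shiftRight_eq_div_pow, pow_add, Nat.mul_div_cancel_left _ (Nat.two_pow_pos k),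
      Nat.and_comm, par_and_two_pow (by omega)]
  have hoff : ∀ i r j s, i ≠ j → e i r j s = 0 := by
    intro i r j s hij
    obtain ⟨l, hl⟩ := Nat.exists_testBit_ne_of_ne (fun e' => hij (Fin.ext e'))
    have hlk : l < k := by
      by_contra hlk
      have hb : ∀ a : Fin (2 ^ k), (a : ℕ).testBit l = false := fun a =>
        Nat.testBit_lt_two_pow (lt_of_lt_of_le a.2 (Nat.pow_le_pow_right (by omega) (by omega)))
      exact hl (by rw [hb, hb])
    have h1 := hmove (k + l) (by omega) i r j s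
    rw [(hhigh l hlk i).1, (hhigh l hlk j).1, (hhigh l hlk i).2, (hhigh l hlk j).2] at h1
    have hx : ((i : ℕ).testBit l ^^ (j : ℕ).testBit l) = true := by
      revert hl; cases (i : ℕ).testBit l <;> cases (j : ℕ).testBit l <;> simp
    rw [hx, show bitSign F true = -1 from rfl] at h1
    have h3 : (2 : F) * e i r j s = 0 := by linear_combination h1
    exact (mul_eq_zero.1 h3).resolve_left h2
  let o : Fin (2 ^ k) := ⟨0, Nat.two_pow_pos k⟩
  have hdiag : ∀ i r s, e i r i s = e o r o s := by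
    intro i r s
    obtain ⟨n, hn⟩ := i
    induction n using Nat.strong_induction_on with
    | _ n ih =>
      by_cases h0 : n = 0
      · subst h0; rfl
      have hl : n.log2 < k := (Nat.log2_lt h0).2 hn
      rw [hmove n.log2 (by omega) ⟨n, hn⟩ r ⟨n, hn⟩ s, Bool.xor_self, bitSign_false, one_mul]
      have hlt : ((axor k ⟨n, hn⟩ (2 ^ n.log2) : Fin (2 ^ k)) : ℕ) < n := by
        simp only [axor, Nat.mod_eq_of_lt (Nat.pow_lt_pow_right (show 1 < 2 by omega) hl)]
        refine Nat.lt_of_testBit n.log2 ?_ (Nat.testBit_log2 h0) fun j hj => ?_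
        · simp [Nat.testBit_xor, Nat.testBit_log2 h0]
        · simp [Nat.testBit_xor, (ne_of_lt hj)]
      exact ih _ hlt _
  -- the block at the origin
  have hblock : e o 0 o 0 = 0 ∧ e o 1 o 1 = 0 ∧ e o 1 o 0 = -e o 0 o 1 := by
    have hax : ∀ l, 2 * k ≤ l → axor k o (2 ^ l) = o ∧ msgn k o (2 ^ l) = false := fun l hl => by
      have h1 : axor k o (2 ^ l) = o := Fin.ext (by
        show 0 ^^^ 2 ^ l % 2 ^ k = 0
        rw [Nat.mod_eq_zero_of_dvd (Nat.pow_dvd_pow 2 (by omega)), Nat.xor_zero])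
      refine ⟨h1, ?_⟩
      rw [msgn, h1]
      simp [o, par_zero]
    have hq1 : ∀ r s : Fin 2, qEnt F k (2 ^ (2 * k)) r s = ZMod.castHom (dvd_refl 3) F (qMat 1 r s) := fun r s => by
      rw [qEnt, Nat.shiftRight_eq_div_pow, Nat.div_self (Nat.two_pow_pos _)]
    have hq2 : ∀ r s : Fin 2, qEnt F k (2 ^ (2 * k + 1)) r s = ZMod.castHom (dvd_refl 3) F (qMat 2 r s) := fun r s => by
      rw [qEnt, Nat.shiftRight_eq_div_pow, pow_succ, Nat.mul_div_cancel_left _ (Nat.two_pow_pos _)]
    have hact : ∀ l, 2 * k ≤ l → ∀ s, opQuat F k (2 ^ l) (Pi.single (o, s) 1) =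
        qEnt F k (2 ^ l) 0 s • Pi.single (o, 0) 1 + qEnt F k (2 ^ l) 1 s • Pi.single (o, 1) 1 := fun l hl s => by
      rw [opQuat_single, (hax l hl).1, (hax l hl).2, bitSign_false, one_mul, one_mul]
    have a0 : γ (opQuat F k (2 ^ (2 * k)) (Pi.single (o, 0) 1)) (opQuat F k (2 ^ (2 * k)) (Pi.single (o, 1) 1)) =
        e o 0 o 1 := h _ (by omega) _ _
    have a1 : γ (opQuat F k (2 ^ (2 * k)) (Pi.single (o, 0) 1)) (opQuat F k (2 ^ (2 * k)) (Pi.single (o, 0) 1)) =
        e o 0 o 0 := h _ (by omega) _ _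
    have b1 : γ (opQuat F k (2 ^ (2 * k + 1)) (Pi.single (o, 0) 1)) (opQuat F k (2 ^ (2 * k + 1)) (Pi.single (o, 0) 1)) =
        e o 0 o 0 := h _ (by omega) _ _
    rw [hact _ le_rfl, hact _ le_rfl] at a0
    rw [hact _ le_rfl] at a1
    rw [hact _ (by omega)] at b1
    simp only [hq1] at a0 a1
    simp only [hq2] at b1
    simp [qMat, map_add, map_smul, map_neg] at a0 a1 b1
    change -(e o 1 o 0) = e o 0 o 1 at a0
    change e o 1 o 1 = e o 0 o 0 at a1
    change (e o 0 o 0 + e o 1 o 0) + (e o 0 o 1 + e o 1 o 1) = e o 0 o 0 at b1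
    have h00 : e o 0 o 0 = 0 := by linear_combination b1 + a0 - a1
    exact ⟨h00, a1.trans h00, by linear_combination -a0⟩
  refine ⟨e o 0 o 1, LinearMap.ext_basis (Pi.basisFun F _) (Pi.basisFun F _) fun p q => ?_⟩
  obtain ⟨i, r⟩ := p
  obtain ⟨j, s⟩ := q
  rw [LinearMap.smul_apply, LinearMap.smul_apply, Pi.basisFun_apply, Pi.basisFun_apply, smul_eq_mul]
  show e i r j s = e o 0 o 1 * ∑ l : Fin (2 ^ k),
    ((Pi.single (i, r) 1 : Fin (2 ^ k) × Fin 2 → F) (l, 0) * (Pi.single (j, s) 1 : Fin (2 ^ k) × Fin 2 → F) (l, 1) -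
      (Pi.single (i, r) 1 : Fin (2 ^ k) × Fin 2 → F) (l, 1) * (Pi.single (j, s) 1 : Fin (2 ^ k) × Fin 2 → F) (l, 0))
  by_cases hij : i = j
  · subst hij
    rw [hdiag, Finset.sum_eq_single i (fun l _ hl => by simp [hl]) (fun hh => absurd (Finset.mem_univ i) hh)]
    fin_cases r <;> fin_cases s <;> simp [hblock.1, hblock.2.1, hblock.2.2]
  · rw [hoff i r j s hij, Finset.sum_eq_zero fun l _ => ?_, mul_zero]
    by_cases hli : l = i
    · subst hli; simp [hij]
    · simp [hli]

/-- The quaternion model. -/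
def quatModel (hk : k ≤ 4) (h2 : (2 : F) ≠ 0) : WordModel F (Fin (2 ^ k) × Fin 2 → F) where
  m := 2 * k + 2
  op := opQuat F k
  bt := btQuat k
  form := altForm F k
  op_zero := opQuat_zero
  op_mul x hx y hy := opQuat_mul hx hy
  isometry x hx := opQuat_isometry hx
  unique := opQuat_unique hk h2
  dual := (dual_of_partner (btQuat k) (partner k) (fun i hi => by unfold partner; split_ifs <;> omega)
    fun x hx i hi => btQuat_bit hk hx hi).1
  nondeg := (dual_of_partner (btQuat k) (partner k) (fun i hi => by unfold partner; split_ifs <;> omega)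
    fun x hx i hi => btQuat_bit hk hx hi).2

end Cfsg.Agent.CopBase
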