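import Cfsg.Agent.Lib.CopBase.Chart
import Cfsg.Agent.Lib.CopBase.Adapted
import Cfsg.Agent.Lib.CopBase.Quat

/-!
The monomial and quaternion charts of a layer with a small eigenspace.
-/

set_option autoImplicit false
set_option linter.style.haveILetI false
set_option linter.unusedSectionVars false

namespace Cfsg.Agent.CopBase

open PrimSol SolBase
open scoped commutatorElement

universe u v

variable {F : Type*} [Field F] {V : Type v} [AddCommGroup V] [Module F V] [FiniteDimensional F V]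
  [Finite V] [Nontrivial V] {G : Type u} [Group G] [Finite G] {ρ : G →* Module.End F V}
  {A E : Subgroup G} {w : V}

lemma tProd_comm_of {k : ℕ} {t : ℕ → Module.End F V} {R : Module.End F V}
    (h : ∀ i < k, R * t i = t i * R) (j : ℕ) : ∀ m ≤ k, R * tProd t m j = tProd t m j * R := by
  intro m
  induction m with
  | zero => intro _; simp [tProd]
  | succ m ih =>
    intro hm
    show R * (_ * _) = _ * _ * R
    rw [mul_assoc, ← ih (by omega), ← mul_assoc, ← mul_assoc]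
    congr 1
    split
    · exact h m (by omega)
    · rw [mul_one, one_mul]

lemma axor_two_pow_high {k l : ℕ} (hl : k ≤ l) (i : Fin (2 ^ k)) : axor k i (2 ^ l) = i :=
  Fin.ext (by
    show (i : ℕ) ^^^ 2 ^ l % 2 ^ k = i
    rw [Nat.mod_eq_zero_of_dvd (Nat.pow_dvd_pow 2 hl), Nat.xor_zero])

lemma msgn_two_pow {k l : ℕ} (hk : k ≤ 4) (i : Fin (2 ^ k)) :
    (l < k → msgn k i (2 ^ l) = false) ∧ (l < k → msgn k i (2 ^ (k + l)) = (i : ℕ).testBit l) ∧
      (2 * k ≤ l → msgn k i (2 ^ l) = false) := by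
  refine ⟨fun hl => ?_, fun hl => ?_, fun hl => ?_⟩
  · rw [msgn, Nat.shiftRight_eq_zero _ _ (Nat.pow_lt_pow_right (by omega) hl), Nat.zero_and, par_zero]
  · rw [msgn, axor_two_pow_high (by omega), Nat.shiftRight_eq_div_pow, pow_add,
      Nat.mul_div_cancel_left _ (Nat.two_pow_pos k), Nat.and_comm, par_and_two_pow (by omega)]
  · rw [msgn, axor_two_pow_high (by omega)]
    have : (2 ^ l >>> k) &&& (i : ℕ) = 0 := by
      refine Nat.eq_of_testBit_eq fun j => ?_
      simp only [Nat.testBit_and, Nat.testBit_shiftRight, Nat.testBit_two_pow, Nat.zero_testBit]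
      by_cases hj : j < k
      · simp [show l ≠ k + j by omega]
      · simp [Nat.testBit_lt_two_pow (lt_of_lt_of_le i.2 (Nat.pow_le_pow_right (show 0 < 2 by omega) (not_lt.1 hj)))]
    rw [this, par_zero]

/-- The monomial chart. -/
theorem mono_chart (ht : IsTop ρ A E w) (hsq : ∀ f ∈ E, f ^ 2 ∈ A) (h2 : (2 : F) ≠ 0)
    (hK : ∀ x ∈ alg ρ A, ∃ c : F, x = c • (1 : Module.End F V)) {k : ℕ} (hk : k ≤ 4)
    (d : Adapted ht k 1 1) (hroot : ∀ i < k, ∃ c : F, (c * c) • ρ (d.fe i ^ 2) = 1)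
    (hW1 : ∀ x ∈ space ht, ∃ c : F, c • w = x) :
    ∃ ψ : (Fin (2 ^ k) → F) ≃ₗ[F] V,
      (∀ i < (monoModel (F := F) hk h2).m, ∃ e ∈ E, ∃ c : F, ∀ v,
        ψ ((monoModel (F := F) hk h2).op (2 ^ i) v) = c • ρ e (ψ v)) ∧
      (∀ X : Subgroup G, A ≤ X → (∀ i < (monoModel (F := F) hk h2).m, ∀ e ∈ E, ∀ c : F,
        (∀ v, ψ ((monoModel (F := F) hk h2).op (2 ^ i) v) = c • ρ e (ψ v)) → e ∈ X) → E ≤ X) ∧
      ψ (Pi.single ⟨0, Nat.two_pow_pos k⟩ 1) = w := by
  obtain ⟨t, s, a, b, hta, hsb, htt, ht1, hs1, hss, hst, hsfix, hsW⟩ := d.exists_ops hsq h2 hK hroot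
  let j : F →ₗ[F] V := LinearMap.toSpanSingleton F V w
  have hj : Function.Injective j := fun x y h => smul_left_injective F ht.ne h
  have hfix : ∀ i < k, ∀ x, s i (j x) = j x := fun i hi x =>
    hsfix i hi _ ((space ht).smul_mem x (self_mem_space ht))
  have hbij := coordMap_bijective (k := k) (j := j) h2 htt ht1 hs1 hss hst hj hfix
    fun x hx => (hW1 x (hsW x hx)).imp fun c hc => hc
  let ψ := LinearEquiv.ofBijective (coordMap k t j) hbij
  have hlow : ∀ l < k, ∀ v, ψ (opMono F k (2 ^ l) v) = a l • ρ (d.fe l) (ψ v) := by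
    intro l hl v
    rw [← LinearMap.smul_apply, ← hta l hl]
    show coordMap k t j _ = t l (coordMap k t j v)
    rw [t_coordMap htt ht1 hl]
    congr 1
    funext i
    show bitSign F (msgn k i (2 ^ l)) * _ = _
    rw [(msgn_two_pow hk i).1 hl, bitSign_false, one_mul]
  have hhigh : ∀ l < k, ∀ v, ψ (opMono F k (2 ^ (k + l)) v) = b l • ρ (d.le l) (ψ v) := by
    intro l hl v
    rw [← LinearMap.smul_apply, ← hsb l hl]
    show coordMap k t j _ = s l (coordMap k t j v)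
    rw [s_coordMap hst hfix hl]
    congr 1
    funext i
    show bitSign F (msgn k i (2 ^ (k + l))) * v (axor k i (2 ^ (k + l))) = bitSign F ((i : ℕ).testBit l) • v i
    rw [(msgn_two_pow hk i).2.1 hl, axor_two_pow_high (by omega), smul_eq_mul]
  refine ⟨ψ, fun i hi => ?_, fun X hAX hX => ?_, ?_⟩
  · change i < 2 * k at hi
    by_cases hik : i < k
    · exact ⟨d.fe i, d.fe_mem i hik, a i, hlow i hik⟩
    · refine ⟨d.le (i - k), ht.L_le (d.le_mem _ (by omega)), b (i - k), fun v => ?_⟩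
      have := hhigh (i - k) (by omega) v
      rwa [show k + (i - k) = i by omega] at this
  · refine d.genE X hAX (fun i hi => hX (k + i) (show k + i < 2 * k by omega) _ (ht.L_le (d.le_mem i hi)) _ (hhigh i hi))
      (fun i hi => hX i (show i < 2 * k by omega) _ (d.fe_mem i hi) _ (hlow i hi)) X.one_mem X.one_mem
  · show coordMap k t j _ = w
    rw [coordMap_single]
    have h1 : ∀ m, tProd t m 0 = 1 := fun m => by
      induction m with
      | zero => rfl
      | succ m ih => simp [tProd, ih]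
    rw [h1, Module.End.one_apply]
    exact one_smul F w

/-- Two quaternion generators on the eigenspace. -/
theorem exists_quat_pair (ht : IsTop ρ A E w) (hsq : ∀ f ∈ E, f ^ 2 ∈ A) (h2 : (2 : F) ≠ 0)
    (hF : ∀ c : F, c ≠ 0 → c * c = 1) {m₁ m₂ : G} (hm₁ : m₁ ∈ ht.N) (hm₂ : m₂ ∈ ht.N)
    (hs1 : ρ (m₁ ^ 2) = -1) (hs2 : ρ (m₂ ^ 2) = -1) (hanti : cb m₁ m₂ = true)
    (hW2 : ∀ x ∈ space ht, ∃ p : Fin 2 → F, p 0 • w + p 1 • ρ m₁ w = x) :
    ∃ mS ∈ ht.N, ∃ c : F, (∀ X : Subgroup G, m₁ ∈ X → mS ∈ X → m₂ ∈ X) ∧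
      (∀ f, f ∈ E → cb f m₁ = false → cb f m₂ = false → cb f mS = false) ∧
      c • ρ mS w = w + ρ m₁ w ∧ c • ρ mS (ρ m₁ w) = w - ρ m₁ w := by
  have hl := ht.toIsLayer
  set u := ρ m₁ w with hu
  have hR : ρ m₁ u = -w := by
    rw [hu, ← Module.End.mul_apply, ← map_mul, ← pow_two, hs1, LinearMap.neg_apply, Module.End.one_apply]
  have hop : ρ m₂ * ρ m₁ = -(ρ m₁ * ρ m₂) := by
    rw [op_comm hl hsq h2 hm₂.1 hm₁.1, cb_symm, hanti, show bitSign F true = -1 from rfl, neg_one_smul]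
  obtain ⟨p, hp⟩ := hW2 _ (N_mem_space ht hm₂ (self_mem_space ht))
  have hpu : ρ m₂ u = -(p 0 • u) + p 1 • w := by
    have h1 := LinearMap.congr_fun hop w
    rw [Module.End.mul_apply, LinearMap.neg_apply, Module.End.mul_apply, ← hu, ← hp, map_add, map_smul, map_smul,
      hR, neg_add, smul_neg, neg_neg] at h1
    exact h1
  have hsum : p 0 * p 0 + p 1 * p 1 = -1 := by
    refine smul_left_injective F ht.ne ?_
    have h1 : ρ m₂ (ρ m₂ w) = -w := by
      rw [← Module.End.mul_apply, ← map_mul, ← pow_two, hs2, LinearMap.neg_apply, Module.End.one_apply]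
    rw [← hp, map_add, map_smul, map_smul, hpu, ← hp] at h1
    simp only [neg_one_smul]
    rw [← h1]
    module
  have hab : p 0 * p 0 = 1 ∧ p 1 * p 1 = 1 := by
    refine ⟨hF _ fun h0 => ?_, hF _ fun h0 => ?_⟩
    · rw [h0, mul_zero, zero_add] at hsum
      refine h2 ?_
      have h1 : p 1 ≠ 0 := fun e => by rw [e, mul_zero] at hsum; exact one_ne_zero (α := F) (by linear_combination hsum)
      rw [hF _ h1] at hsum
      linear_combination hsum
    · rw [h0, mul_zero, add_zero] at hsum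
      refine h2 ?_
      have h1 : p 0 ≠ 0 := fun e => by rw [e, mul_zero] at hsum; exact one_ne_zero (α := F) (by linear_combination hsum)
      rw [hF _ h1] at hsum
      linear_combination hsum
  have hpm : p 0 * p 1 = 1 ∨ p 0 * p 1 = -1 :=
    mul_self_eq_one_iff.1 (by rw [mul_mul_mul_comm, hab.1, hab.2, one_mul])
  rcases hpm with h | h
  · refine ⟨m₂, hm₂, p 0, fun X _ hX => hX, fun f _ _ hf => hf, ?_, ?_⟩
    · rw [← hp, smul_add, smul_smul, smul_smul, hab.1, h, one_smul, one_smul]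
    · rw [hpu, smul_add, smul_neg, smul_smul, smul_smul, hab.1, h, one_smul, one_smul, sub_eq_neg_add]
  · refine ⟨m₁ * m₂, ht.N.mul_mem hm₁ hm₂, p 0, fun X h1X hX => ?_, fun f hf h1 h3 => ?_, ?_, ?_⟩
    · have := X.mul_mem (X.inv_mem h1X) hX
      rwa [inv_mul_cancel_left] at this
    · rw [cb_mul_right hl hsq h2 hm₁.1 hm₂.1 hf, h1, h3]; rfl
    · rw [map_mul, Module.End.mul_apply, ← hp, map_add, map_smul, map_smul, hR, smul_add, smul_neg,
        smul_neg, smul_smul, smul_smul, hab.1, h, one_smul, neg_one_smul, neg_neg, add_comm]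
    · rw [map_mul, Module.End.mul_apply, hpu, map_add, map_neg, map_smul, map_smul, hR, smul_add, smul_neg,
        smul_neg, smul_neg, neg_neg, smul_smul, smul_smul, hab.1, h, one_smul, neg_one_smul, sub_eq_add_neg]

/-- The quaternion chart. -/
theorem quat_chart [CharP F 3] (ht : IsTop ρ A E w) (hsq : ∀ f ∈ E, f ^ 2 ∈ A) (h2 : (2 : F) ≠ 0)
    (hK : ∀ x ∈ alg ρ A, ∃ c : F, x = c • (1 : Module.End F V)) (hF : ∀ c : F, c ≠ 0 → c * c = 1)
    {k : ℕ} (hk : k ≤ 4) {m₁ m₂ : G} (hm₁ : m₁ ∈ ht.N) (hm₂ : m₂ ∈ ht.N)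
    (hs1 : ρ (m₁ ^ 2) = -1) (hs2 : ρ (m₂ ^ 2) = -1) (hanti : cb m₁ m₂ = true)
    (d : Adapted ht k m₁ m₂) (hroot : ∀ i < k, ∃ c : F, (c * c) • ρ (d.fe i ^ 2) = 1)
    (hW2 : ∀ x ∈ space ht, ∃ p : Fin 2 → F, p 0 • w + p 1 • ρ m₁ w = x) :
    ∃ ψ : (Fin (2 ^ k) × Fin 2 → F) ≃ₗ[F] V,
      (∀ i < (quatModel (F := F) hk h2).m, ∃ e ∈ E, ∃ c : F, ∀ v,
        ψ ((quatModel (F := F) hk h2).op (2 ^ i) v) = c • ρ e (ψ v)) ∧
      (∀ X : Subgroup G, A ≤ X → (∀ i < (quatModel (F := F) hk h2).m, ∀ e ∈ E, ∀ c : F,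
        (∀ v, ψ ((quatModel (F := F) hk h2).op (2 ^ i) v) = c • ρ e (ψ v)) → e ∈ X) → E ≤ X) := by
  have hl := ht.toIsLayer
  obtain ⟨mS, hmS, cS, hmX, hmcb, hSw, hSu⟩ := exists_quat_pair ht hsq h2 hF hm₁ hm₂ hs1 hs2 hanti hW2
  obtain ⟨t, s, a, b, hta, hsb, htt, ht1, hs1', hss, hst, hsfix, hsW⟩ := d.exists_ops hsq h2 hK hroot
  set u := ρ m₁ w with hu
  have hu_space : u ∈ space ht := N_mem_space ht hm₁ (self_mem_space ht)
  have hR : ρ m₁ u = -w := by
    rw [hu, ← Module.End.mul_apply, ← map_mul, ← pow_two, hs1, LinearMap.neg_apply, Module.End.one_apply]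
  let j : (Fin 2 → F) →ₗ[F] V :=
    { toFun := fun p => p 0 • w + p 1 • u
      map_add' := fun p q => by simp only [Pi.add_apply, add_smul]; abel
      map_smul' := fun c p => by simp [smul_add, smul_smul] }
  have hjv : ∀ p, j p = p 0 • w + p 1 • u := fun p => rfl
  have hj : Function.Injective j := by
    rw [injective_iff_map_eq_zero]
    intro p hp
    rw [hjv] at hp
    have hp1 : p 1 = 0 := by
      by_contra h1
      have hmw : ρ m₁ w = (-((p 1)⁻¹ * p 0)) • w := by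
        have h3 := congrArg (fun x => (p 1)⁻¹ • x) hp
        simp only [smul_add, smul_smul, inv_mul_cancel₀ h1, one_smul, smul_zero] at h3
        rw [neg_smul, ← hu]
        exact eq_neg_of_add_eq_zero_right h3
      have hL : m₁ ∈ ht.L := ⟨hm₁.1, _, Subalgebra.algebraMap_mem _ (-((p 1)⁻¹ * p 0)), by
        rw [Module.algebraMap_end_apply]; exact hmw⟩
      have := cb_eq_false.2 (hm₂.2 _ hL)
      rw [cb_symm, hanti] at this
      exact Bool.noConfusion this
    rw [hp1, zero_smul, add_zero] at hp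
    funext i
    fin_cases i
    · exact (smul_eq_zero.1 hp).resolve_right ht.ne
    · exact hp1
  have hjmem : ∀ p, j p ∈ space ht := fun p =>
    (space ht).add_mem ((space ht).smul_mem _ (self_mem_space ht)) ((space ht).smul_mem _ hu_space)
  have hfix : ∀ i < k, ∀ x, s i (j x) = j x := fun i hi x => hsfix i hi _ (hjmem x)
  have hbij := coordMap_bijective (k := k) (j := j) h2 htt ht1 hs1' hss hst hj hfix
    fun x hx => (hW2 x (hsW x hx)).imp fun p hp => hp
  let φ : (Fin (2 ^ k) → Fin 2 → F) ≃ₗ[F] V := LinearEquiv.ofBijective (coordMap k t j) hbij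
  let ψ : (Fin (2 ^ k) × Fin 2 → F) ≃ₗ[F] V := (LinearEquiv.curry F F (Fin (2 ^ k)) (Fin 2)).trans φ
  have hψ : ∀ v, ψ v = coordMap k t j (fun i r => v (i, r)) := fun v => rfl
  have hid : ∀ x, x >>> (2 * k) = 0 → ∀ r s : Fin 2, qEnt F k x r s = if r = s then 1 else 0 := by
    intro x hx r s
    rw [qEnt, hx]
    fin_cases r <;> fin_cases s <;> simp [qMat]
  have hz : ∀ l < 2 * k, (2 ^ l) >>> (2 * k) = 0 := fun l hl =>
    Nat.shiftRight_eq_zero _ _ (Nat.pow_lt_pow_right (by omega) hl)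
  have hlow : ∀ l < k, ∀ v, ψ (opQuat F k (2 ^ l) v) = a l • ρ (d.fe l) (ψ v) := by
    intro l hl v
    rw [← LinearMap.smul_apply, ← hta l hl, hψ, hψ, t_coordMap htt ht1 hl]
    congr 1
    funext i r
    show bitSign F (msgn k i (2 ^ l)) * (_ + _) = _
    rw [(msgn_two_pow hk i).1 hl, bitSign_false, one_mul, hid _ (hz l (by omega)), hid _ (hz l (by omega))]
    fin_cases r <;> simp
  have hhigh : ∀ l < k, ∀ v, ψ (opQuat F k (2 ^ (k + l)) v) = b l • ρ (d.le l) (ψ v) := by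
    intro l hl v
    rw [← LinearMap.smul_apply, ← hsb l hl, hψ, hψ, s_coordMap hst hfix hl]
    congr 1
    funext i r
    show bitSign F (msgn k i (2 ^ (k + l))) * (_ + _) = bitSign F ((i : ℕ).testBit l) * v (i, r)
    rw [(msgn_two_pow hk i).2.1 hl, axor_two_pow_high (by omega), hid _ (hz _ (by omega)), hid _ (hz _ (by omega))]
    fin_cases r <;> simp
  have hcommT : ∀ m, m ∈ E → (∀ i < k, cb (d.fe i) m = false) → ∀ i : ℕ,
      ρ m * tProd t k i = tProd t k i * ρ m := by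
    intro m hm hc i
    refine tProd_comm_of (fun l hl => ?_) i k le_rfl
    rw [hta l hl, mul_smul_comm, smul_mul_assoc, ← map_mul, ← map_mul, cb_eq_false.1 (hc l hl)]
  have hblock : ∀ (l : ℕ) (m : G) (c : F), 2 * k ≤ l → m ∈ E → (∀ i < k, cb (d.fe i) m = false) →
      (∀ p : Fin 2 → F, j (fun r => qEnt F k (2 ^ l) r 0 * p 0 + qEnt F k (2 ^ l) r 1 * p 1) = c • ρ m (j p)) →
      ∀ v, ψ (opQuat F k (2 ^ l) v) = c • ρ m (ψ v) := by
    intro l m c hl hm hc hq v
    rw [hψ, hψ]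
    show ∑ i : Fin (2 ^ k), tProd t k (i : ℕ) (j (fun r => opQuat F k (2 ^ l) v (i, r))) =
      c • ρ m (∑ i : Fin (2 ^ k), tProd t k (i : ℕ) (j (fun r => v (i, r))))
    rw [map_sum, Finset.smul_sum]
    refine Finset.sum_congr rfl fun i _ => ?_
    rw [← Module.End.mul_apply, hcommT m hm hc, Module.End.mul_apply, ← map_smul, ← hq]
    congr 2
    funext r
    show bitSign F (msgn k i (2 ^ l)) * (_ + _) = _
    rw [(msgn_two_pow hk i).2.2 hl, axor_two_pow_high (by omega), bitSign_false, one_mul]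
  have hRop : ∀ v, ψ (opQuat F k (2 ^ (2 * k)) v) = (1 : F) • ρ m₁ (ψ v) := by
    refine hblock _ _ _ le_rfl hm₁.1 (fun i hi => (d.fe_m i hi).1) fun p => ?_
    rw [hjv, hjv, map_add, map_smul, map_smul, ← hu, hR, one_smul]
    simp [qEnt, Nat.shiftRight_eq_div_pow, Nat.div_self (Nat.two_pow_pos _), qMat]
    abel
  have hSop : ∀ v, ψ (opQuat F k (2 ^ (2 * k + 1)) v) = cS • ρ mS (ψ v) := by
    refine hblock _ _ _ (by omega) hmS.1 (fun i hi => hmcb _ (d.fe_mem i hi) (d.fe_m i hi).1 (d.fe_m i hi).2)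
      fun p => ?_
    rw [hjv, hjv, map_add, map_smul, map_smul, smul_add, smul_comm cS, smul_comm cS, hSw, hSu]
    simp [qEnt, Nat.shiftRight_eq_div_pow, pow_succ, Nat.mul_div_cancel_left _ (Nat.two_pow_pos _), qMat]
    module
  refine ⟨ψ, fun i hi => ?_, fun X hAX hX => ?_⟩
  · change i < 2 * k + 2 at hi
    rcases (show i < k ∨ (k ≤ i ∧ i < 2 * k) ∨ i = 2 * k ∨ i = 2 * k + 1 by omega) with h | h | rfl | rfl
    · exact ⟨d.fe i, d.fe_mem i h, a i, hlow i h⟩
    · refine ⟨d.le (i - k), ht.L_le (d.le_mem _ (by omega)), b (i - k), fun v => ?_⟩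
      have := hhigh (i - k) (by omega) v
      rwa [show k + (i - k) = i by omega] at this
    · exact ⟨m₁, hm₁.1, 1, hRop⟩
    · exact ⟨mS, hmS.1, cS, hSop⟩
  · have h1 : m₁ ∈ X := hX (2 * k) (show 2 * k < 2 * k + 2 by omega) _ hm₁.1 _ hRop
    refine d.genE X hAX
      (fun i hi => hX (k + i) (show k + i < 2 * k + 2 by omega) _ (ht.L_le (d.le_mem i hi)) _ (hhigh i hi))
      (fun i hi => hX i (show i < 2 * k + 2 by omega) _ (d.fe_mem i hi) _ (hlow i hi)) h1
      (hmX X h1 (hX (2 * k + 1) (show 2 * k + 1 < 2 * k + 2 by omega) _ hmS.1 _ hSop))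

end Cfsg.Agent.CopBase
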