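import Cfsg.Agent.Lib.SolBase.Scalar

/-!
Classes of scalars modulo powers and sign.
-/

set_option autoImplicit false
set_option linter.style.haveILetI false
set_option linter.unusedSectionVars false

namespace Cfsg.Agent.CopBase

open PrimSol SolBase

variable {F : Type*} [Field F] {V : Type*} [AddCommGroup V] [Module F V] [FiniteDimensional F V]
  [Finite V] [Nontrivial V] {G : Type*} [Group G] [Finite G] {ρ : G →* Module.End F V} {A : Subgroup G}

/-- A colouring of the nonzero scalars, blind to sign for the prime two, that reaches every colour in each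
coset of the powers of exponent `s`. -/
theorem exists_classes (hK : IsScalars ρ A) (h2 : (2 : F) ≠ 0)
    (hq : Nat.card (alg ρ A) ∉ ({3, 5, 9} : Set ℕ)) {s : ℕ} (hs : s.Prime) {ζ : Module.End F V}
    (hζ : ζ ∈ alg ρ A) (hζs : ζ ^ s = 1) (hζ1 : ζ ≠ 1) :
    ∃ γ : Module.End F V → Fin 3, (s = 2 → ∀ x ∈ alg ρ A, x ≠ 0 → γ (-x) = γ x) ∧
      ∀ θ ∈ alg ρ A, θ ≠ 0 → ∀ c : Fin 3, (s ≠ 2 → c ≠ 2) →
        ∃ k ∈ alg ρ A, k ≠ 0 ∧ γ (θ * k ^ s) = c := by
  classical
  obtain ⟨lam, hlam, hlam0, hgen⟩ := hK.exists_gen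
  haveI : Finite (Module.End F V) := Finite.of_injective _ DFunLike.coe_injective
  set m := orderOf lam with hm
  have hlam_pow : ∀ i, lam ^ i ≠ 0 := by
    intro i
    induction i with
    | zero => rw [pow_zero]; exact one_ne_zero
    | succ i ih =>
      rw [pow_succ]
      exact fun h => (hK.eq_zero_or (pow_mem hlam i) h).elim ih hlam0
  obtain ⟨l', hl', hll⟩ := hK.inv lam hlam hlam0
  have hu : IsUnit lam := ⟨⟨lam, l', by rw [hK.comm lam hlam l' hl', hll], hll⟩, rfl⟩
  obtain ⟨N, hN0, hN⟩ : ∃ N, 0 < N ∧ lam ^ N = 1 := by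
    obtain ⟨i, j, hij, he⟩ := Finite.exists_ne_map_eq_of_infinite fun c : ℕ => lam ^ c
    wlog h : i < j generalizing i j
    · exact this j i hij.symm he.symm (lt_of_le_of_ne (not_lt.1 h) hij.symm)
    refine ⟨j - i, by omega, (hu.pow i).mul_left_cancel ?_⟩
    rw [mul_one, ← pow_add, Nat.add_sub_cancel' h.le]
    exact he.symm
  have hfin : IsOfFinOrder lam := isOfFinOrder_iff_pow_eq_one.2 ⟨N, hN0, hN⟩
  have hm0 : 0 < m := hfin.orderOf_pos
  have hcong : ∀ i j : ℕ, lam ^ i = lam ^ j → i % m = j % m := fun i j h => by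
    have h1 := hfin.pow_eq_pow_iff_modEq.1 h
    exact h1
  -- minus one
  have hneg0 : (-1 : Module.End F V) ≠ 1 := fun h => h2 (by
    have h3 : ((2 : F) • (1 : Module.End F V)) = 0 := by
      rw [two_smul]
      exact neg_eq_iff_add_eq_zero.1 h
    exact (smul_eq_zero.1 h3).resolve_right one_ne_zero)
  obtain ⟨e, he⟩ := hgen (-1) (neg_mem (one_mem _)) (neg_ne_zero.2 one_ne_zero)
  have hem : e % m ≠ 0 := fun h => hneg0 (by
    rw [he, ← pow_mod_orderOf, ← hm, h, pow_zero])
  have h2e : 2 * e % m = 0 := by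
    have := hcong (2 * e) 0 (by rw [pow_zero, two_mul, pow_add, ← he, neg_mul_neg, one_mul])
    rwa [Nat.zero_mod] at this
  have hmev : 2 ∣ m ∧ e % m = m / 2 := by
    have h3 : 2 * (e % m) % m = 0 := by rw [Nat.mul_mod, Nat.mod_mod, ← Nat.mul_mod]; exact h2e
    have h4 := Nat.mod_lt e hm0
    obtain ⟨c, hc⟩ := Nat.dvd_of_mod_eq_zero h3
    have : c = 1 := by
      rcases c with _ | _ | c
      · omega
      · rfl
      · have h5 := Nat.mul_le_mul_left m (show 2 ≤ c + 1 + 1 by omega); omega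
    subst this
    omega
  -- the number of scalars
  have hcard : Nat.card (alg ρ A) = m + 1 := by
    haveI := Fintype.ofFinite (alg ρ A)
    rw [Nat.card_eq_fintype_card, ← Finset.card_univ,
      ← Finset.card_erase_add_one (Finset.mem_univ (0 : alg ρ A))]
    congr 1
    have : (Finset.univ.erase (0 : alg ρ A)) =
        (Finset.range m).image fun i => (⟨lam ^ i, pow_mem hlam i⟩ : alg ρ A) := by
      ext x
      simp only [Finset.mem_erase, Finset.mem_univ, and_true, Finset.mem_image, Finset.mem_range]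
      constructor
      · intro hx
        obtain ⟨i, hi⟩ := hgen _ x.2 fun h => hx (Subtype.ext h)
        exact ⟨i % m, Nat.mod_lt _ hm0, Subtype.ext (by
          show lam ^ (i % m) = x
          rw [hm, pow_mod_orderOf, hi])⟩
      · rintro ⟨i, -, rfl⟩ h
        exact hlam_pow i (congrArg Subtype.val h)
    rw [this, Finset.card_image_of_injOn, Finset.card_range]
    intro i hi j hj h
    have h1 := hcong i j (congrArg Subtype.val h)
    rwa [Nat.mod_eq_of_lt (Finset.mem_range.1 hi), Nat.mod_eq_of_lt (Finset.mem_range.1 hj)] at h1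
  rw [hcard] at hq
  simp only [Set.mem_insert_iff, Set.mem_singleton_iff] at hq
  -- the prime divides the order
  obtain ⟨z, hz⟩ := hgen ζ hζ (by
    rintro rfl
    rw [zero_pow hs.ne_zero] at hζs
    exact zero_ne_one hζs)
  have hsm : s ∣ m := by
    have : Fact s.Prime := ⟨hs⟩
    have h3 : orderOf ζ = s := orderOf_eq_prime hζs hζ1
    rw [← h3, hz]
    exact orderOf_pow_dvd z
  let lg : Module.End F V → ℕ := fun x => if h : ∃ i, x = lam ^ i then h.choose % m else 0
  have hlg : ∀ i, lg (lam ^ i) = i % m := fun i => by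
    have h : ∃ j, lam ^ i = lam ^ j := ⟨i, rfl⟩
    simp only [lg, dif_pos h]
    exact (hcong _ _ h.choose_spec).symm
  let f : ℕ → ℕ := fun i =>
    if s = 2 then (if 2 ∣ m / 2 then i % (m / 2) / 2 else i % (m / 2)) else i / s
  let γ : Module.End F V → Fin 3 := fun x => ⟨f (lg x) % (if s = 2 then 3 else 2), by
    split_ifs <;> omega⟩
  refine ⟨γ, fun hs2 x hx hx0 => ?_, fun θ hθ hθ0 c hc => ?_⟩
  · obtain ⟨i, rfl⟩ := hgen x hx hx0
    apply Fin.ext
    show f (lg (-lam ^ i)) % _ = f (lg (lam ^ i)) % _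
    have e1 : (-lam ^ i) = lam ^ (i + e) := by rw [pow_add, ← he, mul_neg_one]
    rw [e1, hlg, hlg]
    have e2 : (i + e) % m % (m / 2) = i % m % (m / 2) := by
      obtain ⟨hmd, hem'⟩ := hmev
      have hd : m / 2 ∣ m := Nat.div_dvd_of_dvd hmd
      rw [Nat.mod_mod_of_dvd _ hd, Nat.mod_mod_of_dvd _ hd, Nat.add_mod, ← Nat.mod_mod_of_dvd e hd, hem',
        Nat.mod_self, add_zero, Nat.mod_mod]
    simp only [f, if_pos hs2, e2]
  · obtain ⟨t, rfl⟩ := hgen θ hθ hθ0
    suffices h : ∃ i0, i0 < m ∧ i0 % s = t % s ∧ f i0 % (if s = 2 then 3 else 2) = c by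
      obtain ⟨i0, hi0, hpar, hfi⟩ := h
      obtain ⟨q, hq'⟩ : s ∣ i0 + m * t - t := by
        have h5 : t ≤ i0 + m * t := le_add_left (Nat.le_mul_of_pos_left t hm0)
        refine (Nat.modEq_iff_dvd' h5).1 ?_
        show t % s = (i0 + m * t) % s
        obtain ⟨u, hu⟩ := hsm
        rw [hu, mul_assoc, Nat.add_mul_mod_self_left, hpar]
      refine ⟨lam ^ q, pow_mem hlam q, hlam_pow q, Fin.ext ?_⟩
      show f (lg (lam ^ t * (lam ^ q) ^ s)) % _ = (c : ℕ)
      rw [← pow_mul, ← pow_add, hlg, ← hfi]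
      congr 2
      have h5 : t ≤ i0 + m * t := le_add_left (Nat.le_mul_of_pos_left t hm0)
      rw [show t + q * s = i0 + m * t by rw [mul_comm q s]; omega, Nat.add_mul_mod_self_left,
        Nat.mod_eq_of_lt hi0]
    have hc3 := c.isLt
    by_cases hs2 : s = 2
    · subst hs2
      simp only [f, if_true]
      by_cases hev : 2 ∣ m / 2
      · refine ⟨2 * (c : ℕ) + t % 2, by omega, by omega, ?_⟩
        rw [if_pos hev, Nat.mod_eq_of_lt (show 2 * (c : ℕ) + t % 2 < m / 2 by omega)]
        omega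
      · simp only [if_neg hev]
        by_cases hp : (c : ℕ) % 2 = t % 2
        · refine ⟨c, by omega, hp, ?_⟩
          rw [Nat.mod_eq_of_lt (show (c : ℕ) < m / 2 by omega), Nat.mod_eq_of_lt hc3]
        · refine ⟨c + m / 2, by omega, by omega, ?_⟩
          rw [Nat.add_mod_right, Nat.mod_eq_of_lt (show (c : ℕ) < m / 2 by omega), Nat.mod_eq_of_lt hc3]
    · have hc2 : (c : ℕ) < 2 := by
        have := hc hs2
        by_contra h
        exact this (Fin.ext (show (c : ℕ) = 2 by omega))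
      have hsg : 2 * s ≤ m :=
        Nat.le_of_dvd hm0 (((Nat.coprime_primes Nat.prime_two hs).2 (Ne.symm hs2)).mul_dvd_of_dvd_of_dvd
          hmev.1 hsm)
      simp only [f, if_neg hs2]
      have hts := Nat.mod_lt t hs.pos
      refine ⟨s * (c : ℕ) + t % s, ?_, ?_, ?_⟩
      · have : s * (c : ℕ) ≤ s * 1 := Nat.mul_le_mul_left _ (by omega)
        omega
      · rw [Nat.mul_add_mod, Nat.mod_mod]
      · rw [Nat.mul_add_div hs.pos, Nat.div_eq_of_lt hts, add_zero, Nat.mod_eq_of_lt hc2]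

end Cfsg.Agent.CopBase
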