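import Cfsg.Agent.Lib.SolBase.Colouring

/-!
Colourings of an elementary abelian group whose uncoloured set is thin and that no automorphism preserves.
-/

set_option autoImplicit false
set_option linter.style.haveILetI false

namespace Cfsg.Agent.CopBase

open SolBase

/-- The coloured set generates, also after a translation by a coloured element. -/
def Good {U : Type*} [Group U] (B : Set U) : Prop :=
  Subgroup.closure B = ⊤ ∧ ∀ f ∈ B, Subgroup.closure {h | h ∈ B ∧ f * h ∈ B} = ⊤

/-- A generating part of the coloured set has generating translates inside it. -/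
def Spreads {U : Type*} [Group U] (B : Set U) : Prop :=
  Subgroup.closure {f | f ∈ B ∧ Subgroup.closure {h | h ∈ B ∧ f * h ∈ B} = ⊤} = ⊤

lemma Good.spreads {U : Type*} [Group U] {B : Set U} (h : Good B) : Spreads B := by
  refine top_le_iff.1 (le_trans h.1.ge (Subgroup.closure_mono fun f hf => ⟨hf, h.2 f hf⟩))

lemma good_of_card {U : Type*} [Group U] [Finite U] {B : Set U} {n : ℕ} (hn : Bᶜ.ncard ≤ n)
    (h : 4 * n < Nat.card U) : Good B := by
  classical
  have key : ∀ S : Set U, Sᶜ.ncard ≤ 2 * n → Subgroup.closure S = ⊤ := by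
    intro S hS
    by_contra hne
    have hidx : 2 ≤ (Subgroup.closure S).index :=
      Nat.two_le_iff _ |>.2 ⟨Subgroup.index_ne_zero_of_finite, fun e => hne (Subgroup.index_eq_one.1 e)⟩
    have h1 := Subgroup.card_mul_index (Subgroup.closure S)
    have h2 : S.ncard ≤ Nat.card (Subgroup.closure S) := by
      rw [← Nat.card_coe_set_eq]
      exact Nat.card_mono (Set.toFinite _) Subgroup.subset_closure
    have h3 := Set.ncard_add_ncard_compl S
    have h4 : Nat.card (Subgroup.closure S) * 2 ≤ Nat.card U := h1 ▸ Nat.mul_le_mul_left _ hidx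
    omega
  refine ⟨key B (by omega), fun f hf => key _ ?_⟩
  have hsub : {h | h ∈ B ∧ f * h ∈ B}ᶜ ⊆ Bᶜ ∪ (fun x => f⁻¹ * x) '' Bᶜ := by
    intro x hx
    by_cases hxB : x ∈ B
    · exact Or.inr ⟨f * x, fun h' => hx ⟨hxB, h'⟩, inv_mul_cancel_left f x⟩
    · exact Or.inl hxB
  refine (Set.ncard_le_ncard hsub).trans ((Set.ncard_union_le _ _).trans ?_)
  have := Set.ncard_image_le (f := fun x => f⁻¹ * x) (s := Bᶜ)
  omega

lemma four_mul_lt_pow {r : ℕ} (hr : 3 ≤ r) : ∀ k, 2 ≤ k → 4 * k < r ^ k := by
  intro k hk
  induction k, hk using Nat.le_induction with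
  | base => nlinarith
  | succ k hk ih =>
    have h1 : 3 * r ^ k ≤ r ^ (k + 1) := by rw [pow_succ']; exact Nat.mul_le_mul_right _ hr
    omega

section
variable {k : ℕ} {n : Fin k → ℕ}

/-- The colouring with given colours of the standard generators, of a set of extra points, and of the rest. -/
noncomputable def paint (g : Fin k → Option (Fin 3)) (X : Set ((i : Fin k) → Multiplicative (ZMod (n i))))
    (e o : Option (Fin 3)) (v : (i : Fin k) → Multiplicative (ZMod (n i))) : Option (Fin 3) :=
  open Classical in
  if h : ∃ i, v = delta n {i} then g h.choose else if v ∈ X then e else o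

variable (g : Fin k → Option (Fin 3)) (X : Set ((i : Fin k) → Multiplicative (ZMod (n i))))
  (e o : Option (Fin 3))

lemma paint_delta (hn : ∀ i, 1 < n i) (i : Fin k) : paint g X e o (delta n {i}) = g i := by
  have h : ∃ j, delta n {i} = delta n {j} := ⟨i, rfl⟩
  simp only [paint, dif_pos h]
  congr 1
  exact (Finset.singleton_injective (delta_injective hn h.choose_spec)).symm

lemma paint_extra {v : (i : Fin k) → Multiplicative (ZMod (n i))} (hv : ∀ i, v ≠ delta n {i}) :
    paint g X e o v = e ∧ v ∈ X ∨ paint g X e o v = o ∧ v ∉ X := by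
  have h : ¬ ∃ i, v = delta n {i} := fun ⟨i, hi⟩ => hv i hi
  simp only [paint, dif_neg h]
  by_cases hX : v ∈ X
  · exact Or.inl ⟨if_pos hX, hX⟩
  · exact Or.inr ⟨if_neg hX, hX⟩

/-- A colouring by generators and extra points is rigid when its index pattern is. -/
theorem paint_rigid (hn : ∀ i, 1 < n i) (hge : ∀ i, g i ≠ e ∨ X = ∅) (hgo : ∀ i, g i ≠ o) (heo : e ≠ o)
    (hX : ∀ x ∈ X, x ≠ 1 ∧ ∀ i, x ≠ delta n {i})
    (hpat : ∀ (M : ((i : Fin k) → Multiplicative (ZMod (n i))) →* ((i : Fin k) → Multiplicative (ZMod (n i))))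
      (π : Fin k → Fin k), Function.Injective π → (∀ i, M (delta n {i}) = delta n {π i}) →
      (∀ i, g (π i) = g i) → (∀ x ∈ X, M x ∈ X) → π = id)
    (M : ((i : Fin k) → Multiplicative (ZMod (n i))) →* ((i : Fin k) → Multiplicative (ZMod (n i))))
    (hM : Function.Injective M) (hφ : ∀ v, v ≠ 1 → paint g X e o (M v) = paint g X e o v) :
    M = MonoidHom.id _ := by
  have hone : ∀ i, delta n {i} ≠ 1 := fun i h => by
    rw [← delta_empty (n := n)] at h
    exact Finset.singleton_ne_empty i (delta_injective hn h)
  have hper : ∀ i, ∃ j, M (delta n {i}) = delta n {j} ∧ g j = g i := by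
    intro i
    have h := (hφ _ (hone i)).trans (paint_delta g X e o hn i)
    by_cases h2 : ∃ j, M (delta n {i}) = delta n {j}
    · obtain ⟨j, hj⟩ := h2
      exact ⟨j, hj, by rw [hj, paint_delta g X e o hn] at h; exact h⟩
    rcases paint_extra g X e o (fun j hj => h2 ⟨j, hj⟩) with ⟨h3, h4⟩ | ⟨h3, -⟩
    · rcases hge i with h5 | h5
      · exact absurd (h.symm.trans h3) h5
      · rw [h5] at h4; exact h4.elim
    · exact absurd (h.symm.trans h3) (hgo i)
  choose π hπ hπg using hper
  have hπinj : Function.Injective π := fun i j h =>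
    Finset.singleton_injective (delta_injective hn (hM (by rw [hπ, hπ, h])))
  have hid : π = id := by
    refine hpat M π hπinj hπ hπg fun x hx => ?_
    obtain ⟨hx1, hxd⟩ := hX x hx
    have h := hφ x hx1
    rcases paint_extra g X e o hxd with ⟨h3, -⟩ | ⟨-, h3⟩
    · rw [h3] at h
      by_cases h2 : ∃ j, M x = delta n {j}
      · obtain ⟨j, hj⟩ := h2
        rw [hj, paint_delta g X e o hn] at h
        rcases hge j with h5 | h5
        · exact absurd h h5
        · rw [h5] at hx; exact hx.elim
      rcases paint_extra g X e o (fun j hj => h2 ⟨j, hj⟩) with ⟨-, h4⟩ | ⟨h4, -⟩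
      · exact h4
      · exact absurd (h.symm.trans h4) heo
    · exact absurd hx h3
  exact eq_id_of_delta M fun i => by rw [hπ, hid]; rfl

end

/-- A rigid colouring with three colours, two when the prime is odd, and a thin uncoloured set. -/
theorem exists_local (U : Type*) [CommGroup U] [Finite U] {r : ℕ} (hr : r.Prime) (hU : ∀ v : U, v ^ r = 1) :
    ∃ φ : U → Option (Fin 3), φ 1 ≠ none ∧ (r ≠ 2 → ∀ v, φ v ≠ some 2) ∧
      (∀ M : U →* U, Function.Injective M → (∀ v, v ≠ 1 → φ (M v) = φ v) → M = MonoidHom.id U) ∧
      Good {v | φ v ≠ none} := by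
  classical
  obtain ⟨ι, _, m, hm, ⟨e0⟩⟩ := CommGroup.equiv_prod_multiplicative_zmod_of_finite U
  let k := Fintype.card ι
  let σ : Fin k ≃ ι := (Fintype.equivFin ι).symm
  let n : Fin k → ℕ := fun i => m (σ i)
  have hn : ∀ i, 1 < n i := fun i => hm _
  let E : U ≃* ((i : Fin k) → Multiplicative (ZMod (n i))) :=
    e0.trans (MulEquiv.mk (Equiv.piCongrLeft' (fun i => Multiplicative (ZMod (m i))) σ.symm)
      (fun x y => rfl))
  haveI : ∀ i, NeZero (n i) := fun i => ⟨by have := hn i; omega⟩
  have hnr : ∀ i, n i = r := by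
    intro i
    have h1 : E ((E.symm (delta n {i})) ^ r) = E 1 := by rw [hU]
    rw [map_pow, MulEquiv.apply_symm_apply, map_one] at h1
    have h2 := congrFun h1 i
    simp only [delta, Pi.pow_apply, Finset.mem_singleton, if_pos rfl, Pi.one_apply, if_true] at h2
    rw [← ofAdd_nsmul, ofAdd_eq_one, nsmul_one, ZMod.natCast_eq_zero_iff] at h2
    rcases hr.eq_one_or_self_of_dvd _ h2 with h | h
    · have := hn i; omega
    · exact h
  have hcard : Nat.card U = r ^ k := by
    rw [Nat.card_congr E.toEquiv, Nat.card_pi]
    simp [Nat.card_congr Multiplicative.toAdd, hnr]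
  -- the data
  let big : Prop := r = 2 ∧ 4 ≤ k
  let g : Fin k → Option (Fin 3) := fun i =>
    if r = 2 then
      (if 4 ≤ k then some 0 else if k = 3 then (if (i : ℕ) = 0 then none else if (i : ℕ) = 1 then some 0
        else some 1) else if (i : ℕ) = 0 then some 0 else some 1)
    else if k = 1 then some 0 else none
  let X : Set ((i : Fin k) → Multiplicative (ZMod (n i))) := {x |
    (r = 2 ∧ 4 ≤ k ∧ ∃ S ∈ extraSets k, x = delta n S) ∨
    (r ≠ 2 ∧ ∃ i j : Fin k, (i : ℕ) + 1 = j ∧ x = delta n {i} * delta n {j} ^ 2)}
  let e : Option (Fin 3) := if r = 2 then (if 4 ≤ k then some 1 else none) else if k = 1 then none else some 0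
  let o : Option (Fin 3) := if r = 2 then some 2 else some 1
  have hval : ∀ i j : Fin k, (delta n {i} : (i : Fin k) → Multiplicative (ZMod (n i))) j =
      if j = i then Multiplicative.ofAdd 1 else 1 := fun i j => by simp [delta]
  have hne12 : r ≠ 2 → ∀ l : Fin k, (Multiplicative.ofAdd (2 : ZMod (n l))) ≠ Multiplicative.ofAdd 1 ∧
      (Multiplicative.ofAdd (2 : ZMod (n l))) ≠ 1 := by
    intro hr2 l
    have h1 : ((1 : ℕ) : ZMod (n l)) ≠ 0 := by
      rw [ne_eq, ZMod.natCast_eq_zero_iff]; intro h; have := Nat.le_of_dvd one_pos h; have := hn l; omega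
    have h2 : ((2 : ℕ) : ZMod (n l)) ≠ 0 := by
      rw [ne_eq, ZMod.natCast_eq_zero_iff, hnr l]
      intro h
      exact hr2 ((Nat.prime_dvd_prime_iff_eq hr Nat.prime_two).1 h)
    push_cast at h1 h2
    refine ⟨fun h => ?_, fun h => ?_⟩
    · have h3 : (2 : ZMod (n l)) = 1 := Multiplicative.ofAdd.injective h
      exact h1 (by linear_combination h3)
    · rw [ofAdd_eq_one] at h; exact h2 h
  have hxv : ∀ i j l : Fin k, i ≠ j → (delta n {i} * delta n {j} ^ 2 :
      (i : Fin k) → Multiplicative (ZMod (n i))) l =
      if l = i then Multiplicative.ofAdd 1 else if l = j then Multiplicative.ofAdd 2 else 1 := by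
    intro i j l hij
    simp only [Pi.mul_apply, Pi.pow_apply, hval]
    by_cases h1 : l = i
    · subst h1; simp [hij]
    · simp only [h1, if_false, one_mul]
      split_ifs
      · rw [← ofAdd_nsmul]; simp
      · rw [one_pow]
  have hX : ∀ x ∈ X, x ≠ 1 ∧ ∀ i, x ≠ delta n {i} := by
    rintro x (⟨hr2, hk, S, hS, rfl⟩ | ⟨hr2, i, j, hij, rfl⟩)
    · have hcard : 2 ≤ S.card := by
        rcases hS with ⟨i, j, hij, rfl⟩ | ⟨a, b, c, ha, hb, -, rfl⟩
        · rw [Finset.card_pair (fun h => by rw [h] at hij; omega)]
        · calc 2 = ({b, a} : Finset (Fin k)).card := by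
                rw [Finset.card_pair (fun h => by rw [h] at hb; omega)]
            _ ≤ _ := Finset.card_le_card (by intro x hx; simp at hx ⊢; tauto)
      refine ⟨fun h => ?_, fun i h => ?_⟩
      · rw [← delta_empty (n := n)] at h
        rw [delta_injective hn h, Finset.card_empty] at hcard; omega
      · rw [delta_injective hn h, Finset.card_singleton] at hcard; omega
    · have hne : i ≠ j := fun h => by rw [h] at hij; omega
      refine ⟨fun h => ?_, fun l h => ?_⟩
      · have h1 := congrFun h i
        rw [hxv i j i hne, if_pos rfl] at h1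
        exact ofAdd_one_ne (hn i) h1
      · have h1 := congrFun h i
        have h2 := congrFun h j
        rw [hxv i j i hne, if_pos rfl, hval] at h1
        rw [hxv i j j hne, if_neg hne.symm, if_pos rfl, hval] at h2
        by_cases hil : i = l
        · rw [if_neg (fun h' => hne (hil.trans h'.symm))] at h2
          exact (hne12 hr2 j).2 h2
        · rw [if_neg hil] at h1
          exact ofAdd_one_ne (hn i) h1
  have hge : ∀ i, g i ≠ e ∨ X = ∅ := fun i => by
    by_cases hr2 : r = 2
    · by_cases hk : 4 ≤ k
      · left; simp [g, e, hr2, hk]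
      · right
        ext x
        simp [X, hr2, hk]
    · left
      simp only [g, e, if_neg hr2]
      split_ifs <;> decide
  have hgo : ∀ i, g i ≠ o := fun i => by simp only [g, o]; split_ifs <;> decide
  have heo : e ≠ o := by simp only [e, o]; split_ifs <;> decide
  have hpat : ∀ (M : ((i : Fin k) → Multiplicative (ZMod (n i))) →* ((i : Fin k) → Multiplicative (ZMod (n i))))
      (π : Fin k → Fin k), Function.Injective π → (∀ i, M (delta n {i}) = delta n {π i}) →
      (∀ i, g (π i) = g i) → (∀ x ∈ X, M x ∈ X) → π = id := by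
    intro M π hπ hM hg hXM
    by_cases hr2 : r = 2
    · by_cases hk : 4 ≤ k
      · refine extraSets_rigid hk hπ fun S hS => ?_
        rcases hXM _ (Or.inl ⟨hr2, hk, S, hS, rfl⟩) with ⟨-, -, T, hT, h⟩ | ⟨h, -⟩
        · rw [map_delta M hπ hM] at h
          rwa [delta_injective hn h]
        · exact absurd hr2 h
      · funext i
        apply Fin.ext
        have h := hg i
        have h1 := (π i).isLt
        have h2 := i.isLt
        simp only [g, if_pos hr2, if_neg hk] at h
        show (π i : ℕ) = i
        split_ifs at h <;> first | omega | simp_all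
    · have hstep : ∀ i j : Fin k, (i : ℕ) + 1 = j → (π i : ℕ) + 1 = π j := by
        intro i j hij
        have hne : i ≠ j := fun h => by rw [h] at hij; omega
        rcases hXM _ (Or.inr ⟨hr2, i, j, hij, rfl⟩) with ⟨h, -⟩ | ⟨-, a, b, hab, h⟩
        · exact absurd h hr2
        rw [map_mul, map_pow, hM, hM] at h
        have hne' : π i ≠ π j := hπ.ne hne
        have hab' : a ≠ b := fun h => by rw [h] at hab; omega
        have h1 := congrFun h (π i)
        have h2 := congrFun h (π j)
        rw [hxv _ _ _ hne', if_pos rfl, hxv _ _ _ hab'] at h1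
        rw [hxv _ _ _ hne', if_neg hne'.symm, if_pos rfl, hxv _ _ _ hab'] at h2
        have ha : π i = a := by
          by_contra hc
          rw [if_neg hc] at h1
          split_ifs at h1
          · exact (hne12 hr2 _).1 h1.symm
          · exact ofAdd_one_ne (hn _) h1
        have hb : π j = b := by
          by_contra hc
          rw [if_neg hc] at h2
          split_ifs at h2
          · exact (hne12 hr2 _).1 h2
          · exact (hne12 hr2 _).2 h2
        rw [ha, hb]; exact hab
      funext i
      have hall : ∀ (l : ℕ) (hl : l < k), (π ⟨l, hl⟩ : ℕ) = π ⟨0, by omega⟩ + l := by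
        intro l
        induction l with
        | zero => intro hl; simp
        | succ l ih =>
          intro hl
          rw [← hstep ⟨l, by omega⟩ ⟨l + 1, hl⟩ rfl, ih (by omega)]
          omega
      have h0 := i.isLt
      have h1 := hall i i.isLt
      have h2 := hall (k - 1) (by omega)
      have h3 := (π ⟨k - 1, by omega⟩).isLt
      apply Fin.ext
      show (π i : ℕ) = i
      rw [Fin.eta] at h1
      omega
  have hone : ∀ i, delta n {i} ≠ 1 := fun i h => by
    rw [← delta_empty (n := n)] at h
    exact Finset.singleton_ne_empty i (delta_injective hn h)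
  let φ : U → Option (Fin 3) := fun v => if v = 1 then some 0 else paint g X e o (E v)
  refine ⟨φ, by simp [φ], fun hr2 v => ?_, fun M hM hφ => ?_, ?_⟩
  · simp only [φ]
    split_ifs with h1
    · decide
    · by_cases h2 : ∃ i, E v = delta n {i}
      · obtain ⟨i, hi⟩ := h2
        rw [hi, paint_delta g X e o hn]
        simp only [g, if_neg hr2]; split_ifs <;> decide
      · rcases paint_extra g X e o (fun j hj => h2 ⟨j, hj⟩) with ⟨h3, -⟩ | ⟨h3, -⟩ <;> rw [h3]
        · simp only [e, if_neg hr2]; split_ifs <;> decide
        · simp only [o, if_neg hr2]; decide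
  · let M' : ((i : Fin k) → Multiplicative (ZMod (n i))) →* ((i : Fin k) → Multiplicative (ZMod (n i))) :=
      (E.toMonoidHom.comp M).comp E.symm.toMonoidHom
    have hM'inj : Function.Injective M' := E.injective.comp (hM.comp E.symm.injective)
    have hid := paint_rigid g X e o hn hge hgo heo hX hpat M' hM'inj fun v hv => by
      have hv' : E.symm v ≠ 1 := fun h => hv (by rw [← E.apply_symm_apply v, h, map_one])
      have hMv : M (E.symm v) ≠ 1 := fun h => hv' (hM (h.trans (map_one M).symm))
      have h := hφ _ hv'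
      simp only [φ, if_neg hMv, if_neg hv', MulEquiv.apply_symm_apply] at h
      exact h
    refine MonoidHom.ext fun v => E.injective ?_
    have h2 := DFunLike.congr_fun hid (E v)
    simpa [M'] using h2
  · have hnone : {v : U | φ v ≠ none}ᶜ ⊆
        (fun i => E.symm (delta n {i})) '' ({i | g i = none} : Set (Fin k)) := by
      intro v hv
      simp only [Set.mem_compl_iff, Set.mem_setOf_eq, not_not, φ] at hv
      split_ifs at hv with h1
      by_cases h2 : ∃ i, E v = delta n {i}
      · obtain ⟨i, hi⟩ := h2
        rw [hi, paint_delta g X e o hn] at hv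
        exact ⟨i, hv, E.injective ((E.apply_symm_apply _).trans hi.symm)⟩
      · rcases paint_extra g X e o (fun j hj => h2 ⟨j, hj⟩) with ⟨h3, h4⟩ | ⟨h3, -⟩ <;> rw [h3] at hv
        · rcases h4 with ⟨h5, h6, -⟩ | ⟨h5, i, j, hij, -⟩
          · simp [e, h5, h6] at hv
          · have := j.isLt
            simp [e, h5, show k ≠ 1 by omega] at hv
        · simp only [o] at hv; split_ifs at hv
    have hle := (Set.ncard_le_ncard hnone).trans (Set.ncard_image_le (Set.toFinite _))
    refine good_of_card hle ?_
    rw [hcard]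
    by_cases hr2 : r = 2
    · by_cases hk3 : k = 3
      · have hs : ({i | g i = none} : Set (Fin k)) ⊆ {⟨0, by omega⟩} := by
          intro i hi
          simp only [Set.mem_setOf_eq, g, if_pos hr2, hk3] at hi
          simp only [Set.mem_singleton_iff]
          apply Fin.ext
          show (i : ℕ) = 0
          split_ifs at hi with h1 h2 <;> first | omega | simp_all
        have := Set.ncard_le_ncard hs
        rw [Set.ncard_singleton] at this
        have h8 : r ^ k = 8 := by rw [hr2, hk3]; norm_num
        omega
      · have hs : ({i | g i = none} : Set (Fin k)) = ∅ := by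
          ext i
          simp only [Set.mem_setOf_eq, g, if_pos hr2, if_neg hk3, Set.mem_empty_iff_false, iff_false]
          split_ifs <;> decide
        rw [hs, Set.ncard_empty, mul_zero]
        exact pow_pos hr.pos k
    · by_cases hk : k ≤ 1
      · have hs : ({i | g i = none} : Set (Fin k)) = ∅ := by
          ext i
          have := i.isLt
          simp [g, hr2, show k = 1 by omega]
        rw [hs, Set.ncard_empty, mul_zero]
        exact pow_pos hr.pos k
      · have h1 : ({i | g i = none} : Set (Fin k)).ncard ≤ k :=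
          (Set.ncard_le_ncard (Set.subset_univ _)).trans (by rw [Set.ncard_univ, Nat.card_fin])
        have h3 : 3 ≤ r := by have := hr.two_le; omega
        have := four_mul_lt_pow h3 k (by omega)
        omega

end Cfsg.Agent.CopBase
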