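import Cfsg.Agent.Lib.CopBase.RigidMod
import Mathlib.Algebra.Module.ZMod

/-!
A distinguishing colouring with three colours for a primitive soluble group of order prime to three.
-/

set_option autoImplicit false
set_option linter.style.haveILetI false

namespace Cfsg.Agent.CopBase

open PrimSol
open scoped commutatorElement

universe u

variable {G : Type u} [Group G]

/-- A set preserved by no nontrivial element, for a group acting on an abelian group with no invariant subgroups. -/
theorem exists_rigid_mul {W : Type u} [CommGroup W] [Finite W] [Nontrivial W] (hW3 : ¬ 3 ∣ Nat.card W)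
    {U : Type u} [Group U] [Finite U] (hsol : Group.IsSolvable U) (h3 : ¬ 3 ∣ Nat.card U)
    (c : U → W →* W) (hc1 : ∀ w, c 1 w = w) (hcm : ∀ a b w, c (a * b) w = c a (c b w))
    (hsub : ∀ X : Subgroup W, (∀ u, ∀ x ∈ X, c u x ∈ X) → X = ⊥ ∨ X = ⊤) :
    ∃ S : Set W, (1 : W) ∉ S ∧ ∀ u, (∀ x ∈ S, c u x ∈ S) → ∀ w, c u w = w := by
  classical
  obtain ⟨q, hq, hqd⟩ := Nat.exists_prime_and_dvd (Finite.one_lt_card (α := W)).ne'
  haveI := Fact.mk hq
  have hexp : ∀ w : W, w ^ q = 1 := by
    obtain ⟨x, hx⟩ := exists_prime_orderOf_dvd_card' q hqd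
    have h := hsub (powMonoidHom q : W →* W).ker fun u w hw => by
      rw [MonoidHom.mem_ker, powMonoidHom_apply] at hw ⊢
      rw [← map_pow, hw, map_one]
    rcases h with h | h
    · have : x ∈ (powMonoidHom q : W →* W).ker := by
        rw [MonoidHom.mem_ker, powMonoidHom_apply, ← hx, pow_orderOf_eq_one]
      rw [h, Subgroup.mem_bot] at this
      rw [this, orderOf_one] at hx
      exact absurd hx.symm hq.ne_one
    · exact fun w => (show w ∈ (powMonoidHom q : W →* W).ker from h ▸ Subgroup.mem_top w)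
  haveI : Module (ZMod q) (Additive W) := AddCommGroup.zmodModule fun w => by
    show Additive.ofMul (w.toMul ^ q) = 0
    rw [hexp]; rfl
  let L : U → Module.End (ZMod q) (Additive W) := fun u => (MonoidHom.toAdditive (c u)).toZModLinearMap q
  have hL : ∀ (u : U) (w : Additive W), L u w = Additive.ofMul (c u w.toMul) := fun u w => rfl
  let ρ₀ : U →* Module.End (ZMod q) (Additive W) :=
    { toFun := L
      map_one' := by
        refine LinearMap.ext fun w => ?_
        rw [Module.End.one_apply, hL, hc1, ofMul_toMul]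
      map_mul' := fun a b => by
        refine LinearMap.ext fun w => ?_
        rw [Module.End.mul_apply, hL, hL, hL, hcm, toMul_ofMul] }
  let σu := ρ₀.toHomUnits
  let ρ : U ⧸ σu.ker →* Module.End (ZMod q) (Additive W) :=
    (Units.coeHom _).comp (QuotientGroup.kerLift σu)
  have hρ : Function.Injective ρ := fun a b h => QuotientGroup.kerLift_injective σu (Units.ext h)
  have hρk : ∀ (u : U) (w : Additive W), ρ (u : U ⧸ σu.ker) w = Additive.ofMul (c u w.toMul) := fun u w => rfl
  have hirr : Irred ρ := by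
    intro X hX
    rcases hsub (AddSubgroup.toSubgroup' X.toAddSubgroup) (fun u x hx =>
      hX (u : U ⧸ σu.ker) (Additive.ofMul x) hx) with h | h
    · refine Or.inl ((Submodule.eq_bot_iff X).2 fun x hx => ?_)
      have : x.toMul ∈ (⊥ : Subgroup W) := h ▸ hx
      exact congrArg Additive.ofMul ((Subgroup.mem_bot (G := W) (x := x.toMul)).1 this)
    · exact Or.inr (eq_top_iff.2 fun x _ => (show x.toMul ∈ AddSubgroup.toSubgroup' X.toAddSubgroup from
        h ▸ Subgroup.mem_top _))
  haveI := hsol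
  obtain ⟨S, hS0, hS⟩ := exists_rigid_set (fun h : q = 3 => hW3 (h ▸ hqd)) hρ inferInstance
    (fun h => h3 (h.trans (Subgroup.card_quotient_dvd_card _))) hirr
  refine ⟨{x | Additive.ofMul x ∈ S}, hS0, fun u hu w => ?_⟩
  have h1 := hS (u : U ⧸ σu.ker) fun x hx => by rw [hρk]; exact hu _ hx
  have := congrArg (fun k => ρ k (Additive.ofMul w)) h1
  simp only [map_one, Module.End.one_apply, hρk] at this
  exact Additive.ofMul.injective this

/-- The coset space of a maximal subgroup has a distinguishing colouring with three colours. -/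
theorem three_of_coatom [Finite G] (hsol : Group.IsSolvable G) (h3 : ¬ 3 ∣ Nat.card G) {U : Subgroup G}
    (hU : IsCoatom U) :
    ∃ f : G ⧸ U → Fin 3, ∀ g : G, (∀ ω, f (g • ω) = f ω) → ∀ ω : G ⧸ U, g • ω = ω := by
  classical
  obtain ⟨l, hl⟩ := hsol.solvable
  have hex : ∃ k, derivedSeries G k ≤ U.normalCore := ⟨l, hl.le.trans bot_le⟩
  have hk0 : Nat.find hex ≠ 0 := fun h => hU.1 (by
    have := Nat.find_spec hex
    rw [h, derivedSeries_zero] at this
    exact top_le_iff.1 (this.trans U.normalCore_le))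
  set D := derivedSeries G (Nat.find hex - 1) with hD
  haveI hDn : D.Normal := derivedSeries_normal G _
  have hDD : ∀ a ∈ D, ∀ b ∈ D, ⁅a, b⁆ ∈ U.normalCore := fun a ha b hb => by
    have h1 := Nat.find_spec hex
    rw [show Nat.find hex = Nat.find hex - 1 + 1 by omega, derivedSeries_succ] at h1
    exact h1 (Subgroup.commutator_mem_commutator ha hb)
  have hDU : ¬ D ≤ U := fun h => Nat.find_min hex (show Nat.find hex - 1 < Nat.find hex by omega)
    (Subgroup.normal_le_normalCore.2 h)
  have htop : D ⊔ U = ⊤ := hU.2 _ (right_lt_sup.2 hDU)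
  have hmul : ∀ g : G, ∃ d ∈ D, ∃ u ∈ U, g = d * u := fun g => by
    have : g ∈ ((D ⊔ U : Subgroup G) : Set G) := by rw [htop]; trivial
    rw [Subgroup.normal_mul] at this
    obtain ⟨d, hd, u, hu, rfl⟩ := this
    exact ⟨d, hd, u, hu, rfl⟩
  have hcap : ∀ x ∈ D, x ∈ U → x ∈ U.normalCore := by
    intro x hx hxU g
    obtain ⟨d, hd, u, hu, rfl⟩ := hmul g
    have hy : u * x * u⁻¹ ∈ U := U.mul_mem (U.mul_mem hu hxU) (U.inv_mem hu)
    have : d * u * x * (d * u)⁻¹ = ⁅d, u * x * u⁻¹⁆ * (u * x * u⁻¹) := by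
      rw [commutatorElement_def]; group
    rw [this]
    exact U.mul_mem (U.normalCore_le (hDD d hd _ (hDn.conj_mem x hx u))) hy
  let W := D ⧸ (U.normalCore).subgroupOf D
  letI : CommGroup W :=
    { (inferInstance : Group W) with
      mul_comm := fun x y => by
        obtain ⟨a, rfl⟩ := QuotientGroup.mk_surjective x
        obtain ⟨b, rfl⟩ := QuotientGroup.mk_surjective y
        rw [← QuotientGroup.mk_mul, ← QuotientGroup.mk_mul, QuotientGroup.eq]
        show (((a * b)⁻¹ * (b * a) : D) : G) ∈ U.normalCore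
        have h : (((a * b)⁻¹ * (b * a) : D) : G) = ⁅(b : G)⁻¹, (a : G)⁻¹⁆ := by
          push_cast; rw [commutatorElement_def]; group
        rw [h]
        exact hDD _ (inv_mem b.2) _ (inv_mem a.2) }
  let ψ : W → G ⧸ U := Quotient.lift (fun d : D => ((d : G) : G ⧸ U)) (fun a b h => by
    have h' := (QuotientGroup.leftRel_apply.1 h)
    exact QuotientGroup.eq.2 (U.normalCore_le h'))
  have hψmk : ∀ d : D, ψ (d : W) = ((d : G) : G ⧸ U) := fun d => rfl
  have hψ : Function.Bijective ψ := by
    constructor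
    · intro x y h
      obtain ⟨a, rfl⟩ := QuotientGroup.mk_surjective x
      obtain ⟨b, rfl⟩ := QuotientGroup.mk_surjective y
      rw [hψmk, hψmk, QuotientGroup.eq] at h
      rw [QuotientGroup.eq]
      exact hcap _ (D.mul_mem (inv_mem a.2) b.2) h
    · intro ω
      obtain ⟨g, rfl⟩ := QuotientGroup.mk_surjective ω
      obtain ⟨d, hd, u, hu, rfl⟩ := hmul g
      refine ⟨((⟨d, hd⟩ : D) : W), ?_⟩
      rw [hψmk, QuotientGroup.eq]
      simpa using hu
  let Ψ := Equiv.ofBijective ψ hψ
  -- conjugation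
  let cg : G → (W →* W) := fun g =>
    QuotientGroup.map _ _ (MulAut.conjNormal (H := D) g).toMonoidHom (fun x hx => by
      show ((MulAut.conjNormal g x : D) : G) ∈ U.normalCore
      rw [MulAut.conjNormal_apply]
      exact U.normalCore_normal.conj_mem _ hx g)
  have hcgmk : ∀ g (d : D), cg g (d : W) = ((MulAut.conjNormal g d : D) : W) := fun g d => rfl
  have hcgmul : ∀ g h w, cg (g * h) w = cg g (cg h w) := by
    intro g h w
    obtain ⟨d, rfl⟩ := QuotientGroup.mk_surjective w
    rw [hcgmk, hcgmk, hcgmk, map_mul, MulAut.mul_apply]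
  have hcg1 : ∀ w, cg 1 w = w := by
    intro w
    obtain ⟨d, rfl⟩ := QuotientGroup.mk_surjective w
    rw [hcgmk, map_one, MulAut.one_apply]
  -- subgroups invariant under the maximal subgroup
  have hsub : ∀ X : Subgroup W, (∀ u ∈ U, ∀ x ∈ X, cg u x ∈ X) → X = ⊥ ∨ X = ⊤ := by
    intro X hX
    let X0 : Subgroup D := X.comap (QuotientGroup.mk' _)
    let X1 : Subgroup G := X0.map D.subtype
    have hnorm : U ≤ Subgroup.normalizer (X1 : Set G) := by
      intro u hu
      rw [Subgroup.mem_normalizer_iff]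
      have hc : ∀ v ∈ U, ∀ z ∈ X1, v * z * v⁻¹ ∈ X1 := by
        rintro v hv _ ⟨d, hd, rfl⟩
        refine ⟨MulAut.conjNormal v d, ?_, MulAut.conjNormal_apply v d⟩
        exact hX v hv _ hd
      exact fun z => ⟨hc u hu z, fun h => by
        have := hc u⁻¹ (U.inv_mem hu) _ h
        rwa [show u⁻¹ * (u * z * u⁻¹) * u⁻¹⁻¹ = z by group] at this⟩
    rcases eq_or_ne (X1 ⊔ U) U with h | h
    · left
      rw [Subgroup.eq_bot_iff_forall]
      intro x hx
      obtain ⟨d, rfl⟩ := QuotientGroup.mk_surjective x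
      rw [QuotientGroup.eq_one_iff, Subgroup.mem_subgroupOf]
      exact hcap _ d.2 (h ▸ Subgroup.mem_sup_left ⟨d, hx, rfl⟩)
    · right
      have hXU : X1 ⊔ U = ⊤ := hU.2 _ (lt_of_le_of_ne le_sup_right h.symm)
      rw [eq_top_iff]
      intro x _
      obtain ⟨d, rfl⟩ := QuotientGroup.mk_surjective x
      have : (d : G) ∈ ((X1 ⊔ U : Subgroup G) : Set G) := by rw [hXU]; trivial
      rw [Subgroup.coe_mul_of_right_le_normalizer_left _ _ hnorm] at this
      obtain ⟨_, ⟨z, hz, rfl⟩, u, hu, hzu⟩ := this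
      have hu' : u ∈ U.normalCore := hcap u (by
        rw [show u = (z : G)⁻¹ * (d : G) by rw [← hzu]; simp]
        exact D.mul_mem (D.inv_mem z.2) d.2) hu
      have e : (z : W) = (d : W) := by
        rw [QuotientGroup.eq, Subgroup.mem_subgroupOf]
        simpa [show ((z⁻¹ * d : D) : G) = u by push_cast; rw [← hzu]; simp] using hu'
      exact e ▸ hz
  haveI : Finite W := inferInstance
  haveI hWnt : Nontrivial W := by
    obtain ⟨d, hd, hdU⟩ := SetLike.not_le_iff_exists.1 hDU
    refine ⟨((⟨d, hd⟩ : D) : W), 1, fun h => hdU ?_⟩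
    rw [QuotientGroup.eq_one_iff, Subgroup.mem_subgroupOf] at h
    exact U.normalCore_le h
  haveI : Group.IsSolvable G := hsol
  obtain ⟨S, hS0, hS⟩ := exists_rigid_mul (W := W)
    (fun h => h3 (h.trans ((Subgroup.card_quotient_dvd_card _).trans (Subgroup.card_subgroup_dvd_card D))))
    (U := U) inferInstance (fun h => h3 (h.trans (Subgroup.card_subgroup_dvd_card U)))
    (fun u => cg u) hcg1 (fun a b => hcgmul a b) (fun X hX => hsub X fun u hu => hX ⟨u, hu⟩)
  let φ : W → Fin 3 := fun w => if w = 1 then 0 else if w ∈ S then 1 else 2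
  have hφ0 : ∀ w, φ w = 0 → w = 1 := fun w h => by
    by_contra hw
    simp only [φ, if_neg hw] at h
    split_ifs at h <;> exact absurd h (by decide)
  refine ⟨fun ω => φ (Ψ.symm ω), fun g hg => ?_⟩
  have hgU : g ∈ U := by
    have h1 := hφ0 _ ((hg (Ψ 1)).trans (by simp [φ]))
    have h2 : g • Ψ 1 = Ψ 1 := Ψ.symm.injective (by rw [Ψ.symm_apply_apply]; exact h1)
    rw [show Ψ 1 = ((1 : G) : G ⧸ U) from rfl, MulAction.Quotient.smul_mk, smul_eq_mul, mul_one,
      QuotientGroup.eq, mul_one] at h2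
    simpa using h2
  have hcg : ∀ w, Ψ.symm (g • Ψ w) = cg g w := by
    intro w
    obtain ⟨d, rfl⟩ := QuotientGroup.mk_surjective w
    refine Ψ.injective ?_
    rw [Ψ.apply_symm_apply]
    show g • ψ (d : W) = ψ ((MulAut.conjNormal g d : D) : W)
    rw [hψmk, hψmk, MulAction.Quotient.smul_mk, smul_eq_mul, QuotientGroup.eq, MulAut.conjNormal_apply]
    have e : (g * (d : G))⁻¹ * (g * d * g⁻¹) = g⁻¹ := by group
    rw [e]
    exact U.inv_mem hgU
  have hid := hS ⟨g, hgU⟩ fun x hx => by
    have hx1 : x ≠ 1 := fun e => hS0 (e ▸ hx)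
    have h1 := hg (Ψ x)
    simp only [hcg, Ψ.symm_apply_apply] at h1
    have h2 : φ x = 1 := by simp only [φ, if_neg hx1]; exact if_pos hx
    rw [h2] at h1
    by_contra hn
    simp only [φ, if_neg hn] at h1
    split_ifs at h1 <;> exact absurd h1 (by decide)
  intro ω
  obtain ⟨w, rfl⟩ := Ψ.surjective ω
  refine Ψ.symm.injective ?_
  rw [Ψ.symm_apply_apply, hcg]
  exact hid w

end Cfsg.Agent.CopBase
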