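import Cfsg.Agent.Lib.CopBase.Charts

/-!
Counting points of the layer, line stabilisers and the vectors with largest ones, through a chart.
-/

set_option autoImplicit false
set_option linter.style.haveILetI false
set_option linter.unusedSectionVars false

namespace Cfsg.Agent.CopBase

open PrimSol SolBase
open scoped commutatorElement

universe u v

variable {F : Type*} [Field F] {V : Type v} [AddCommGroup V] [Module F V] [FiniteDimensional F V]
  [Finite V] [Nontrivial V] {G : Type u} [Group G] [Finite G] {ρ : G →* Module.End F V}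
  {A E : Subgroup G} {w : V}

/-- A chart indexes the layer modulo scalars, and squares are read off the twisting bit. -/
theorem chart_index {U : Type*} [AddCommGroup U] [Module F U] [Nontrivial U] (W : WordModel F U)
    (hl : IsLayer ρ A E) [(A.subgroupOf E).Normal] (h2 : (2 : F) ≠ 0) (hF : ∀ c : F, c ≠ 0 → c * c = 1)
    (hK : ∀ x ∈ alg ρ A, ∃ c : F, x = c • (1 : Module.End F V))
    (ψ : U ≃ₗ[F] V) (hgen : ∀ i < W.m, ∃ e ∈ E, ∃ c : F, ∀ v, ψ (W.op (2 ^ i) v) = c • ρ e (ψ v))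
    (hcl : ∀ X : Subgroup G, A ≤ X →
      (∀ i < W.m, ∀ e ∈ E, ∀ c : F, (∀ v, ψ (W.op (2 ^ i) v) = c • ρ e (ψ v)) → e ∈ X) → E ≤ X) :
    ∃ Φ : Fin (2 ^ W.m) → E,
      Function.Bijective (fun x => (Φ x : E ⧸ A.subgroupOf E)) ∧
      (∀ x : Fin (2 ^ W.m), ∃ c : F, c ≠ 0 ∧ ∀ v, ψ (W.op x v) = c • ρ (Φ x : G) (ψ v)) ∧
      (∀ (x : Fin (2 ^ W.m)) (f : E), (f : E ⧸ A.subgroupOf E) = (Φ x : E ⧸ A.subgroupOf E) →
        (ρ ((f : G) ^ 2) = 1 ↔ W.bt x x = false)) ∧
      ((Φ ⟨0, Nat.two_pow_pos _⟩ : E) : E ⧸ A.subgroupOf E) = 1 := by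
  classical
  have hAK : ∀ a ∈ A, ∃ c : F, ρ a = c • (1 : Module.End F V) := fun a ha => hK _ (hl.scalar ha)
  obtain ⟨hop, hEX⟩ := chart_words W hAK ψ hgen hcl
  choose e he c hc using hop
  have hc0 : ∀ x (hx : x < 2 ^ W.m), c x hx ≠ 0 := fun x hx h => by
    obtain ⟨z, hz⟩ := exists_ne (0 : U)
    refine hz (ψ.injective ?_)
    rw [← W.op_cancel hx z, map_smul, hc x hx, h, zero_smul, smul_zero, map_zero]
  let Φ : Fin (2 ^ W.m) → E := fun x => ⟨e x x.2, he x x.2⟩
  have hinj : ∀ x y : Fin (2 ^ W.m), (Φ x : E ⧸ A.subgroupOf E) = (Φ y : E ⧸ A.subgroupOf E) → x = y := by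
    intro x y h
    rw [QuotientGroup.eq, Subgroup.mem_subgroupOf] at h
    obtain ⟨r, hr⟩ := hAK _ h
    refine Fin.ext (W.eq_of_prop h2 x.2 y.2 (c := c x x.2 * ((c y y.2) * r)⁻¹) (LinearMap.ext fun v => ψ.injective ?_))
    have hr0 : r ≠ 0 := fun e0 => by
      obtain ⟨z, hz⟩ := exists_ne (0 : V)
      refine hz (apply_injective ρ (((Φ x)⁻¹ * Φ y : E) : G) ?_)
      rw [hr, e0, zero_smul, LinearMap.zero_apply, LinearMap.zero_apply]
    rw [LinearMap.smul_apply, map_smul, hc x x.2, hc y y.2,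
      show e y y.2 = e x x.2 * ((e x x.2)⁻¹ * e y y.2) by group, map_mul, Module.End.mul_apply,
      show ρ ((e x x.2)⁻¹ * e y y.2) = r • 1 from hr, LinearMap.smul_apply, Module.End.one_apply, map_smul, smul_smul,
      smul_smul]
    congr 1
    field_simp [hc0 y y.2, hr0]
  have hsurj : ∀ q : E ⧸ A.subgroupOf E, ∃ x : Fin (2 ^ W.m), (Φ x : E ⧸ A.subgroupOf E) = q := by
    intro q
    obtain ⟨f, rfl⟩ := QuotientGroup.mk_surjective q
    obtain ⟨x, hx, r, hr⟩ := hEX f f.2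
    refine ⟨⟨x, hx⟩, ?_⟩
    rw [QuotientGroup.eq, Subgroup.mem_subgroupOf]
    push_cast
    refine hl.mem_of_scalar _ ?_
    have h1 : ρ ((e x hx)⁻¹ * (f : G)) = (r * c x hx) • 1 := LinearMap.ext fun z => by
      obtain ⟨v, rfl⟩ := ψ.surjective z
      rw [map_mul, Module.End.mul_apply, hr, hc x hx, map_smul, map_smul, inv_apply_cancel, smul_smul]
      rfl
    show ρ ((e x hx)⁻¹ * (f : G)) ∈ alg ρ A
    rw [h1, ← Algebra.algebraMap_eq_smul_one]
    exact Subalgebra.algebraMap_mem _ _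
  refine ⟨Φ, ⟨fun x y h => hinj x y h, fun q => hsurj q⟩, fun x => ⟨c x x.2, hc0 x x.2, hc x x.2⟩, fun x f hf => ?_, ?_⟩
  · rw [QuotientGroup.eq, Subgroup.mem_subgroupOf] at hf
    push_cast at hf
    obtain ⟨r, hr⟩ := hAK _ hf
    have hr0 : r ≠ 0 := fun e0 => by
      obtain ⟨z, hz⟩ := exists_ne (0 : V)
      refine hz (apply_injective ρ ((f : G)⁻¹ * e x x.2) ?_)
      rw [show ρ ((f : G)⁻¹ * e x x.2) = r • 1 from hr, e0, zero_smul, LinearMap.zero_apply, LinearMap.zero_apply]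
    have key : ∀ v, ρ ((f : G) ^ 2) (ψ v) = bitSign F (W.bt x x) • ψ v := by
      intro v
      have h1 : ∀ z, ρ (e x x.2) z = r • ρ (f : G) z := fun z => by
        rw [show e x x.2 = (f : G) * ((f : G)⁻¹ * e x x.2) by group, map_mul, Module.End.mul_apply,
          show ρ ((f : G)⁻¹ * e x x.2) = r • 1 from hr, LinearMap.smul_apply, Module.End.one_apply, map_smul]
      have h3 : ψ (W.op x (W.op x v)) = ρ ((f : G) ^ 2) (ψ v) := by
        rw [hc x x.2, hc x x.2, map_smul, h1, h1, map_smul, smul_smul, smul_smul, smul_smul, pow_two, map_mul,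
          Module.End.mul_apply]
        rw [show c x x.2 * c x x.2 * r * r = (c x x.2 * c x x.2) * (r * r) by ring, hF _ (hc0 x x.2), hF _ hr0,
          one_mul, one_smul]
      rw [← h3]
      conv_rhs => rw [← W.op_cancel x.2 v, map_smul, smul_smul, bitSign_mul_self, one_smul]
    constructor
    · intro h
      obtain ⟨z, hz⟩ := exists_ne (0 : U)
      have h1 := key z
      rw [h, Module.End.one_apply] at h1
      refine bitSign_inj (F := F) h2 (smul_left_injective F (show ψ z ≠ 0 from fun e0 =>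
        hz (ψ.injective (e0.trans (map_zero ψ).symm))) ?_)
      show bitSign F (W.bt x x) • ψ z = bitSign F false • ψ z
      rw [← h1, show bitSign F false = 1 from rfl, one_smul]
    · intro h
      refine LinearMap.ext fun z => ?_
      obtain ⟨v, rfl⟩ := ψ.surjective z
      rw [key, h, show bitSign F false = 1 from rfl, one_smul, Module.End.one_apply]
  · rw [QuotientGroup.eq_one_iff, Subgroup.mem_subgroupOf]
    refine hl.mem_of_scalar _ ?_
    have h1 : ρ (e 0 (Nat.two_pow_pos _)) = (c 0 (Nat.two_pow_pos _))⁻¹ • 1 := LinearMap.ext fun z => by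
      obtain ⟨v, rfl⟩ := ψ.surjective z
      have := hc 0 (Nat.two_pow_pos _) v
      rw [W.op_zero, Module.End.one_apply] at this
      rw [LinearMap.smul_apply, Module.End.one_apply]
      conv_rhs => rw [this, smul_smul, inv_mul_cancel₀ (hc0 0 (Nat.two_pow_pos _)), one_smul]
    show ρ (e 0 _) ∈ alg ρ A
    rw [h1, ← Algebra.algebraMap_eq_smul_one]
    exact Subalgebra.algebraMap_mem _ _

/-- The layer modulo scalars has as many points as there are words, and singular points are counted by words. -/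
theorem chart_counts {U : Type*} [AddCommGroup U] [Module F U] [Nontrivial U] (W : WordModel F U)
    (hl : IsLayer ρ A E) [(A.subgroupOf E).Normal] (h2 : (2 : F) ≠ 0) (hF : ∀ c : F, c ≠ 0 → c * c = 1)
    (hK : ∀ x ∈ alg ρ A, ∃ c : F, x = c • (1 : Module.End F V))
    (ψ : U ≃ₗ[F] V) (hgen : ∀ i < W.m, ∃ e ∈ E, ∃ c : F, ∀ v, ψ (W.op (2 ^ i) v) = c • ρ e (ψ v))
    (hcl : ∀ X : Subgroup G, A ≤ X →
      (∀ i < W.m, ∀ e ∈ E, ∀ c : F, (∀ v, ψ (W.op (2 ^ i) v) = c • ρ e (ψ v)) → e ∈ X) → E ≤ X) :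
    Nat.card (E ⧸ A.subgroupOf E) = 2 ^ W.m ∧
      Nat.card {x : E ⧸ A.subgroupOf E // x ≠ 1 ∧
        ∃ f : E, (f : E ⧸ A.subgroupOf E) = x ∧ ρ ((f : G) ^ 2) = 1} =
        ((Finset.univ : Finset (Fin (2 ^ W.m))).filter (fun x : Fin (2 ^ W.m) => (x : ℕ) ≠ 0 ∧ W.bt x x = false)).card := by
  classical
  obtain ⟨Φ, hbij, -, hsq, hone⟩ := chart_index W hl h2 hF hK ψ hgen hcl
  refine ⟨by rw [← Nat.card_congr (Equiv.ofBijective _ hbij), Nat.card_fin], ?_⟩
  rw [← Nat.card_eq_finsetCard]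
  refine (Nat.card_congr (Equiv.subtypeEquiv (Equiv.ofBijective _ hbij) fun x => ?_)).symm
  rw [Finset.mem_filter]
  show _ ↔ (Φ x : E ⧸ A.subgroupOf E) ≠ 1 ∧ _
  constructor
  · rintro ⟨-, hx, hbt⟩
    refine ⟨fun e0 => hx ?_, Φ x, rfl, (hsq x (Φ x) rfl).2 hbt⟩
    exact congrArg Fin.val (hbij.1 (e0.trans hone.symm))
  · rintro ⟨hx, f, hf, hf2⟩
    refine ⟨Finset.mem_univ _, fun e0 => hx ?_, (hsq x f hf).1 hf2⟩
    rw [show x = ⟨0, Nat.two_pow_pos _⟩ from Fin.ext e0]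
    exact hone

/-- The order of a line stabiliser through a chart. -/
theorem chart_lineStab {U : Type*} [AddCommGroup U] [Module F U] [Nontrivial U] (W : WordModel F U)
    (hl : IsLayer ρ A E) [(A.subgroupOf E).Normal] (h2 : (2 : F) ≠ 0) (hF : ∀ c : F, c ≠ 0 → c * c = 1)
    (hK : ∀ x ∈ alg ρ A, ∃ c : F, x = c • (1 : Module.End F V))
    (ψ : U ≃ₗ[F] V) (hgen : ∀ i < W.m, ∃ e ∈ E, ∃ c : F, ∀ v, ψ (W.op (2 ^ i) v) = c • ρ e (ψ v))
    (hcl : ∀ X : Subgroup G, A ≤ X →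
      (∀ i < W.m, ∀ e ∈ E, ∀ c : F, (∀ v, ψ (W.op (2 ^ i) v) = c • ρ e (ψ v)) → e ∈ X) → E ≤ X)
    (v : U) (hv : ψ v ≠ 0) :
    Nat.card (hl.lineStab hv) =
      Nat.card A * Nat.card {x : Fin (2 ^ W.m) // W.op x v = v ∨ W.op x v = -v} := by
  classical
  obtain ⟨Φ, hbij, hΦ, -, -⟩ := chart_index W hl h2 hF hK ψ hgen hcl
  have hiff : ∀ x, (Φ x : G) ∈ hl.lineStab hv ↔ (W.op x v = v ∨ W.op x v = -v) := by
    intro x
    obtain ⟨c, hc0, hc⟩ := hΦ x
    constructor
    · rintro ⟨-, k, hk, hkv⟩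
      obtain ⟨r, rfl⟩ := hK k hk
      have h1 : W.op x v = (c * r) • v := ψ.injective (by
        rw [hc, hkv, LinearMap.smul_apply, Module.End.one_apply, smul_smul, map_smul])
      have hcr : c * r ≠ 0 := fun e0 => hv (by
        rw [e0, zero_smul] at h1
        rw [← W.op_cancel x.2 v, h1, map_zero, smul_zero, map_zero])
      rcases mul_self_eq_one_iff.1 (hF _ hcr) with h | h <;> rw [h1, h]
      · exact Or.inl (one_smul _ _)
      · exact Or.inr (neg_one_smul _ _)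
    · intro h
      obtain ⟨r, hr⟩ : ∃ r : F, W.op x v = r • v := by
        rcases h with h | h
        · exact ⟨1, by rw [h, one_smul]⟩
        · exact ⟨-1, by rw [h, neg_one_smul]⟩
      refine ⟨(Φ x).2, _, Subalgebra.algebraMap_mem _ (c⁻¹ * r), ?_⟩
      rw [Module.algebraMap_end_apply]
      have h1 := hc v
      rw [hr, map_smul] at h1
      rw [mul_smul, h1, smul_smul, inv_mul_cancel₀ hc0, one_smul]
  let f : A × {x : Fin (2 ^ W.m) // W.op x v = v ∨ W.op x v = -v} → hl.lineStab hv := fun q =>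
    ⟨(Φ q.2.1 : G) * q.1, (hl.lineStab hv).mul_mem ((hiff _).2 q.2.2) (hl.le_lineStab hv q.1.2)⟩
  have hf : Function.Bijective f := by
    constructor
    · rintro ⟨a, x⟩ ⟨b, y⟩ h
      have h1 : (Φ x.1 : G) * a = Φ y.1 * b := congrArg Subtype.val h
      have hxy : x = y := Subtype.ext (hbij.1 (by
        show (Φ x.1 : E ⧸ A.subgroupOf E) = Φ y.1
        rw [QuotientGroup.eq, Subgroup.mem_subgroupOf]
        push_cast
        rw [show (Φ x.1 : G)⁻¹ * Φ y.1 = (a : G) * (b : G)⁻¹ by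
          rw [inv_mul_eq_iff_eq_mul, ← mul_assoc, h1, mul_inv_cancel_right]]
        exact A.mul_mem a.2 (A.inv_mem b.2)))
      subst hxy
      exact Prod.ext (Subtype.ext (mul_left_cancel h1)) rfl
    · rintro ⟨g, hg⟩
      obtain ⟨hgE, -⟩ := id hg
      obtain ⟨x, hx⟩ := hbij.2 (((⟨g, hgE⟩ : E) : E ⧸ A.subgroupOf E))
      change ((Φ x : E) : E ⧸ A.subgroupOf E) = _ at hx
      rw [QuotientGroup.eq, Subgroup.mem_subgroupOf] at hx
      push_cast at hx
      have hxmem : (Φ x : G) ∈ hl.lineStab hv := by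
        have := (hl.lineStab hv).mul_mem hg ((hl.lineStab hv).inv_mem (hl.le_lineStab hv hx))
        rwa [mul_inv_rev, inv_inv, mul_inv_cancel_left] at this
      exact ⟨(⟨_, hx⟩, ⟨x, (hiff x).1 hxmem⟩), Subtype.ext (mul_inv_cancel_left _ _)⟩
  rw [← Nat.card_congr (Equiv.ofBijective f hf), Nat.card_prod]

/-- The order of the line stabiliser from adapted representatives. -/
theorem card_L (ht : IsTop ρ A E w) (hsq : ∀ f ∈ E, f ^ 2 ∈ A) (h2 : (2 : F) ≠ 0) {k : ℕ} {m₁ m₂ : G}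
    (hm₁ : m₁ ∈ ht.N) (hm₂ : m₂ ∈ ht.N) (d : Adapted ht k m₁ m₂) :
    Nat.card ht.L = Nat.card A * 2 ^ k := by
  classical
  have hl := ht.toIsLayer
  have hb : ∀ b : Fin k → Bool, ∃ l ∈ ht.L, ∀ i : Fin k, cb (d.fe i) l = b i := fun b => by
    obtain ⟨z, hz, -, hzb⟩ := exists_bitsum hl hsq h2 d.le ht.L d.le_mem (fun i hi => ht.L_le (d.le_mem i hi))
      d.fe d.fe_mem d.dual (fun i => if h : i < k then b ⟨i, h⟩ else false) k le_rfl
    exact ⟨z, hz, fun i => by rw [hzb i i.2]; simp⟩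
  choose l hl' hlb using hb
  have hzero : ∀ x ∈ ht.L, (∀ i < k, cb (d.fe i) x = false) → x ∈ A := by
    intro x hx h
    refine hl.self _ (fun a ha => hl.cent _ (ht.L_le hx) a ha) fun g hg => ?_
    have hcm : ∀ y, x * y = y * x → y ∈ Subgroup.centralizer {x} := fun y hy =>
      Subgroup.mem_centralizer_iff.2 fun z hz => by rw [Set.mem_singleton_iff.1 hz]; exact hy
    have hc : E ≤ Subgroup.centralizer {x} := d.genE _ (fun a ha => hcm a (hl.cent _ (ht.L_le hx) a ha))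
      (fun i hi => hcm _ (ht.L_comm hx (d.le_mem i hi)))
      (fun i hi => hcm _ (cb_eq_false.1 (h i hi)).symm)
      (hcm _ (hm₁.2 _ hx).symm) (hcm _ (hm₂.2 _ hx).symm)
    exact Subgroup.mem_centralizer_iff.1 (hc hg) _ rfl
  let f : A × (Fin k → Bool) → ht.L := fun q => ⟨l q.2 * q.1, ht.L.mul_mem (hl' _) (ht.A_le q.1.2)⟩
  have hf : Function.Bijective f := by
    constructor
    · rintro ⟨a, b⟩ ⟨a', b'⟩ h
      have h1 : l b * a = l b' * a' := congrArg Subtype.val h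
      have hbb : b = b' := funext fun i => by
        have e : ∀ (c : Fin k → Bool) (z : A), cb (d.fe i) (l c * z) = c i := fun c z => by
          rw [cb_mul_right hl hsq h2 (ht.L_le (hl' c)) (hl.le z.2) (d.fe_mem i i.2),
            cb_scalar hl hsq h2 (d.fe_mem i i.2) z.2, Bool.xor_false, hlb]
        rw [← e b a, ← e b' a', h1]
      subst hbb
      exact Prod.ext (Subtype.ext (mul_left_cancel h1)) rfl
    · rintro ⟨x, hx⟩
      set b : Fin k → Bool := fun i => cb (d.fe i) x with hbdef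
      have hA : (l b)⁻¹ * x ∈ A := hzero _ (ht.L.mul_mem (ht.L.inv_mem (hl' b)) hx) fun i hi => by
        have e1 : cb (d.fe i) (l b) = cb (d.fe i) x := hlb b ⟨i, hi⟩
        have e2 := cb_mul_right hl hsq h2 (ht.L_le (hl' b))
          (E.mul_mem (E.inv_mem (ht.L_le (hl' b))) (ht.L_le hx)) (d.fe_mem i hi)
        rw [mul_inv_cancel_left, e1] at e2
        revert e2
        cases cb (d.fe i) x <;> cases cb (d.fe i) ((l b)⁻¹ * x) <;> simp
      exact ⟨(⟨_, hA⟩, b), Subtype.ext (mul_inv_cancel_left _ _)⟩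
  rw [← Nat.card_congr (Equiv.ofBijective f hf), Nat.card_prod, Nat.card_fun, Nat.card_eq_fintype_card (α := Bool),
    Fintype.card_bool, Nat.card_fin]

end Cfsg.Agent.CopBase
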