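import Cfsg.Agent.Lib.PrimSol.Fixed
import Mathlib.RingTheory.LittleWedderburn
import Mathlib.RingTheory.IntegralDomain

/-!
A three point set with trivial stabiliser for a group of order prime to three normalising an
irreducible abelian group over the field with two elements.
-/

set_option autoImplicit false
set_option linter.style.haveILetI false

namespace Cfsg.Agent.CopBase

open PrimSol

universe u v

variable {W : Type v} [AddCommGroup W] [Module (ZMod 2) W] [Finite W] [Nontrivial W]
  {H : Type u} [Group H] [Finite H] {ρ : H →* Module.End (ZMod 2) W}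

/-- An element whose cube is one in a group of order prime to three is trivial. -/
theorem eq_one_of_cube (h3 : ¬ 3 ∣ Nat.card H) {h : H} (hh : h ^ 3 = 1) : h = 1 := by
  have hp : Fact (Nat.Prime 3) := ⟨Nat.prime_three⟩
  by_contra hne
  exact h3 (orderOf_eq_prime hh hne ▸ orderOf_dvd_natCard h)

/-- Three points with trivial stabiliser. -/
theorem exists_field_set (hρ : Function.Injective ρ) (h3 : ¬ 3 ∣ Nat.card H)
    (N : Subgroup H) [N.Normal] (hNc : ∀ a ∈ N, ∀ b ∈ N, a * b = b * a)
    (hirr : ∀ U : Submodule (ZMod 2) W, (∀ n ∈ N, ∀ x ∈ U, ρ n x ∈ U) → U = ⊥ ∨ U = ⊤)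
    (hbig : 8 ≤ Nat.card W) :
    ∃ S : Set W, (0 : W) ∉ S ∧ ∀ h : H, (∀ x ∈ S, ρ h x ∈ S) → h = 1 := by
  classical
  haveI : Finite (Module.End (ZMod 2) W) := Finite.of_injective _ DFunLike.coe_injective
  let K : Subalgebra (ZMod 2) (Module.End (ZMod 2) W) := Subalgebra.centralizer (ZMod 2) (ρ '' (N : Set H))
  have hK : ∀ {k : Module.End (ZMod 2) W}, k ∈ K ↔ ∀ n ∈ N, ρ n * k = k * ρ n := fun {k} => by
    simp [K, Subalgebra.mem_centralizer_iff]
  obtain ⟨u, hu⟩ := exists_ne (0 : W)
  have hinjK : ∀ k ∈ K, k ≠ 0 → ∀ x, k x = 0 → x = 0 := by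
    intro k hk hk0 x hx
    have h1 := hirr (LinearMap.ker k) fun n hn y hy => by
      rw [LinearMap.mem_ker] at hy ⊢
      rw [← Module.End.mul_apply, ← hK.1 hk n hn, Module.End.mul_apply, hy, map_zero]
    rcases h1 with h1 | h1
    · rw [← LinearMap.mem_ker, h1, Submodule.mem_bot] at hx; exact hx
    · exact absurd (LinearMap.ker_eq_top.1 h1) hk0
  haveI : Nontrivial K := ⟨0, 1, fun h => hu (by
    have := congrArg (fun k : K => (k : Module.End (ZMod 2) W) u) h
    simpa using this.symm)⟩
  haveI : NoZeroDivisors K := ⟨fun {a b} hab => by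
    by_contra hc
    push Not at hc
    have h1 : (a : Module.End (ZMod 2) W) ((b : Module.End (ZMod 2) W) u) = 0 := by
      have := congrArg (fun k : K => (k : Module.End (ZMod 2) W) u) hab
      simpa using this
    exact hu (hinjK _ b.2 (fun e => hc.2 (Subtype.ext e)) u (hinjK _ a.2 (fun e => hc.1 (Subtype.ext e)) _ h1))⟩
  haveI : IsDomain K := NoZeroDivisors.to_isDomain _
  letI : Field K := (Finite.isDomain_to_isField K).toField
  have hinj : ∀ a b : K, (a : Module.End (ZMod 2) W) u = (b : Module.End (ZMod 2) W) u → a = b := by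
    intro a b h
    by_contra hne
    exact hu (hinjK _ (K.sub_mem a.2 b.2) (fun e => hne (Subtype.ext (sub_eq_zero.1 e))) u
      (by rw [LinearMap.sub_apply, h, sub_self]))
  have hsurj : ∀ x : W, ∃ k : K, (k : Module.End (ZMod 2) W) u = x := by
    intro x
    let ev : K →ₗ[ZMod 2] W :=
      { toFun := fun k => (k : Module.End (ZMod 2) W) u
        map_add' := fun a b => by simp
        map_smul' := fun c a => by simp }
    rcases hirr (LinearMap.range ev) (fun n hn y ⟨k, hk⟩ => ⟨⟨ρ n, hK.2 fun m hm => by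
      rw [← map_mul, ← map_mul, hNc m hm n hn]⟩ * k, by rw [← hk]; rfl⟩) with h | h
    · have : ev 1 = 0 := by rw [← Submodule.mem_bot (R := ZMod 2), ← h]; exact ⟨1, rfl⟩
      exact absurd this hu
    · exact LinearMap.mem_range.1 (h ▸ Submodule.mem_top : x ∈ LinearMap.range ev)
  have hcard : Nat.card K = Nat.card W :=
    Nat.card_eq_of_bijective (fun k : K => (k : Module.End (ZMod 2) W) u) ⟨fun a b => hinj a b, hsurj⟩
  obtain ⟨cu, hcu⟩ := IsCyclic.exists_generator (α := Kˣ)
  set c : K := (cu : K) with hc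
  have hord : orderOf c = Nat.card W - 1 := by
    haveI := Fintype.ofFinite K
    rw [hc, orderOf_units, orderOf_eq_card_of_forall_mem_zpowers hcu, Nat.card_units, hcard]
  have hpow : ∀ j, 0 < j → j < Nat.card W - 1 → c ^ j ≠ 1 := fun j h1 h2 =>
    pow_ne_one_of_lt_orderOf (by omega) (hord ▸ h2)
  have hc0 : c ≠ 0 := cu.ne_zero
  have hgen : ∀ k : K, k = 0 ∨ ∃ j : ℕ, k = c ^ j := by
    intro k
    by_cases hk : k = 0
    · exact Or.inl hk
    · obtain ⟨j, hj⟩ := Submonoid.mem_powers_iff _ _ |>.1 ((isOfFinOrder_of_finite cu).mem_powers_iff_mem_zpowers.2 (hcu (Units.mk0 k hk)))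
      exact Or.inr ⟨j, by rw [hc, ← Units.val_pow_eq_pow_val, hj, Units.val_mk0]⟩
  let e : K → W := fun k => (k : Module.End (ZMod 2) W) u
  have hσ : ∀ (h : H) (k : K), ρ h * (k : Module.End (ZMod 2) W) * ρ h⁻¹ ∈ K := by
    intro h k
    refine hK.2 fun n hn => ?_
    have hn' : h⁻¹ * n * h ∈ N := by simpa using ‹N.Normal›.conj_mem n hn h⁻¹
    calc ρ n * (ρ h * (k : Module.End (ZMod 2) W) * ρ h⁻¹)
        = ρ h * (ρ (h⁻¹ * n * h) * k) * ρ h⁻¹ := by
          simp only [← mul_assoc, ← map_mul]
          congr 2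
          · congr 1; group
      _ = ρ h * (k * ρ (h⁻¹ * n * h)) * ρ h⁻¹ := by rw [hK.1 k.2 _ hn']
      _ = ρ h * k * ρ h⁻¹ * ρ n := by
          simp only [mul_assoc, ← map_mul]
          congr 3
          group
  let σ : H → K → K := fun h k => ⟨_, hσ h k⟩
  have hσe : ∀ h a b, ρ h u = e b → ρ h (e a) = e (σ h a * b) := by
    intro h a b hb
    show ρ h ((a : Module.End (ZMod 2) W) u) = ρ h ((a : Module.End (ZMod 2) W) (ρ h⁻¹ ((b : Module.End (ZMod 2) W) u)))
    show _ = ρ h ((a : Module.End (ZMod 2) W) (ρ h⁻¹ (e b)))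
    rw [← hb, inv_apply_cancel]
  have hσmul : ∀ h a b, σ h (a * b) = σ h a * σ h b := by
    intro h a b
    apply Subtype.ext
    show ρ h * ((a : Module.End (ZMod 2) W) * b) * ρ h⁻¹ = ρ h * a * ρ h⁻¹ * (ρ h * b * ρ h⁻¹)
    have : ρ h⁻¹ * ρ h = 1 := by rw [← map_mul, inv_mul_cancel, map_one]
    simp only [mul_assoc]
    rw [← mul_assoc (ρ h⁻¹) (ρ h), this, one_mul]
  have hσσ : ∀ h a, h * h = 1 → σ h (σ h a) = a := by
    intro h a hh
    apply Subtype.ext
    show ρ h * (ρ h * (a : Module.End (ZMod 2) W) * ρ h⁻¹) * ρ h⁻¹ = a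
    have h1 : ρ h * ρ h = 1 := by rw [← map_mul, hh, map_one]
    have h2 : ρ h⁻¹ * ρ h⁻¹ = 1 := by rw [← map_mul, ← mul_inv_rev, hh, inv_one, map_one]
    simp only [← mul_assoc]
    rw [h1, one_mul, mul_assoc, h2, mul_one]
  have he : Function.Injective e := fun a b => hinj a b
  have he1 : e 1 = u := rfl
  have hall : ∀ h : H, ρ h u = u → ρ h (e c) = e c → h = 1 := by
    intro h h1 h2
    refine hρ (LinearMap.ext fun x => ?_)
    rw [map_one, Module.End.one_apply]
    obtain ⟨k, rfl⟩ := hsurj x
    have hcfix : σ h c = c := he (by rw [← h2, hσe h c 1 h1, mul_one])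
    rcases hgen k with rfl | ⟨j, rfl⟩
    · simp
    · have hj : σ h (c ^ j) = c ^ j := by
        induction j with
        | zero => exact he (by rw [pow_zero, he1, ← mul_one (σ h 1), ← hσe h 1 1 h1, he1, h1])
        | succ j ih => rw [pow_succ, hσmul, ih, hcfix]
      show ρ h (e (c ^ j)) = e (c ^ j)
      rw [hσe h _ 1 h1, mul_one, hj]
  refine ⟨{u, e c, e (c ^ 3)}, ?_, fun h hS => ?_⟩
  · have h0 : ∀ k : K, k ≠ 0 → e k ≠ 0 := fun k hk h => hu (hinjK _ k.2 (fun e => hk (Subtype.ext e)) u h)
    simp only [Set.mem_insert_iff, Set.mem_singleton_iff, not_or]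
    exact ⟨Ne.symm hu, (h0 _ hc0).symm, (h0 _ (pow_ne_zero _ hc0)).symm⟩
  have hinjh : Function.Injective (ρ h) := fun a b hab => apply_injective ρ h hab
  have n1 : u ≠ e c := fun h => hpow 1 one_pos (by omega) (by rw [pow_one]; exact (he (he1.trans h)).symm)
  have n3 : u ≠ e (c ^ 3) := fun h => hpow 3 (by omega) (by omega) (he (he1.trans h)).symm
  have n13 : e c ≠ e (c ^ 3) := fun h => hpow 2 two_pos (by omega)
    (mul_left_cancel₀ hc0 (by rw [mul_one, ← pow_succ']; exact (he h).symm))
  have m1 := hS u (Or.inl rfl)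
  have m2 := hS (e c) (Or.inr (Or.inl rfl))
  have m3 := hS (e (c ^ 3)) (Or.inr (Or.inr rfl))
  simp only [Set.mem_insert_iff, Set.mem_singleton_iff] at m1 m2 m3
  rcases m1 with a1 | a1 | a1
  · rcases m2 with a2 | a2 | a2
    · exact absurd (hinjh (a1.trans a2.symm)) n1
    · exact hall h a1 a2
    · rcases m3 with a3 | a3 | a3
      · exact absurd (hinjh (a1.trans a3.symm)) n3
      · have hh : h * h = 1 := hall _ (by rw [map_mul, Module.End.mul_apply, a1, a1])
          (by rw [map_mul, Module.End.mul_apply, a2, a3])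
        have hs : σ h c = c ^ 3 := he (by rw [← mul_one (σ h c), ← hσe h c 1 a1, a2])
        have := hσσ h c hh
        rw [hs, pow_succ, pow_two, hσmul, hσmul, hs] at this
        have h8 : c ^ 8 = 1 := mul_left_cancel₀ hc0 (by linear_combination this)
        have hd := orderOf_dvd_of_pow_eq_one h8
        rw [hord] at hd
        have hle := Nat.le_of_dvd (by omega) hd
        rcases (show Nat.card W = 8 ∨ Nat.card W = 9 by omega) with e | e
        · rw [e] at hd; norm_num at hd
        · obtain ⟨m, hm⟩ : ∃ m, Nat.card W = 2 ^ m :=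
            ⟨_, by rw [Module.natCard_eq_pow_finrank (K := ZMod 2) (V := W), Nat.card_zmod]⟩
          rw [e] at hm
          have : 2 ∣ 2 ^ m → False := by rw [← hm]; norm_num
          rcases m with _ | m
          · norm_num at hm
          · exact (this (dvd_pow_self 2 (Nat.succ_ne_zero m))).elim
      · exact absurd (hinjh (a2.trans a3.symm)) n13
  · rcases m2 with a2 | a2 | a2
    · rcases m3 with a3 | a3 | a3
      · exact absurd (hinjh (a2.trans a3.symm)) n13
      · exact absurd (hinjh (a1.trans a3.symm)) n3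
      · have hs : σ h c * c = 1 := he (by rw [← hσe h c c a1, a2, he1])
        have h2 : σ h (c ^ 3) * c = c ^ 3 := he (by rw [← hσe h _ c a1, a3])
        rw [pow_succ, pow_two, hσmul, hσmul] at h2
        refine absurd ?_ (hpow 5 (by omega) (by omega))
        linear_combination (-(c * c)) * h2 + ((σ h c * c) ^ 2 + σ h c * c + 1) * hs
    · exact absurd (hinjh (a1.trans a2.symm)) n1
    · rcases m3 with a3 | a3 | a3
      · refine eq_one_of_cube h3 (hall _ ?_ ?_) <;>
          rw [show h ^ 3 = h * (h * h) by rw [pow_succ', pow_two]] <;>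
          simp only [map_mul, Module.End.mul_apply, a1, a2, a3]
      · exact absurd (hinjh (a1.trans a3.symm)) n3
      · exact absurd (hinjh (a2.trans a3.symm)) n13
  · rcases m2 with a2 | a2 | a2
    · rcases m3 with a3 | a3 | a3
      · exact absurd (hinjh (a2.trans a3.symm)) n13
      · refine eq_one_of_cube h3 (hall _ ?_ ?_) <;>
          rw [show h ^ 3 = h * (h * h) by rw [pow_succ', pow_two]] <;>
          simp only [map_mul, Module.End.mul_apply, a1, a2, a3]
      · exact absurd (hinjh (a1.trans a3.symm)) n3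
    · rcases m3 with a3 | a3 | a3
      · have hh : h * h = 1 := hall _ (by rw [map_mul, Module.End.mul_apply, a1, a3])
          (by rw [map_mul, Module.End.mul_apply, a2, a2])
        have h1 : σ h c * c ^ 3 = c := he (by rw [← hσe h c (c ^ 3) a1, a2])
        have hs : σ h c * (c * c) = 1 := mul_left_cancel₀ hc0 (by linear_combination h1)
        have h4 : σ h (σ h c * (c * c)) = σ h 1 := by rw [hs]
        rw [hσmul, hσmul, hσσ h c hh] at h4
        have h5 : σ h (1 : K) = 1 := Subtype.ext (by
          show ρ h * 1 * ρ h⁻¹ = 1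
          rw [mul_one, ← map_mul, mul_inv_cancel, map_one])
        rw [h5] at h4
        refine absurd (mul_left_cancel₀ hc0 ?_) (hpow 3 (by omega) (by omega))
        linear_combination -(c ^ 4) * h4 + c * (σ h c * (c * c) + 1) * hs
      · exact absurd (hinjh (a2.trans a3.symm)) n13
      · exact absurd (hinjh (a1.trans a3.symm)) n3
    · exact absurd (hinjh (a1.trans a2.symm)) n1

end Cfsg.Agent.CopBase
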