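import Cfsg.Agent.Lib.SolBase.Gens
import Mathlib.FieldTheory.Fixed

/-!
Coprime linear groups: semilinear elements are killed by a scalar shift of the second vector.
-/

set_option autoImplicit false
set_option linter.style.haveILetI false
set_option linter.unusedSectionVars false

namespace Cfsg.Agent.CopBase

open PrimSol SolBase

variable {F : Type*} [Field F] {V : Type*} [AddCommGroup V] [Module F V] [FiniteDimensional F V]
  [Finite V] [Nontrivial V] {G : Type*} [Group G] [Finite G] {ρ : G →* Module.End F V}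
  {A : Subgroup G}

lemma sq_lt_three_pow : ∀ f : ℕ, f ^ 2 < 3 ^ f
  | 0 => by norm_num
  | 1 => by norm_num
  | 2 => by norm_num
  | n + 3 => by
    have := sq_lt_three_pow (n + 2)
    calc (n + 3) ^ 2 ≤ 3 * (n + 2) ^ 2 := by ring_nf; omega
      _ < 3 * 3 ^ (n + 2) := by linarith
      _ = 3 ^ (n + 3) := by ring

lemma three_le_card [Finite F] (h2 : (2 : F) ≠ 0) : 3 ≤ Nat.card F := by
  classical
  haveI := Fintype.ofFinite F
  rw [Nat.card_eq_fintype_card]
  have h : (-1 : F) ≠ 1 := fun e => h2 (by linear_combination -e)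
  calc 3 = ({0, 1, -1} : Finset F).card := by
        rw [Finset.card_insert_of_notMem (by simp), Finset.card_pair h.symm]
    _ ≤ _ := Finset.card_le_univ _

/-- A group of order prime to the characteristic has no shears. -/
lemma eq_zero_of_shift (hcop : (Nat.card G : F) ≠ 0) {h : G} {v z : V}
    (hz : ρ h z = z) (hv : ρ h v = v + z) : z = 0 := by
  have key : ∀ n : ℕ, ρ (h ^ n) v = v + (n : F) • z := by
    intro n
    induction n with
    | zero => simp
    | succ n ih =>
      rw [pow_succ', map_mul, Module.End.mul_apply, ih, map_add, map_smul, hz, hv]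
      push_cast
      rw [add_smul, one_smul]
      abel
  have h1 := key (Nat.card G)
  rw [pow_card_eq_one', map_one, Module.End.one_apply] at h1
  exact (smul_eq_zero.1 (left_eq_add.1 h1)).resolve_left hcop

/-- From two vectors for the elements commuting with the scalars to two vectors for all. -/
theorem exists_shift (hK : IsScalars ρ A) (hρ : Function.Injective ρ) (h2 : (2 : F) ≠ 0)
    (hcop : (Nat.card G : F) ≠ 0) {u v : V} (hu : u ≠ 0)
    (hbase : ∀ g : G, (∀ a ∈ A, g * a = a * g) → ρ g u = u → ρ g v = v → g = 1) :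
    ∃ y : V, ∀ g : G, ρ g u = u → ρ g y = y → g = 1 := by
  classical
  by_contra hcon
  push Not at hcon
  haveI : Finite (Module.End F V) := Finite.of_injective _ DFunLike.coe_injective
  haveI : Finite F := Finite.of_injective (algebraMap F (Module.End F V))
    (FaithfulSMul.algebraMap_injective F _)
  let K := alg ρ A
  letI : CommRing K :=
    { (inferInstance : Ring K) with
      mul_comm := fun x y => Subtype.ext (hK.comm x x.2 y y.2) }
  haveI : Nontrivial K := ⟨0, 1, fun h => zero_ne_one (congrArg Subtype.val h)⟩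
  haveI : NoZeroDivisors K := ⟨fun {x y} h =>
    (hK.eq_zero_or x.2 (congrArg Subtype.val h)).imp Subtype.ext Subtype.ext⟩
  haveI : IsDomain K := NoZeroDivisors.to_isDomain _
  letI : Field K := (Finite.isDomain_to_isField K).toField
  haveI : FiniteDimensional F K := Module.Finite.of_finite
  haveI := Fintype.ofFinite K
  choose g hgu hgy hg1 using fun t : K => hcon (v + (t : Module.End F V) u)
  let σ : G → (K →ₐ[F] K) := fun g =>
    { toFun := fun k => ⟨ρ g * k * ρ g⁻¹, hK.conj g k k.2⟩
      map_one' := Subtype.ext (by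
        show ρ g * 1 * ρ g⁻¹ = 1
        rw [mul_one, ← map_mul, mul_inv_cancel, map_one])
      map_mul' := fun x y => Subtype.ext (by
        show ρ g * (x * y : Module.End F V) * ρ g⁻¹ = ρ g * x * ρ g⁻¹ * (ρ g * y * ρ g⁻¹)
        have e : ρ g⁻¹ * ρ g = 1 := by rw [← map_mul, inv_mul_cancel, map_one]
        rw [mul_assoc (ρ g * (x : Module.End F V)), ← mul_assoc (ρ g⁻¹), ← mul_assoc (ρ g⁻¹), e, one_mul]
        simp only [mul_assoc])
      map_zero' := Subtype.ext (by
        show ρ g * 0 * ρ g⁻¹ = 0
        rw [mul_zero, zero_mul])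
      map_add' := fun x y => Subtype.ext (by
        show ρ g * (x + y : Module.End F V) * ρ g⁻¹ = ρ g * x * ρ g⁻¹ + ρ g * y * ρ g⁻¹
        rw [mul_add, add_mul])
      commutes' := fun r => Subtype.ext (by
        show ρ g * algebraMap F (Module.End F V) r * ρ g⁻¹ = algebraMap F (Module.End F V) r
        rw [← Algebra.commutes, mul_assoc, ← map_mul, mul_inv_cancel, map_one, mul_one]) }
  have happ : ∀ h : G, ρ h u = u → ∀ k : K,
      ρ h ((k : Module.End F V) u) = (σ h k : Module.End F V) u := by
    intro h hh k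
    have hh' : ρ h⁻¹ u = u := by
      conv_lhs => rw [← hh]
      exact inv_apply_cancel ρ h u
    show _ = (ρ h * (k : Module.End F V) * ρ h⁻¹) u
    simp only [Module.End.mul_apply, hh']
  have hcomm : ∀ h : G, (∀ k : K, σ h k = k) → ∀ a ∈ A, h * a = a * h := by
    intro h hh a ha
    have h1 : ρ h * ρ a * ρ h⁻¹ = ρ a :=
      congrArg Subtype.val (hh ⟨ρ a, Algebra.subset_adjoin ⟨a, ha, rfl⟩⟩)
    have h3 : h * a * h⁻¹ = a := hρ (by rw [map_mul, map_mul, h1])
    calc h * a = h * a * h⁻¹ * h := by group
      _ = a * h := by rw [h3]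
  have hnid : ∀ t, ∃ μ : K, σ (g t) μ ≠ μ := by
    intro t
    by_contra hall
    push Not at hall
    refine hg1 t (hbase _ (hcomm _ hall) (hgu t) ?_)
    have h := hgy t
    rw [map_add, happ _ (hgu t), hall t] at h
    exact add_right_cancel h
  -- shifts with the same field automorphism differ by a fixed scalar
  have hfib : ∀ t t', σ (g t) = σ (g t') → σ (g t) (t' - t) = t' - t := by
    intro t t' hσ
    set h := (g t)⁻¹ * g t' with hh
    have hhu : ρ h u = u := by
      rw [hh, map_mul, Module.End.mul_apply, hgu t']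
      conv_lhs => rw [← hgu t]
      exact inv_apply_cancel ρ _ u
    have hhK : ∀ k : K, σ h k = k := by
      intro k
      refine Subtype.ext ?_
      have h1 : ρ (g t) * (k : Module.End F V) * ρ (g t)⁻¹ =
          ρ (g t') * (k : Module.End F V) * ρ (g t')⁻¹ := congrArg Subtype.val (AlgHom.congr_fun hσ k)
      show ρ h * (k : Module.End F V) * ρ h⁻¹ = k
      have e : ∀ a : G, ρ a⁻¹ * ρ a = 1 := fun a => by rw [← map_mul, inv_mul_cancel, map_one]
      calc ρ h * (k : Module.End F V) * ρ h⁻¹
          = ρ (g t)⁻¹ * (ρ (g t') * k * ρ (g t')⁻¹) * ρ (g t) := by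
            rw [hh, mul_inv_rev, inv_inv, map_mul, map_mul]; simp only [mul_assoc]
        _ = ρ (g t)⁻¹ * (ρ (g t) * k * ρ (g t)⁻¹) * ρ (g t) := by rw [h1]
        _ = (ρ (g t)⁻¹ * ρ (g t)) * k * (ρ (g t)⁻¹ * ρ (g t)) := by simp only [mul_assoc]
        _ = k := by rw [e, one_mul, mul_one]
    have e2 : ρ (g t) (ρ h v) = ρ (g t') v := by
      rw [← Module.End.mul_apply, ← map_mul, hh, mul_inv_cancel_left]
    have h3 : ∀ s, ρ (g s) v = v + (s : Module.End F V) u - (σ (g s) s : Module.End F V) u := by
      intro s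
      rw [eq_sub_iff_add_eq, ← happ _ (hgu s), ← map_add, hgy s]
    set c : K := (t' - t) - σ (g t) (t' - t) with hc
    have hd : ρ (g t) (ρ h v - v) = (c : Module.End F V) u := by
      rw [map_sub, e2, h3, h3, ← hσ, hc, map_sub]
      push_cast
      simp only [LinearMap.sub_apply]
      abel
    obtain ⟨d, hd1⟩ : ∃ d : K, σ (g t) d = c :=
      (Finite.injective_iff_surjective.1 (RingHom.injective (σ (g t)).toRingHom)) c
    have hzv : ρ h v = v + (d : Module.End F V) u := by
      rw [← sub_eq_iff_eq_add']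
      exact apply_injective ρ (g t) (hd.trans (by rw [happ _ (hgu t), hd1]))
    have hz : ρ h ((d : Module.End F V) u) = (d : Module.End F V) u := by
      rw [happ _ hhu, hhK]
    have hz0 := eq_zero_of_shift hcop hz hzv
    have hd0 : d = 0 := Subtype.ext (hK.eq_zero d.2 hu hz0)
    rw [hd0, map_zero] at hd1
    exact (sub_eq_zero.1 hd1.symm).symm
  -- the count
  let P : (K →ₐ[F] K) → Finset K := fun s => Finset.univ.filter fun t => σ (g t) = s
  have hP : ∀ s, (P s).card ^ 2 ≤ Fintype.card K := by
    intro s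
    rcases (P s).eq_empty_or_nonempty with h | ⟨t₀, ht₀⟩
    · rw [h]; simp
    obtain ⟨μ, hμ⟩ := hnid t₀
    have hs : σ (g t₀) = s := (Finset.mem_filter.1 ht₀).2
    have hfix : ∀ t ∈ P s, σ (g t₀) (t - t₀) = t - t₀ := fun t htm =>
      hfib t₀ t (hs.trans (Finset.mem_filter.1 htm).2.symm)
    rw [pow_two, ← Finset.card_product]
    refine Finset.card_le_card_of_injOn (t := Finset.univ) (fun x => (x.1 - t₀) + (x.2 - t₀) * μ)
      (fun x _ => Finset.mem_univ _) ?_
    intro x hx y hy hxy
    simp only [Finset.coe_product, Set.mem_prod, Finset.mem_coe] at hx hy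
    have ha := hfix _ hx.1
    have hb := hfix _ hx.2
    have ha' := hfix _ hy.1
    have hb' := hfix _ hy.2
    simp only at hxy
    have h1 := congrArg (σ (g t₀)) hxy
    rw [map_add, map_add, map_mul, map_mul, ha, hb, ha', hb'] at h1
    have h4 : (x.2 - y.2) * (σ (g t₀) μ - μ) = 0 := by linear_combination h1 - hxy
    have h5 : x.2 = y.2 := sub_eq_zero.1 ((mul_eq_zero.1 h4).resolve_right (sub_ne_zero.2 hμ))
    refine Prod.ext ?_ h5
    rw [h5] at hxy
    exact sub_left_inj.1 (add_right_cancel hxy)
  have hsum : Fintype.card K = ∑ s : K →ₐ[F] K, (P s).card :=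
    Finset.card_eq_sum_card_fiberwise (fun t _ => Finset.mem_coe.2 (Finset.mem_univ _))
  have hq : Fintype.card K = Nat.card F ^ Module.finrank F K := by
    rw [← Nat.card_eq_fintype_card, Module.natCard_eq_pow_finrank (K := F)]
  obtain ⟨s₀, -, hs₀⟩ := Finset.exists_max_image (Finset.univ : Finset (K →ₐ[F] K))
    (fun s => (P s).card) Finset.univ_nonempty
  have h6 : Fintype.card K ≤ Module.finrank F K * (P s₀).card := by
    rw [hsum]
    refine (Finset.sum_le_card_nsmul _ _ _ fun s hs => hs₀ s hs).trans ?_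
    rw [smul_eq_mul, Finset.card_univ]
    exact Nat.mul_le_mul_right _ AlgHom.card_le
  have h7 : Fintype.card K ^ 2 ≤ Module.finrank F K ^ 2 * Fintype.card K :=
    calc Fintype.card K ^ 2 ≤ (Module.finrank F K * (P s₀).card) ^ 2 := Nat.pow_le_pow_left h6 2
      _ ≤ _ := by rw [mul_pow]; exact Nat.mul_le_mul_left _ (hP s₀)
  rw [pow_two (Fintype.card K)] at h7
  have h8 := Nat.le_of_mul_le_mul_right h7 Fintype.card_pos
  have h9 := Nat.pow_le_pow_left (three_le_card h2) (Module.finrank F K)
  have h10 := sq_lt_three_pow (Module.finrank F K)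
  omega

end Cfsg.Agent.CopBase
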