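import Cfsg.Agent.Lib.SolBase.Primitive
import Cfsg.Agent.Lib.CopBase.Colour
import Cfsg.Agent.Lib.CopBase.Galois

/-!
Monomial coordinates over the eigenspace of a line stabiliser, and two vectors from a rigid colouring.
-/

set_option autoImplicit false
set_option linter.style.haveILetI false
set_option linter.unusedSectionVars false

namespace Cfsg.Agent.CopBase

open PrimSol SolBase
open scoped commutatorElement

universe u v

/-- Two vectors with trivial common stabiliser. -/
def Two {F : Type*} [Field F] {V : Type*} [AddCommGroup V] [Module F V] {G : Type*} [Group G]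
    (ρ : G →* Module.End F V) : Prop :=
  ∃ x y : V, ∀ g : G, ρ g x = x → ρ g y = y → g = 1

/-- The inductive hypothesis: coprime soluble groups of smaller dimension have two such vectors. -/
def Below (F : Type*) [Field F] (n : ℕ) : Prop :=
  ∀ (V : Type v) [AddCommGroup V] [Module F V] [FiniteDimensional F V] [Finite V]
    (G : Type u) [Group G] [Finite G] (ρ : G →* Module.End F V),
    Module.finrank F V < n → Function.Injective ρ → Group.IsSolvable G → (Nat.card G : F) ≠ 0 → Two ρ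

variable {F : Type*} [Field F] {V : Type v} [AddCommGroup V] [Module F V] [FiniteDimensional F V]
  [Finite V] [Nontrivial V] {G : Type u} [Group G] [Finite G] {ρ : G →* Module.End F V}
  {A E : Subgroup G} {w : V}

/-- The common eigenspace of the line stabiliser through the chosen vector. -/
def space (ht : IsTop ρ A E w) : Submodule F V where
  carrier := {x | ∀ l ∈ ht.L, ∀ k ∈ alg ρ A, ρ l w = k w → ρ l x = k x}
  zero_mem' := fun l _ k _ _ => by rw [map_zero, map_zero]
  add_mem' := fun {x y} hx hy l hl k hk h => by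
    rw [map_add, map_add, hx l hl k hk h, hy l hl k hk h]
  smul_mem' := fun c x hx l hl k hk h => by rw [map_smul, map_smul, hx l hl k hk h]

variable (ht : IsTop ρ A E w)
include ht

theorem mem_space {x : V} :
    x ∈ space ht ↔ ∀ l ∈ ht.L, ∀ k ∈ alg ρ A, ρ l w = k w → ρ l x = k x := Iff.rfl

theorem self_mem_space : w ∈ space ht := fun _ _ _ _ h => h

theorem scalar_mem_space {c : Module.End F V} (hc : c ∈ alg ρ A) {x : V} (hx : x ∈ space ht) :
    c x ∈ space ht := by
  intro l hlm k hk hlk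
  have hl := ht.toIsLayer
  rw [← Module.End.mul_apply, hl.commute_scalar (ht.L_le hlm) hc, Module.End.mul_apply, hx l hlm k hk hlk,
    ← Module.End.mul_apply, hl.scal.comm c hc k hk, Module.End.mul_apply]

theorem N_mem_space {n : G} (hn : n ∈ ht.N) {x : V} (hx : x ∈ space ht) : ρ n x ∈ space ht := by
  intro l hlm k hk hlk
  have hl := ht.toIsLayer
  rw [← Module.End.mul_apply, ← map_mul, ← hn.2 l hlm, map_mul, Module.End.mul_apply, hx l hlm k hk hlk,
    ← Module.End.mul_apply, hl.commute_scalar hn.1 hk, Module.End.mul_apply]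

theorem conj_L {g : G} (hgw : ρ g w = w) {l : G} (hlm : l ∈ ht.L) : g * l * g⁻¹ ∈ ht.L := by
  obtain ⟨hlE, k, hk, hkw⟩ := hlm
  have hgw' : ρ g⁻¹ w = w := by
    conv_lhs => rw [← hgw]
    exact inv_apply_cancel ρ g w
  refine ⟨ht.normal.conj_mem l hlE g, ρ g * k * ρ g⁻¹, ht.scal.conj g k hk, ?_⟩
  simp only [map_mul, Module.End.mul_apply, hgw', hkw]

theorem conj_N {g : G} (hgw : ρ g w = w) {n : G} (hn : n ∈ ht.N) : g * n * g⁻¹ ∈ ht.N := by
  refine ⟨ht.normal.conj_mem n hn.1 g, fun l hlm => ?_⟩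
  have hgw' : ρ g⁻¹ w = w := by
    conv_lhs => rw [← hgw]
    exact inv_apply_cancel ρ g w
  have := hn.2 _ (conj_L ht hgw' hlm)
  calc g * n * g⁻¹ * l = g * (n * (g⁻¹ * l * g⁻¹⁻¹)) * g⁻¹ := by group
    _ = g * (g⁻¹ * l * g⁻¹⁻¹ * n) * g⁻¹ := by rw [this]
    _ = l * (g * n * g⁻¹) := by group

theorem map_mem_space {g : G} (hgw : ρ g w = w) {x : V} (hx : x ∈ space ht) : ρ g x ∈ space ht := by
  intro l hlm k hk hlk
  have hgw' : ρ g⁻¹ w = w := by
    conv_lhs => rw [← hgw]
    exact inv_apply_cancel ρ g w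
  have h2 := hx _ (conj_L ht hgw' hlm) (ρ g⁻¹ * k * ρ g⁻¹⁻¹) (ht.scal.conj g⁻¹ k hk) (by
    simp only [map_mul, inv_inv, Module.End.mul_apply, hgw, hlk])
  have h3 := congrArg (ρ g) h2
  simpa [map_mul, Module.End.mul_apply, apply_inv_cancel] using h3

/-- An element of the centraliser fixing a nonzero vector of the eigenspace fixes the chosen vector. -/
theorem fix_of_fix {n : G} (hn : n ∈ ht.N) {c : V} (hc : c ∈ space ht) (hc0 : c ≠ 0) (h : ρ n c = c) :
    ρ n w = w := by
  have hl := ht.toIsLayer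
  have hle : ht.L ≤ hl.lineStab hc0 := fun l hlm => by
    obtain ⟨hlE, k, hk, hlk⟩ := hlm
    exact ⟨hlE, k, hk, hc l ⟨hlE, k, hk, hlk⟩ k hk hlk⟩
  have hnL : n ∈ ht.L := by
    rw [Subgroup.eq_of_le_of_card_ge hle (ht.top c hc0)]
    exact ⟨hn.1, 1, one_mem _, by rw [h, Module.End.one_apply]⟩
  obtain ⟨k, hk, hnk⟩ := hnL.2
  have h1 := hc n hnL k hk hnk
  rw [h] at h1
  rw [hnk, hl.scal.eq_of_apply hk (one_mem _) hc0 (by rw [← h1, Module.End.one_apply]), Module.End.one_apply]

/-- Two vectors from a rigid colouring of the quotient of the layer. -/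
theorem two_of_colour [(ht.N.subgroupOf E).Normal] (z : V)
    (hS : ∀ g : G, ρ g w = w → ρ g z = z → ∀ x ∈ space ht, ρ g x = x)
    (T : E ⧸ ht.N.subgroupOf E → G) (hT : ∀ v, ∃ hv : T v ∈ E, ((⟨T v, hv⟩ : E) : E ⧸ ht.N.subgroupOf E) = v)
    (hT1 : T 1 = 1) (c : E ⧸ ht.N.subgroupOf E → V) (hc : ∀ v, c v ∈ space ht) (hc1 : c 1 = z)
    (hrigid : ∀ (g : G) (M : E ⧸ ht.N.subgroupOf E →* E ⧸ ht.N.subgroupOf E),
      (∀ a ∈ A, g * a = a * g) → ρ g w = w → (∀ x ∈ space ht, ρ g x = x) → Function.Injective M →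
      (∀ v, v ≠ 1 → (T (M v))⁻¹ * (g * T v * g⁻¹) ∈ ht.N ∧
        ρ ((T (M v))⁻¹ * (g * T v * g⁻¹)) (c v) = c (M v)) → M = MonoidHom.id _)
    (hgood : Spreads {v | v = 1 ∨ c v ≠ 0}) : Two ρ := by
  classical
  have hl := ht.toIsLayer
  haveI := Fintype.ofFinite (E ⧸ ht.N.subgroupOf E)
  choose hTE hTm using hT
  have hTinj : ∀ u v, (T u)⁻¹ * T v ∈ ht.N → u = v := fun u v h => by
    rw [← hTm u, ← hTm v, QuotientGroup.eq, Subgroup.mem_subgroupOf]
    exact h
  refine ⟨w, ∑ v, ρ (T v) (c v), fun g hgw hgy => ?_⟩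
  have hgw' : ρ g⁻¹ w = w := by
    conv_lhs => rw [← hgw]
    exact inv_apply_cancel ρ g w
  let cE : E →* E :=
    { toFun := fun x => ⟨g * x * g⁻¹, hl.normal.conj_mem x x.2 g⟩
      map_one' := Subtype.ext (by simp)
      map_mul' := fun x y => Subtype.ext (by
        show g * ((x * y : E) : G) * g⁻¹ = g * x * g⁻¹ * (g * y * g⁻¹)
        rw [Subgroup.coe_mul]; group) }
  let M : E ⧸ ht.N.subgroupOf E →* E ⧸ ht.N.subgroupOf E :=
    QuotientGroup.map _ _ cE fun x hx => by
      rw [Subgroup.mem_comap, Subgroup.mem_subgroupOf]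
      exact conj_N ht hgw hx
  have hMinj : Function.Injective M := by
    rw [injective_iff_map_eq_one]
    intro x hx
    obtain ⟨x, rfl⟩ := QuotientGroup.mk_surjective x
    rw [QuotientGroup.map_mk, QuotientGroup.eq_one_iff, Subgroup.mem_subgroupOf] at hx
    rw [QuotientGroup.eq_one_iff, Subgroup.mem_subgroupOf]
    have := conj_N ht hgw' hx
    simpa [cE, mul_assoc] using this
  let nv : E ⧸ ht.N.subgroupOf E → G := fun v => (T (M v))⁻¹ * (g * T v * g⁻¹)
  have hnv : ∀ v, nv v ∈ ht.N := by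
    intro v
    have h : M v = ((cE ⟨T v, hTE v⟩ : E) : E ⧸ ht.N.subgroupOf E) := by
      conv_lhs => rw [← hTm v]
      exact QuotientGroup.map_mk _ _ _ _ _
    have h2 := (hTm (M v)).trans h
    rw [QuotientGroup.eq, Subgroup.mem_subgroupOf] at h2
    exact h2
  have key : ∀ v, ρ (nv v) (ρ g (c v)) = c (M v) := by
    let Me : (E ⧸ ht.N.subgroupOf E) ≃ (E ⧸ ht.N.subgroupOf E) :=
      Equiv.ofBijective M (Finite.injective_iff_bijective.1 hMinj)
    have h1 : ρ g (∑ v, ρ (T v) (c v)) = ∑ v, ρ (T (M v)) (ρ (nv v) (ρ g (c v))) := by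
      rw [map_sum]
      refine Finset.sum_congr rfl fun v _ => ?_
      simp only [← Module.End.mul_apply, ← map_mul, nv]
      congr 2
      group
    have h2 : ∑ v, ρ (T (M v)) (ρ (nv v) (ρ g (c v)) - c (M v)) = 0 := by
      simp only [map_sub, Finset.sum_sub_distrib]
      rw [← h1, hgy, sub_eq_zero]
      exact (Me.sum_comp fun u => ρ (T u) (c u)).symm
    have h3 := ht.expansion_zero (fun v => T (M v)) (fun v => hTE _)
      (fun u v h => hMinj (hTinj _ _ h)) (fun v => ρ (nv v) (ρ g (c v)) - c (M v))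
      (fun v l hlm k hk hlk => by
        rw [map_sub, map_sub, N_mem_space ht (hnv v) (map_mem_space ht hgw (hc v)) l hlm k hk hlk,
          hc _ l hlm k hk hlk]) h2
    exact fun v => sub_eq_zero.1 (h3 v)
  have hn1 : nv 1 = 1 := by simp [nv, hT1, map_one M]
  have hgz : ρ g z = z := by
    have := key 1
    rwa [map_one, hn1, map_one, Module.End.one_apply, hc1] at this
  have hgV : ∀ x ∈ space ht, ρ g x = x := hS g hgw hgz
  have hgA : ∀ a ∈ A, g * a = a * g := by
    intro a ha
    have h1 : ρ g * ρ a * ρ g⁻¹ = ρ a :=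
      hl.scal.eq_of_apply (hl.scal.conj g _ (hl.scalar ha)) (hl.scalar ha) ht.ne (by
        simp only [Module.End.mul_apply, hgw']
        exact hgV _ (scalar_mem_space ht (hl.scalar ha) (self_mem_space ht)))
    have h3 : g * a * g⁻¹ = a := hl.inj (by rw [map_mul, map_mul, h1])
    calc g * a = g * a * g⁻¹ * g := by group
      _ = a * g := by rw [h3]
  have hMid := hrigid g M hgA hgw hgV hMinj fun v _ => ⟨hnv v, by
    have := key v
    rwa [hgV _ (hc v)] at this⟩
  have hMv : ∀ v, M v = v := fun v => by rw [hMid, MonoidHom.id_apply]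
  -- the defect of commuting
  let d : G → G := fun f => f⁻¹ * (g * f * g⁻¹)
  have hdE : ∀ f ∈ E, d f ∈ E := fun f hf => E.mul_mem (E.inv_mem hf) (hl.normal.conj_mem f hf g)
  set B := {v : E ⧸ ht.N.subgroupOf E | v = 1 ∨ c v ≠ 0} with hB
  have hdT : ∀ v ∈ B, d (T v) ∈ ht.N ∧ ρ (d (T v)) w = w := by
    intro v hv
    have e : d (T v) = nv v := by simp only [d, nv, hMv]
    rw [e]
    refine ⟨hnv v, ?_⟩
    by_cases hv1 : v = 1
    · rw [hv1, hn1, map_one, Module.End.one_apply]
    · refine fix_of_fix ht (hnv v) (hc v) (hv.resolve_left hv1) ?_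
      have := key v
      rwa [hgV _ (hc v), hMv] at this
  have hdN : ∀ n ∈ ht.N, d n ∈ ht.N ∧ ρ (d n) w = w := by
    intro n hn
    refine ⟨ht.N.mul_mem (ht.N.inv_mem hn) (conj_N ht hgw hn), ?_⟩
    simp only [d, map_mul, Module.End.mul_apply, hgw', hgV _ (N_mem_space ht hn (self_mem_space ht)),
      inv_apply_cancel]
  have hmul : ∀ f h, d (f * h) = h⁻¹ * d f * h * d h := fun f h => by simp only [d]; group
  have hcomm : ∀ f h, h ∈ E → f ∈ E → ρ (d f) w = w → ρ (d h) w = w → ρ (d (f * h)) w = w →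
      d f * h = h * d f := by
    intro f h hh hf h1 h2 h3
    rw [hmul, map_mul, Module.End.mul_apply, h2, map_mul, map_mul, Module.End.mul_apply,
      Module.End.mul_apply] at h3
    have h4 : ρ (d f) (ρ h w) = ρ h w := by
      conv_rhs => rw [← h3]
      rw [apply_inv_cancel]
    refine commutatorElement_eq_one_iff_mul_comm.1 (hl.eq_one (hl.der _ (hdE f hf) _ hh)
      (v := ρ h w) (fun e => ht.ne (apply_injective ρ h (e.trans (map_zero _).symm))) ?_)
    have h1' : ρ (d f)⁻¹ w = w := by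
      conv_lhs => rw [← h1]
      exact inv_apply_cancel ρ _ w
    simp only [commutatorElement_def, map_mul, Module.End.mul_apply, inv_apply_cancel, h1', h4]
  have hinL : ∀ f, f ∈ ht.N → ρ f w = w → f ∈ ht.L := fun f hf h =>
    ⟨hf.1, 1, one_mem _, by rw [h, Module.End.one_apply]⟩
  -- centralisers containing N and a generating set of the quotient
  have hcover : ∀ (X : Subgroup G) (S : Set (E ⧸ ht.N.subgroupOf E)), Subgroup.closure S = ⊤ →
      ht.N ≤ X → (∀ s ∈ S, T s ∈ X) → E ≤ X := by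
    intro X S hS hNX hSX f hf
    have h1 : ((⟨f, hf⟩ : E) : E ⧸ ht.N.subgroupOf E) ∈
        (X.subgroupOf E).map (QuotientGroup.mk' (ht.N.subgroupOf E)) := by
      have : Subgroup.closure S ≤ (X.subgroupOf E).map (QuotientGroup.mk' (ht.N.subgroupOf E)) := by
        rw [Subgroup.closure_le]
        intro s hs
        exact ⟨⟨T s, hTE s⟩, Subgroup.mem_subgroupOf.2 (hSX s hs), hTm s⟩
      rw [hS] at this
      exact this (Subgroup.mem_top _)
    obtain ⟨x, hx, hxf⟩ := h1
    rw [QuotientGroup.mk'_apply, QuotientGroup.eq, Subgroup.mem_subgroupOf] at hxf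
    have := X.mul_mem (Subgroup.mem_subgroupOf.1 hx) (hNX hxf)
    simpa using this
  let cent : G → Subgroup G := fun y => Subgroup.centralizer {y}
  have hcent : ∀ y x, y * x = x * y → x ∈ cent y := fun y x h =>
    Subgroup.mem_centralizer_iff.2 fun z hz => by rw [Set.mem_singleton_iff.1 hz]; exact h
  have hcent' : ∀ y x, x ∈ cent y → y * x = x * y := fun y x h =>
    Subgroup.mem_centralizer_iff.1 h y rfl
  -- elements of B give trivial defects
  set H := {f | f ∈ B ∧ Subgroup.closure {h | h ∈ B ∧ f * h ∈ B} = ⊤} with hH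
  have hdT1 : ∀ u ∈ H, d (T u) = 1 := by
    rintro u ⟨hu, hgu⟩
    obtain ⟨huN, huw⟩ := hdT u hu
    have hL := hinL _ huN huw
    have hcN : ∀ n ∈ ht.N, d (T u) * n = n * d (T u) := fun n hn => (hn.2 _ hL).symm
    have hE : E ≤ cent (d (T u)) := by
      refine hcover _ _ hgu (fun n hn => hcent _ _ (hcN n hn)) fun v hv => hcent _ _ ?_
      obtain ⟨hvB, huv⟩ := hv
      refine hcomm _ _ (hTE v) (hTE u) huw (hdT v hvB).2 ?_
      have hm : (T (u * v))⁻¹ * (T u * T v) ∈ ht.N := by
        have h := (hTm (u * v)).trans (congrArg₂ (· * ·) (hTm u).symm (hTm v).symm)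
        rw [← QuotientGroup.mk_mul, QuotientGroup.eq, Subgroup.mem_subgroupOf] at h
        exact h
      set n := (T (u * v))⁻¹ * (T u * T v) with hn
      have e : T u * T v = T (u * v) * n := by rw [hn]; group
      obtain ⟨h1, h2⟩ := hdT _ huv
      rw [e, hmul, map_mul, Module.End.mul_apply, (hdN n hm).2, map_mul, map_mul, Module.End.mul_apply,
        Module.End.mul_apply]
      have hL2 := hinL _ h1 h2
      rw [← Module.End.mul_apply (ρ (d (T (u * v)))), ← map_mul, ← hm.2 _ hL2, map_mul,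
        Module.End.mul_apply, h2, inv_apply_cancel]
    exact hl.eq_one (hl.self _ (fun a ha => hl.cent _ (hdE _ (hTE u)) a ha)
      fun f hf => hcent' _ _ (hE hf)) ht.ne huw
  have hdN1 : ∀ n ∈ ht.N, d n = 1 := by
    intro n hn
    obtain ⟨h1, h2⟩ := hdN n hn
    have hL := hinL _ h1 h2
    have hE : E ≤ cent (d n) := by
      refine hcover _ _ hgood (fun m hm => hcent _ _ (hm.2 _ hL).symm) fun u hu => hcent _ _ ?_
      refine hcomm _ _ (hTE u) hn.1 h2 (hdT u hu.1).2 ?_
      have hn' : (T u)⁻¹ * n * T u ∈ ht.N := by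
        have e : (T u)⁻¹ * n * T u = ⁅(T u)⁻¹, n⁆ * n := by rw [commutatorElement_def]; group
        rw [e]
        exact ht.N.mul_mem (ht.A_le_N (hl.der _ (E.inv_mem (hTE u)) _ hn.1)) hn
      have e : n * T u = T u * ((T u)⁻¹ * n * T u) := by group
      rw [e, hmul, hdT1 u hu, mul_one, inv_mul_cancel, one_mul]
      exact (hdN _ hn').2
    exact hl.eq_one (hl.self _ (fun a ha => hl.cent _ h1.1 a ha) fun f hf => hcent' _ _ (hE hf)) ht.ne h2
  have hgc : ∀ f, d f = 1 → g * f = f * g := fun f h => by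
    calc g * f = f * d f * g := by simp only [d]; group
      _ = f * g := by rw [h, mul_one]
  refine hl.eq_one (hl.self g hgA fun f hf => hcent' _ _ ?_) ht.ne hgw
  exact hcover _ _ hgood (fun n hn => hcent _ _ (hgc n (hdN1 n hn)))
    (fun u hu => hcent _ _ (hgc _ (hdT1 u hu))) hf

end Cfsg.Agent.CopBase
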