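import Cfsg.Agent.Lib.CopBase.Small
import Cfsg.Agent.Lib.CopBase.Classes

/-!
Two vectors for a primitive coprime soluble linear group, away from the smallest fields.
-/

set_option autoImplicit false
set_option linter.style.haveILetI false
set_option linter.unusedSectionVars false

namespace Cfsg.Agent.CopBase

open PrimSol SolBase
open scoped commutatorElement

universe u v

variable {F : Type*} [Field F] {V : Type v} [AddCommGroup V] [Module F V] [FiniteDimensional F V]
  [Finite V] [Nontrivial V] {G : Type u} [Group G] [Finite G] {ρ : G →* Module.End F V}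
  {A E : Subgroup G} {w : V}

theorem normal_N (ht : IsTop ρ A E w) : (ht.N.subgroupOf E).Normal :=
  ⟨fun n hn x => by
    rw [Subgroup.mem_subgroupOf] at hn ⊢
    have e : ((x * n * x⁻¹ : E) : G) = ⁅(x : G), (n : G)⁆ * n := by
      push_cast; rw [commutatorElement_def]; group
    rw [e]
    exact ht.N.mul_mem (ht.A_le_N (ht.toIsLayer.der _ x.2 _ n.2)) hn⟩

theorem comm_quot (ht : IsTop ρ A E w) [(ht.N.subgroupOf E).Normal] (x y : E ⧸ ht.N.subgroupOf E) :
    x * y = y * x := by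
  obtain ⟨x, rfl⟩ := QuotientGroup.mk_surjective x
  obtain ⟨y, rfl⟩ := QuotientGroup.mk_surjective y
  rw [← QuotientGroup.mk_mul, ← QuotientGroup.mk_mul, QuotientGroup.eq, Subgroup.mem_subgroupOf]
  push_cast
  rw [show ((x : G) * y)⁻¹ * (y * x) = ⁅(y : G)⁻¹, (x : G)⁻¹⁆ by rw [commutatorElement_def]; group]
  exact ht.A_le_N (ht.toIsLayer.der _ (E.inv_mem y.2) _ (E.inv_mem x.2))

/-- Representatives whose power of prime order is scalar. -/
theorem exists_reps (ht : IsTop ρ A E w) [(ht.N.subgroupOf E).Normal] :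
    ∃ T : E ⧸ ht.N.subgroupOf E → G,
      (∀ v, ∃ hv : T v ∈ E, ((⟨T v, hv⟩ : E) : E ⧸ ht.N.subgroupOf E) = v) ∧ T 1 = 1 ∧
      ∀ v (s : ℕ), s.Prime → v ^ s = 1 → T v ^ s ∈ A := by
  classical
  have hl := ht.toIsLayer
  have key : ∀ v : E ⧸ ht.N.subgroupOf E, ∃ f : E, (f : E ⧸ ht.N.subgroupOf E) = v ∧
      (v = 1 → (f : G) = 1) ∧ ∀ s : ℕ, s.Prime → v ^ s = 1 → (f : G) ^ s ∈ A := by
    intro v
    by_cases hv1 : v = 1
    · exact ⟨1, by rw [QuotientGroup.mk_one, hv1], fun _ => rfl, fun s _ _ => by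
        rw [OneMemClass.coe_one, one_pow]; exact A.one_mem⟩
    by_cases hex : ∃ s : ℕ, s.Prime ∧ v ^ s = 1
    · obtain ⟨s, hs, hvs⟩ := hex
      have : Fact s.Prime := ⟨hs⟩
      have hord : orderOf v = s := orderOf_eq_prime hvs hv1
      obtain ⟨f, rfl⟩ := QuotientGroup.mk_surjective v
      obtain ⟨n, hn, hfn⟩ := hl.exp f f.2
      have hsn : s ∣ n := hord ▸ orderOf_dvd_of_pow_eq_one (by
        rw [← QuotientGroup.mk_pow, QuotientGroup.eq_one_iff, Subgroup.mem_subgroupOf]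
        exact ht.A_le_N (by push_cast; exact hfn))
      obtain ⟨m, rfl⟩ := hsn
      have hnd : ¬ s ∣ m := fun ⟨c, hc⟩ => hs.ne_one (Nat.isUnit_iff.1 (hn s ⟨c, by rw [hc]; ring⟩))
      obtain ⟨a, ha⟩ : ∃ a : ℕ, a * m ≡ 1 [MOD s] := by
        refine ⟨((m : ZMod s)⁻¹).val, (ZMod.natCast_eq_natCast_iff _ _ _).1 ?_⟩
        rw [Nat.cast_mul, ZMod.natCast_zmod_val, Nat.cast_one,
          inv_mul_cancel₀ (fun h => hnd ((ZMod.natCast_eq_zero_iff m s).1 h))]
      refine ⟨f ^ (a * m), ?_, fun h => absurd h hv1, fun s' hs' hs'v => ?_⟩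
      · rw [QuotientGroup.mk_pow]
        conv_rhs => rw [← pow_one (f : E ⧸ ht.N.subgroupOf E)]
        rw [pow_eq_pow_iff_modEq, hord]
        exact ha
      · have : s' = s := by
          have h := orderOf_dvd_of_pow_eq_one hs'v
          rw [hord] at h
          exact ((Nat.prime_dvd_prime_iff_eq hs hs').1 h).symm
        subst this
        push_cast
        rw [← pow_mul, show a * m * s' = (s' * m) * a by ring, pow_mul]
        exact A.pow_mem hfn a
    · exact ⟨v.out, Quotient.out_eq' v, fun h => absurd h hv1, fun s hs h => absurd ⟨s, hs, h⟩ hex⟩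
  choose f hf hf1 hfs using key
  exact ⟨fun v => f v, fun v => ⟨(f v).2, hf v⟩, hf1 1 rfl, hfs⟩

/-- Four classes of the eigenspace under the centraliser give two vectors. -/
theorem two_of_four (ht : IsTop ρ A E w) (z : V) (hz : z ∈ space ht)
    (hS : ∀ g : G, ρ g w = w → ρ g z = z → ∀ x ∈ space ht, ρ g x = x)
    (u : Fin 4 → V) (hu : ∀ i, u i ∈ space ht) (hu0 : ∀ i, u i ≠ 0)
    (hcls : ∀ i j, ∀ n ∈ ht.N, ρ n (u i) = u j → i = j) : Two ρ := by
  classical
  haveI := normal_N ht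
  letI : CommGroup (E ⧸ ht.N.subgroupOf E) :=
    { (inferInstance : Group (E ⧸ ht.N.subgroupOf E)) with mul_comm := comm_quot ht }
  obtain ⟨φ, hφ1, hrig, -, -⟩ := exists_colouring (E ⧸ ht.N.subgroupOf E)
  obtain ⟨T, hT, hT1, -⟩ := exists_reps ht
  let c : E ⧸ ht.N.subgroupOf E → V := fun v => if h : φ v = 0 then z else u ((φ v).pred h)
  have hne : ∀ v, v ≠ 1 → φ v ≠ 0 := fun v hv h => hv ((hφ1 v).1 h)
  refine two_of_colour ht z hS T hT hT1 c (fun v => ?_) (dif_pos ((hφ1 1).2 rfl)) ?_ ?_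
  · simp only [c]; split_ifs
    · exact hz
    · exact hu _
  · intro g M _ _ _ hM h
    refine hrig M hM fun v => ?_
    by_cases hv : v = 1
    · subst hv; rw [map_one]
    have hMv : M v ≠ 1 := fun e => hv (hM (e.trans (map_one M).symm))
    obtain ⟨hn, he⟩ := h v hv
    simp only [c, dif_neg (hne v hv), dif_neg (hne _ hMv)] at he
    exact (Fin.pred_inj.1 (hcls _ _ _ hn he)).symm
  · have hB : {v : E ⧸ ht.N.subgroupOf E | v = 1 ∨ c v ≠ 0} = Set.univ := by
      refine Set.eq_univ_of_forall fun v => ?_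
      by_cases hv : v = 1
      · exact Or.inl hv
      · exact Or.inr (by simp only [c, dif_neg (hne v hv)]; exact hu0 _)
    rw [hB]
    refine (good_of_card (n := 0) (by simp) ?_).spreads
    simpa using Nat.card_pos

/-- Colourings of the elements of prime order give two vectors, away from the smallest fields. -/
theorem two_of_classes (ht : IsTop ρ A E w) (h2 : (2 : F) ≠ 0)
    (hq : Nat.card (alg ρ A) ∉ ({3, 5, 9} : Set ℕ)) (z : V) (hz : z ∈ space ht)
    (hS : ∀ g : G, ρ g w = w → ρ g z = z → ∀ x ∈ space ht, ρ g x = x) : Two ρ := by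
  classical
  have hl := ht.toIsLayer
  haveI := normal_N ht
  letI : CommGroup (E ⧸ ht.N.subgroupOf E) :=
    { (inferInstance : Group (E ⧸ ht.N.subgroupOf E)) with mul_comm := comm_quot ht }
  obtain ⟨T, hT, hT1, hTs⟩ := exists_reps ht
  choose hTE hTm using hT
  let U : ℕ → Subgroup (E ⧸ ht.N.subgroupOf E) := fun s =>
    { carrier := {v | v ^ s = 1}
      one_mem' := one_pow s
      mul_mem' := fun {a b} ha hb => by
        show (a * b) ^ s = 1
        rw [mul_pow, show a ^ s = 1 from ha, show b ^ s = 1 from hb, one_mul]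
      inv_mem' := fun {a} ha => by
        show a⁻¹ ^ s = 1
        rw [inv_pow, show a ^ s = 1 from ha, inv_one] }
  choose ψ hψ1 hψodd hψrig hψgood using fun (s : {s : ℕ // s.Prime}) =>
    exists_local (U s) s.2 (fun v => Subtype.ext (show (v : E ⧸ ht.N.subgroupOf E) ^ (s : ℕ) = 1 from v.2))
  have hprime : ∀ X : Subgroup (E ⧸ ht.N.subgroupOf E),
      (∀ (s : {s : ℕ // s.Prime}) v, v ∈ U s → v ∈ X) → X = ⊤ := by
    intro X hX
    rw [Subgroup.eq_top_iff']
    intro v
    obtain ⟨f, rfl⟩ := QuotientGroup.mk_surjective v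
    obtain ⟨n, hn, hfn⟩ := hl.exp f f.2
    have hfn' : (f : E ⧸ ht.N.subgroupOf E) ^ n = 1 := by
      rw [← QuotientGroup.mk_pow, QuotientGroup.eq_one_iff, Subgroup.mem_subgroupOf]
      exact ht.A_le_N (by push_cast; exact hfn)
    suffices key : ∀ n x, Squarefree n → x ^ n = 1 → x ∈ X from key n _ hn hfn'
    intro n
    induction n using Nat.strong_induction_on with
    | _ n ih =>
    intro x hn hxn
    rcases eq_or_ne n 1 with rfl | hn1
    · rw [pow_one] at hxn
      rw [hxn]; exact X.one_mem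
    obtain ⟨r, hr, n', rfl⟩ := Nat.exists_prime_and_dvd hn1
    have hn0 : n' ≠ 0 := fun e => by simp [e] at hn
    obtain ⟨hcop, -, hn'⟩ := Nat.squarefree_mul_iff.1 hn
    obtain ⟨a, b, hab⟩ := Nat.isCoprime_iff_coprime.2 hcop
    have e : x = (x ^ r) ^ a * (x ^ n') ^ b := by
      rw [← zpow_natCast, ← zpow_natCast x n', ← zpow_mul, ← zpow_mul, ← zpow_add,
        mul_comm (r : ℤ) a, mul_comm (n' : ℤ) b, hab, zpow_one]
    rw [e]
    refine X.mul_mem (X.zpow_mem ?_ a) (X.zpow_mem ?_ b)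
    · exact ih n' (lt_mul_of_one_lt_left (Nat.pos_of_ne_zero hn0) hr.one_lt) _ hn' (by rw [← pow_mul]; exact hxn)
    · refine hX ⟨r, hr⟩ _ (?_ : (x ^ n') ^ r = 1)
      rw [← pow_mul, mul_comm]; exact hxn
  -- the classes of scalars
  have hζ : ∀ v : E ⧸ ht.N.subgroupOf E, v ≠ 1 → ∀ s : ℕ, s.Prime → v ^ s = 1 →
      ∃ γ : Module.End F V → Fin 3, (s = 2 → ∀ x ∈ alg ρ A, x ≠ 0 → γ (-x) = γ x) ∧
        ∀ θ ∈ alg ρ A, θ ≠ 0 → ∀ c : Fin 3, (s ≠ 2 → c ≠ 2) →
          ∃ k ∈ alg ρ A, k ≠ 0 ∧ γ (θ * k ^ s) = c := by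
    intro v hv s hs hvs
    have hvN : T v ∉ ht.N := fun h => hv (by
      rw [← hTm v, QuotientGroup.eq_one_iff, Subgroup.mem_subgroupOf]
      exact h)
    have hex : ∃ l ∈ ht.L, ⁅T v, l⁆ ≠ 1 := by
      by_contra hcon
      push Not at hcon
      exact hvN ⟨hTE v, fun l hlm => commutatorElement_eq_one_iff_mul_comm.1 (hcon l hlm)⟩
    obtain ⟨l, hlm, hne⟩ := hex
    refine exists_classes hl.scal h2 hq hs (hl.scalar (hl.der _ (hTE v) _ (ht.L_le hlm))) ?_ ?_
    · rw [← map_pow, hl.comm_pow_eq_one (hTE v) (ht.L_le hlm) (hTs v s hs hvs), map_one]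
    · exact fun e => hne (hl.inj (e.trans (map_one ρ).symm))
  let good : ℕ → (Module.End F V → Fin 3) → Prop := fun s γ =>
    (s = 2 → ∀ x ∈ alg ρ A, x ≠ 0 → γ (-x) = γ x) ∧
      ∀ θ ∈ alg ρ A, θ ≠ 0 → ∀ c : Fin 3, (s ≠ 2 → c ≠ 2) →
        ∃ k ∈ alg ρ A, k ≠ 0 ∧ γ (θ * k ^ s) = c
  let γ : ℕ → Module.End F V → Fin 3 := fun s => if h : ∃ g, good s g then h.choose else fun _ => 0
  have hγ : ∀ v : E ⧸ ht.N.subgroupOf E, v ≠ 1 → ∀ s : ℕ, s.Prime → v ^ s = 1 → good s (γ s) := fun v hv s hs hvs => by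
    have h : ∃ g, good s g := hζ v hv s hs hvs
    simp only [γ, dif_pos h]
    exact h.choose_spec
  have hθ : ∀ (v : E ⧸ ht.N.subgroupOf E) (s : ℕ), s.Prime → v ^ s = 1 → ρ (T v ^ s) ∈ alg ρ A ∧ ρ (T v ^ s) ≠ 0 := by
    intro v s hs hvs
    refine ⟨hl.scalar (hTs v s hs hvs), fun e => ht.ne ?_⟩
    refine apply_injective ρ (T v ^ s) ?_
    rw [e, LinearMap.zero_apply, LinearMap.zero_apply]
  -- the coefficients
  have hcoef : ∀ v : E ⧸ ht.N.subgroupOf E, ∃ k ∈ alg ρ A,
      ((∀ s : {s : ℕ // s.Prime}, v ∈ U s → v = 1) → k ≠ 0) ∧ ∀ (s : {s : ℕ // s.Prime}) (hvs : v ∈ U s), v ≠ 1 →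
        (k = 0 ↔ ψ s ⟨v, hvs⟩ = none) ∧
        ∀ c, ψ s ⟨v, hvs⟩ = some c → γ s (ρ (T v ^ (s : ℕ)) * k ^ (s : ℕ)) = c := by
    intro v
    by_cases hex : ∃ s : {s : ℕ // s.Prime}, v ∈ U s ∧ v ≠ 1
    swap
    · exact ⟨1, one_mem _, fun _ => one_ne_zero, fun s hs hv => absurd ⟨s, hs, hv⟩ hex⟩
    obtain ⟨s, hvs, hv⟩ := hex
    have huniq : ∀ s' : {s : ℕ // s.Prime}, v ∈ U s' → s' = s := fun s' h' => by
      have : Fact (s : ℕ).Prime := ⟨s.2⟩
      have : Fact (s' : ℕ).Prime := ⟨s'.2⟩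
      exact Subtype.ext ((orderOf_eq_prime h' hv).symm.trans (orderOf_eq_prime hvs hv))
    rcases hp : ψ s ⟨v, hvs⟩ with _ | c
    · refine ⟨0, zero_mem _, fun h => absurd (h s hvs) hv, fun s' h' _ => ?_⟩
      obtain rfl := huniq s' h'
      exact ⟨iff_of_true rfl hp, fun c hc => absurd (hp.symm.trans hc) (by simp)⟩
    · have hc2 : (s : ℕ) ≠ 2 → c ≠ 2 := fun h e => hψodd s h ⟨v, hvs⟩ (hp.trans (congrArg some e))
      obtain ⟨k, hk, hk0, hkc⟩ := (hγ v hv s s.2 hvs).2 _ (hθ v s s.2 hvs).1 (hθ v s s.2 hvs).2 c hc2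
      refine ⟨k, hk, fun _ => hk0, fun s' h' _ => ?_⟩
      obtain rfl := huniq s' h'
      refine ⟨iff_of_false hk0 (by rw [hp]; simp), fun c' hc' => ?_⟩
      rw [hp, Option.some_inj] at hc'
      rwa [← hc']
  choose k hk hkmix hks using hcoef
  let c : E ⧸ ht.N.subgroupOf E → V := fun v => if v = 1 then z else k v w
  have hk0 : ∀ v, v ≠ 1 → (c v = 0 ↔ k v = 0) := fun v hv => by
    simp only [c, if_neg hv]
    exact ⟨fun h => hl.scal.eq_zero (hk v) ht.ne h, fun h => by rw [h, LinearMap.zero_apply]⟩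
  refine two_of_colour ht z hS T (fun v => ⟨hTE v, hTm v⟩) hT1 c (fun v => ?_) (if_pos rfl) ?_ ?_
  · simp only [c]; split_ifs
    · exact hz
    · exact scalar_mem_space ht (hk v) (self_mem_space ht)
  · intro g M hgA hgw _ hM h
    -- the colours are preserved
    have hpres : ∀ (s : {s : ℕ // s.Prime}) (v : E ⧸ ht.N.subgroupOf E) (hv : v ∈ U s) (hv1 : v ≠ 1)
        (hMv : M v ∈ U s), ψ s ⟨M v, hMv⟩ = ψ s ⟨v, hv⟩ := by
      intro s v hv hv1 hMv
      have hMv1 : M v ≠ 1 := fun e => hv1 (hM (e.trans (map_one M).symm))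
      obtain ⟨hn, he⟩ := h v hv1
      set n := (T (M v))⁻¹ * (g * T v * g⁻¹) with hnd
      obtain ⟨hz1, hc1⟩ := hks v s hv hv1
      obtain ⟨hz2, hc2⟩ := hks (M v) s hMv hMv1
      simp only [c, if_neg hv1, if_neg hMv1] at he
      rcases hp : ψ s ⟨v, hv⟩ with _ | a
      · rw [hz1.2 hp, LinearMap.zero_apply, map_zero] at he
        exact hz2.1 (hl.scal.eq_zero (hk _) ht.ne he.symm)
      · have hk1 : k v ≠ 0 := fun e => by simp [hz1.1 e] at hp
        obtain ⟨k', hk', hkk⟩ := hl.scal.inv _ (hk v) hk1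
        have hnw : ρ n w = (k' * k (M v)) w := by
          rw [Module.End.mul_apply, ← he, ← Module.End.mul_apply (ρ n), hl.commute_scalar hn.1 (hk v),
            Module.End.mul_apply, ← Module.End.mul_apply k', hkk, Module.End.one_apply]
        have hkM : k (M v) ≠ 0 := fun e => by
          rw [e, mul_zero, LinearMap.zero_apply] at hnw
          exact ht.ne (apply_injective ρ n (hnw.trans (map_zero _).symm))
        set r := k' * k (M v) with hr
        have hrA : r ∈ alg ρ A := mul_mem hk' (hk _)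
        rcases hq' : ψ s ⟨M v, hMv⟩ with _ | b
        · exact absurd (hz2.2 hq') hkM
        congr 1
        rw [← hc1 a hp, ← hc2 b hq']
        -- the power of the conjugate
        have hTA := hTs v s s.2 hv
        have hTA' := hTs (M v) s s.2 hMv
        have e1 : T v ^ (s : ℕ) = ⁅n, T (M v)⁆ ^ (s : ℕ).choose 2 * (T (M v) ^ (s : ℕ) * n ^ (s : ℕ)) := by
          rw [← ht.mul_pow_eq (hTE _) hn.1, show T (M v) * n = g * T v * g⁻¹ by rw [hnd]; group, conj_pow,
            hgA _ hTA, mul_inv_cancel_right]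
        have hcs : ρ ⁅n, T (M v)⁆ ^ (s : ℕ) = 1 := by
          have : ⁅T (M v), n⁆ ^ (s : ℕ) = 1 := hl.comm_pow_eq_one (hTE _) hn.1 hTA'
          rw [← map_pow, ← commutatorElement_inv, inv_pow, this, inv_one, map_one]
        have hnpow : ∀ j : ℕ, ρ (n ^ j) w = (r ^ j) w := by
          intro j
          induction j with
          | zero => simp
          | succ j ih =>
            rw [pow_succ', map_mul, Module.End.mul_apply, ih, ← Module.End.mul_apply,
              hl.commute_scalar hn.1 (pow_mem hrA j), Module.End.mul_apply, hnw, ← Module.End.mul_apply,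
              ← pow_succ]
        have hnA : n ^ (s : ℕ) ∈ A := by
          have e2 : n ^ (s : ℕ) = (T (M v) ^ (s : ℕ))⁻¹ * ((⁅n, T (M v)⁆ ^ (s : ℕ).choose 2)⁻¹ * T v ^ (s : ℕ)) := by
            rw [e1]; group
          rw [e2]
          exact A.mul_mem (A.inv_mem hTA') (A.mul_mem (A.inv_mem (A.pow_mem (hl.der _ hn.1 _ (hTE _)) _)) hTA)
        have hnr : ρ (n ^ (s : ℕ)) = r ^ (s : ℕ) :=
          hl.scal.eq_of_apply (hl.scalar hnA) (pow_mem hrA _) ht.ne (hnpow _)
        set x := ρ (T (M v) ^ (s : ℕ)) * k (M v) ^ (s : ℕ) with hx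
        have hxA : x ∈ alg ρ A := mul_mem (hl.scalar hTA') (pow_mem (hk _) _)
        have e3 : ρ (T v ^ (s : ℕ)) * k v ^ (s : ℕ) = ρ ⁅n, T (M v)⁆ ^ (s : ℕ).choose 2 * x := by
          rw [e1, map_mul, map_mul, map_pow ρ ⁅n, T (M v)⁆, hnr, hr, mul_assoc, mul_assoc, hx]
          congr 2
          rw [← (show Commute r (k v) from hl.scal.comm _ hrA _ (hk v)).mul_pow, hr,
            hl.scal.comm k' hk' _ (hk (M v)), mul_assoc, hkk, mul_one]
        rw [e3]
        by_cases hs2 : (s : ℕ) = 2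
        · have h4 := hcs
          rw [hs2] at h4 ⊢
          rw [Nat.choose_self, pow_one]
          have hz : ρ ⁅n, T (M v)⁆ ∈ alg ρ A := hl.scalar (hl.der _ hn.1 _ (hTE _))
          have h5 : (ρ ⁅n, T (M v)⁆ - 1) * (ρ ⁅n, T (M v)⁆ + 1) = 0 := by
            rw [sub_mul, mul_add, mul_one, one_mul, ← pow_two, h4, add_comm (1 : Module.End F V), sub_self]
          rcases hl.scal.eq_zero_or (sub_mem hz (one_mem _)) h5 with h6 | h6
          · rw [sub_eq_zero.1 h6, one_mul]
          · rw [eq_neg_of_add_eq_zero_left h6, neg_one_mul]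
            have hx0 : x ≠ 0 := fun e => by
              rcases hl.scal.eq_zero_or (hl.scalar hTA') e with h7 | h7
              · exact (hθ (M v) s s.2 hMv).2 h7
              · exact hkM (by
                  rcases hl.scal.eq_zero_or (hk _) (by rw [hs2, pow_two] at h7; exact h7) with h8 | h8 <;>
                    exact h8)
            have h9 := (hγ v hv1 s s.2 hv).1 hs2 x hxA hx0
            rw [hs2] at h9
            exact h9.symm
        · obtain ⟨q, hqq⟩ := s.2.dvd_choose_self (by norm_num) (lt_of_le_of_ne s.2.two_le (Ne.symm hs2))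
          rw [hqq, pow_mul, hcs, one_pow, one_mul]
    -- identity on every primary component, hence everywhere
    have hid : ∀ (s : {s : ℕ // s.Prime}) (v : E ⧸ ht.N.subgroupOf E), v ∈ U s → M v = v := by
      intro s v hv
      have hMU : ∀ x ∈ U s, M x ∈ U s := fun x hx => by
        show M x ^ (s : ℕ) = 1
        rw [← map_pow, show x ^ (s : ℕ) = 1 from hx, map_one]
      let M' : U s →* U s := (M.comp (U s).subtype).codRestrict (U s) fun x => hMU x x.2
      have := hψrig s M' (fun a b e => Subtype.ext (hM (congrArg Subtype.val e))) fun x hx =>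
        hpres s x x.2 (fun e => hx (Subtype.ext e)) _
      exact congrArg Subtype.val (DFunLike.congr_fun this ⟨v, hv⟩)
    have heq : MonoidHom.eqLocus M (MonoidHom.id _) = ⊤ := hprime _ fun s v hv => hid s v hv
    exact MonoidHom.ext fun v => (heq ▸ Subgroup.mem_top v : v ∈ MonoidHom.eqLocus M (MonoidHom.id _))
  · -- the coloured set
    set B := {v : E ⧸ ht.N.subgroupOf E | v = 1 ∨ c v ≠ 0} with hB
    have hBloc : ∀ (s : {s : ℕ // s.Prime}) (x : U s), (x : E ⧸ ht.N.subgroupOf E) ∈ B ↔ ψ s x ≠ none := by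
      intro s x
      by_cases hx : (x : E ⧸ ht.N.subgroupOf E) = 1
      · have : x = 1 := Subtype.ext hx
        subst this
        exact iff_of_true (Or.inl hx) (hψ1 s)
      · show (_ = 1 ∨ c _ ≠ 0) ↔ _
        rw [or_iff_right hx, ne_eq, hk0 _ hx, (hks _ s x.2 hx).1]
    have hmixed : ∀ v, (∀ s : {s : ℕ // s.Prime}, v ∈ U s → v = 1) → v ∈ B := by
      intro v hv
      by_cases hv1 : v = 1
      · exact Or.inl hv1
      · exact Or.inr fun h => hkmix v hv ((hk0 v hv1).1 h)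
    have hmap : ∀ (s : {s : ℕ // s.Prime}) (S : Set (U s)) (X : Subgroup (E ⧸ ht.N.subgroupOf E)),
        Subgroup.closure S = ⊤ → (∀ x ∈ S, (x : E ⧸ ht.N.subgroupOf E) ∈ X) → ∀ v ∈ U s, v ∈ X := by
      intro s S X hS hX v hv
      have : Subgroup.closure S ≤ X.subgroupOf (U s) :=
        (Subgroup.closure_le _).2 fun x hx => Subgroup.mem_subgroupOf.2 (hX x hx)
      exact Subgroup.mem_subgroupOf.1 (this (hS ▸ Subgroup.mem_top (⟨v, hv⟩ : U s)))
    refine hprime _ fun r v hv => hmap r _ _ (hψgood r).1 (fun f hf => Subgroup.subset_closure ?_) v hv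
    refine ⟨(hBloc r f).2 hf, hprime _ fun s => ?_⟩
    by_cases hfs : (f : E ⧸ ht.N.subgroupOf E) ∈ U s
    · let f' : U s := ⟨(f : E ⧸ ht.N.subgroupOf E), hfs⟩
      refine hmap s _ _ ((hψgood s).2 f' ((hBloc s f').1 ((hBloc r f).2 hf))) fun h hh =>
        Subgroup.subset_closure ?_
      exact ⟨(hBloc s h).2 hh.1, (hBloc s (f' * h)).2 hh.2⟩
    · refine hmap s _ _ (hψgood s).1 fun h hh => Subgroup.subset_closure ⟨(hBloc s h).2 hh, ?_⟩
      by_cases hh1 : (h : E ⧸ ht.N.subgroupOf E) = 1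
      · rw [hh1, mul_one]; exact (hBloc r f).2 hf
      refine hmixed _ fun t htU => ?_
      exfalso
      have hfr : (f : E ⧸ ht.N.subgroupOf E) ^ (r : ℕ) = 1 := f.2
      have hhs : (h : E ⧸ ht.N.subgroupOf E) ^ (s : ℕ) = 1 := h.2
      have hfh : ((f : E ⧸ ht.N.subgroupOf E) * h) ^ (t : ℕ) = 1 := htU
      have hf1 : (f : E ⧸ ht.N.subgroupOf E) ≠ 1 := fun e => hfs (by rw [e]; exact (U s).one_mem)
      have hrs : (r : ℕ) ≠ s := fun e => hfs (by show (f : E ⧸ ht.N.subgroupOf E) ^ (s : ℕ) = 1; rw [← e]; exact hfr)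
      have : Fact (r : ℕ).Prime := ⟨r.2⟩
      have : Fact (s : ℕ).Prime := ⟨s.2⟩
      have hof := orderOf_eq_prime hfr hf1
      have hoh := orderOf_eq_prime hhs hh1
      have ho : orderOf ((f : E ⧸ ht.N.subgroupOf E) * h) = (r : ℕ) * s := by
        rw [(Commute.all _ _).orderOf_mul_eq_mul_orderOf_of_coprime
          (by rw [hof, hoh]; exact (Nat.coprime_primes r.2 s.2).2 hrs), hof, hoh]
      have hd := orderOf_dvd_of_pow_eq_one hfh
      rw [ho] at hd
      rcases t.2.eq_one_or_self_of_dvd _ (dvd_trans (dvd_mul_right (r : ℕ) s) hd) with h1 | h1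
      · exact r.2.ne_one h1
      rcases t.2.eq_one_or_self_of_dvd _ (dvd_trans (dvd_mul_left (s : ℕ) r) hd) with h2 | h2
      · exact s.2.ne_one h2
      · exact hrs (h1.trans h2.symm)

end Cfsg.Agent.CopBase
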