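import Cfsg.Agent.Lib.CopBase.Charts
import Cfsg.Agent.Lib.CopBase.Generic

/-!
Adapted representatives with suitable squares, and small eigenspaces.
-/

set_option autoImplicit false
set_option linter.style.haveILetI false
set_option linter.unusedSectionVars false

namespace Cfsg.Agent.CopBase

open PrimSol SolBase
open scoped commutatorElement

universe u v

variable {F : Type*} [Field F] {V : Type v} [AddCommGroup V] [Module F V] [FiniteDimensional F V]
  [Finite V] [Nontrivial V] {G : Type u} [Group G] [Finite G] {ρ : G →* Module.End F V}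
  {A E : Subgroup G} {w : V}

/-- A scalar element of the group is a nonzero multiple of one. -/
theorem exists_scalar (hl : IsLayer ρ A E) (hK : ∀ x ∈ alg ρ A, ∃ c : F, x = c • (1 : Module.End F V)) {a : G}
    (ha : a ∈ A) : ∃ c : F, c ≠ 0 ∧ ρ a = c • 1 := by
  obtain ⟨c, hc⟩ := hK _ (hl.scalar ha)
  refine ⟨c, fun e => ?_, hc⟩
  obtain ⟨v, hv⟩ := exists_ne (0 : V)
  exact hv (apply_injective ρ a (by rw [hc, e, zero_smul, LinearMap.zero_apply, LinearMap.zero_apply]))

/-- Over three scalars every square in the layer is a sign. -/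
theorem square_three (hl : IsLayer ρ A E) (hK : ∀ x ∈ alg ρ A, ∃ c : F, x = c • (1 : Module.End F V))
    (hF : ∀ c : F, c ≠ 0 → c * c = 1) (hsq : ∀ f ∈ E, f ^ 2 ∈ A) {f : G} (hf : f ∈ E) :
    ρ (f ^ 2) = 1 ∨ ρ (f ^ 2) = -1 := by
  obtain ⟨c, hc0, hc⟩ := exists_scalar hl hK (hsq f hf)
  rcases mul_self_eq_one_iff.1 (hF c hc0) with h | h <;> rw [hc, h]
  · exact Or.inl (one_smul _ _)
  · exact Or.inr (neg_one_smul _ _)

/-- Elements of the line stabiliser square to one over three scalars. -/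
theorem square_L (ht : IsTop ρ A E w) (hK : ∀ x ∈ alg ρ A, ∃ c : F, x = c • (1 : Module.End F V))
    (hF : ∀ c : F, c ≠ 0 → c * c = 1) (hsq : ∀ f ∈ E, f ^ 2 ∈ A) {l : G} (hlm : l ∈ ht.L) :
    ρ (l ^ 2) = 1 := by
  obtain ⟨r, -, hr⟩ := exists_scalar ht.toIsLayer hK (hsq l (ht.L_le hlm))
  obtain ⟨-, k, hk, hkw⟩ := id hlm
  obtain ⟨c, rfl⟩ := hK k hk
  rw [LinearMap.smul_apply, Module.End.one_apply] at hkw
  have hc0 : c ≠ 0 := fun e => ht.ne (apply_injective ρ l (by rw [hkw, e, zero_smul, map_zero]))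
  have h1 : r = c * c := by
    refine smul_left_injective F ht.ne ?_
    have h3 := LinearMap.congr_fun hr w
    rw [pow_two, map_mul, Module.End.mul_apply, hkw, map_smul, hkw, smul_smul] at h3
    simpa using h3.symm
  rw [hr, h1, hF c hc0, one_smul]

/-- Over three scalars adapted representatives may be taken with square one. -/
theorem exists_roots_three (ht : IsTop ρ A E w) (hsq : ∀ f ∈ E, f ^ 2 ∈ A) (h2 : (2 : F) ≠ 0)
    (hK : ∀ x ∈ alg ρ A, ∃ c : F, x = c • (1 : Module.End F V)) (hF : ∀ c : F, c ≠ 0 → c * c = 1)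
    {k : ℕ} {m₁ m₂ : G} (hm₁ : m₁ ∈ ht.N) (hm₂ : m₂ ∈ ht.N) (d : Adapted ht k m₁ m₂) :
    ∃ d' : Adapted ht k m₁ m₂, ∀ i < k, ∃ c : F, (c * c) • ρ (d'.fe i ^ 2) = 1 := by
  classical
  refine ⟨d.shift hsq h2 hm₁ hm₂ (fun i => decide (ρ (d.fe i ^ 2) ≠ 1)), fun i hi => ⟨1, ?_⟩⟩
  rw [one_mul, one_smul]
  show ρ ((d.fe i * if decide (ρ (d.fe i ^ 2) ≠ 1) = true then d.le i else 1) ^ 2) = 1
  by_cases h : ρ (d.fe i ^ 2) = 1
  · simp [h]
  · have hl := ht.toIsLayer
    have h' := (square_three hl hK hF hsq (d.fe_mem i hi)).resolve_left h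
    simp only [ne_eq, h, not_false_eq_true, decide_true, if_true]
    rw [ht.mul_pow_eq (d.fe_mem i hi) (ht.L_le (d.le_mem i hi)), Nat.choose_self, pow_one, map_mul, map_mul, h',
      square_L ht hK hF hsq (d.le_mem i hi), rho_comm hl hsq h2 (ht.L_le (d.le_mem i hi)) (d.fe_mem i hi), cb_symm,
      d.dual i hi i hi, decide_eq_true rfl, show bitSign F true = -1 from rfl]
    simp

/-- Over five scalars adapted representatives square to signs, as the scalars are a maximal abelian normal subgroup. -/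
theorem exists_roots_five (ht : IsTop ρ A E w) (hsq : ∀ f ∈ E, f ^ 2 ∈ A) (h2 : (2 : F) ≠ 0)
    (hK : ∀ x ∈ alg ρ A, ∃ c : F, x = c • (1 : Module.End F V)) (h4 : ∀ c : F, c ≠ 0 → c * c * (c * c) = 1)
    (hroot : ∃ i : F, i * i = -1)
    (hmax : ∀ B : Subgroup G, B.Normal → IsMulCommutative B → A ≤ B → B = A)
    {k : ℕ} (d : Adapted ht k 1 1) : ∀ i < k, ∃ c : F, (c * c) • ρ (d.fe i ^ 2) = 1 := by
  classical
  have hl := ht.toIsLayer
  have hsc : ∀ f ∈ E, ∃ c : F, c ≠ 0 ∧ ρ (f ^ 2) = c • 1 := fun f hf => exists_scalar hl hK (hsq f hf)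
  choose! c hc0 hc using hsc
  have hinjs : ∀ a b : F, a • (1 : Module.End F V) = b • 1 → a = b := fun a b h => by
    obtain ⟨v, hv⟩ := exists_ne (0 : V)
    exact smul_left_injective F hv (by simpa using LinearMap.congr_fun h v)
  let χ : G → Bool := fun f => decide (c f * c f ≠ 1)
  have hχ : ∀ f ∈ E, bitSign F (χ f) = c f * c f := by
    intro f hf
    rcases mul_self_eq_one_iff.1 (h4 _ (hc0 f hf)) with h | h
    · simp [χ, h, bitSign]
    · have hne : c f * c f ≠ 1 := fun e => h2 (by linear_combination h - e)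
      simp [χ, hne, bitSign]
      exact h.symm
  have hχmul : ∀ f ∈ E, ∀ h ∈ E, χ (f * h) = (χ f ^^ χ h) := by
    intro f hf h hh
    refine bitSign_inj h2 ?_
    rw [bitSign_xor, hχ f hf, hχ h hh, hχ _ (E.mul_mem hf hh)]
    have e : c (f * h) = bitSign F (cb h f) * (c f * c h) := hinjs _ _ (by
      rw [← hc _ (E.mul_mem hf hh), ht.mul_pow_eq hf hh, Nat.choose_self, pow_one, map_mul, map_mul, hc f hf, hc h hh,
        rho_comm hl hsq h2 hh hf, smul_mul_smul_comm, smul_mul_smul_comm, mul_one, mul_one])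
    have hs := bitSign_mul_self (F := F) (cb h f)
    rw [e]
    linear_combination (c f * c h * (c f * c h)) * hs
  have hχA : ∀ f ∈ E, (∃ r : F, ρ f w = r • w) → χ f = false := by
    rintro f hf ⟨r, hr⟩
    have hr0 : r ≠ 0 := fun e => ht.ne (apply_injective ρ f (by rw [hr, e, zero_smul, map_zero]))
    have e : c f = r * r := by
      refine smul_left_injective F ht.ne ?_
      have h3 := LinearMap.congr_fun (hc f hf) w
      rw [pow_two, map_mul, Module.End.mul_apply, hr, map_smul, hr, smul_smul] at h3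
      simpa using h3.symm
    simp only [χ, e, h4 r hr0, ne_eq, not_true_eq_false, decide_false]
  have hlineL : ∀ l ∈ ht.L, ∃ r : F, ρ l w = r • w := fun l hlm => by
    obtain ⟨-, y, hy, hyw⟩ := id hlm
    obtain ⟨r, rfl⟩ := hK y hy
    exact ⟨r, by simpa using hyw⟩
  obtain ⟨x₀, hx0, hx0E, hxb⟩ := exists_bitsum hl hsq h2 d.le ht.L d.le_mem (fun i hi => ht.L_le (d.le_mem i hi))
    d.fe d.fe_mem d.dual (fun i => χ (d.fe i)) k le_rfl
  let X : Subgroup G :=
    { carrier := {f | f ∈ E ∧ cb f x₀ = χ f}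
      one_mem' := ⟨E.one_mem, by
        rw [cb_symm, cb_one, hχA 1 E.one_mem ⟨1, by simp⟩]⟩
      mul_mem' := fun {f h} hf hh => ⟨E.mul_mem hf.1 hh.1, by
        rw [cb_mul_left hl hsq h2 hf.1 hh.1 hx0E, hf.2, hh.2, hχmul f hf.1 h hh.1]⟩
      inv_mem' := fun {f} hf => ⟨E.inv_mem hf.1, by
        have e1 := cb_mul_left hl hsq h2 hf.1 (E.inv_mem hf.1) hx0E
        have e2 := hχmul f hf.1 f⁻¹ (E.inv_mem hf.1)
        rw [mul_inv_cancel, cb_symm, cb_one, hf.2] at e1
        rw [mul_inv_cancel, hχA 1 E.one_mem ⟨1, by simp⟩] at e2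
        revert e1 e2
        cases cb f⁻¹ x₀ <;> cases χ f <;> cases χ f⁻¹ <;> simp⟩ }
  have hLX : ∀ l ∈ ht.L, l ∈ X := fun l hlm => ⟨ht.L_le hlm, by
    rw [cb_eq_false.2 (ht.L_comm hlm hx0), hχA l (ht.L_le hlm) (hlineL l hlm)]⟩
  have hEX : E ≤ X := d.genE X (fun a ha => hLX a (ht.A_le ha)) (fun i hi => hLX _ (d.le_mem i hi))
    (fun i hi => ⟨d.fe_mem i hi, by rw [hxb i hi, decide_eq_true hi, Bool.true_and]⟩) X.one_mem X.one_mem
  -- the centraliser of the kernel of the character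
  let Z : Subgroup G :=
    { carrier := {z | z ∈ E ∧ ∀ f ∈ E, χ f = false → z * f = f * z}
      one_mem' := ⟨E.one_mem, fun f _ _ => by rw [one_mul, mul_one]⟩
      mul_mem' := fun {a b} ha hb => ⟨E.mul_mem ha.1 hb.1,
        fun f hf h => (Commute.mul_left (ha.2 f hf h) (hb.2 f hf h)).eq⟩
      inv_mem' := fun {a} ha => ⟨E.inv_mem ha.1, fun f hf h => (Commute.inv_left (ha.2 f hf h)).eq⟩ }
  have hconjc : ∀ g : G, ∀ f ∈ E, χ (g * f * g⁻¹) = χ f := fun g f hf => by
    have e : c (g * f * g⁻¹) = c f := hinjs _ _ (by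
      rw [← hc _ (hl.normal.conj_mem f hf g), ← hc f hf, conj_pow, commute_of_prime hl hK (hsq f hf),
        mul_inv_cancel_right])
    simp only [χ, e]
  have hZn : Z.Normal := ⟨fun z hz g => ⟨hl.normal.conj_mem z hz.1 g, fun f hf h => by
    have h1 := hl.normal.conj_mem f hf g⁻¹
    rw [inv_inv] at h1
    have h3 := hz.2 _ h1 (by rw [← h, ← hconjc g⁻¹ f hf, inv_inv])
    calc g * z * g⁻¹ * f = g * (z * (g⁻¹ * f * g)) * g⁻¹ := by group
      _ = g * ((g⁻¹ * f * g) * z) * g⁻¹ := by rw [h3]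
      _ = f * (g * z * g⁻¹) := by group⟩⟩
  have hZc : IsMulCommutative Z := ⟨⟨fun a b => Subtype.ext (by
    show (a : G) * b = b * a
    cases ha : χ (a : G)
    · exact (b.2.2 _ a.2.1 ha).symm
    cases hb : χ (b : G)
    · exact a.2.2 _ b.2.1 hb
    have h1 : χ ((a : G) * b) = false := by rw [hχmul _ a.2.1 _ b.2.1, ha, hb]; rfl
    have h3 := a.2.2 _ (E.mul_mem a.2.1 b.2.1) h1
    rw [mul_assoc (a : G) (b : G) (a : G)] at h3
    exact mul_left_cancel h3)⟩⟩
  have hAZ : A ≤ Z := fun a ha => ⟨hl.le ha, fun f hf _ => (hl.cent f hf a ha).symm⟩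
  have hx0A : x₀ ∈ A := by
    rw [← hmax Z hZn hZc hAZ]
    exact ⟨hx0E, fun f hf h => (cb_eq_false.1 ((hEX hf).2.trans h)).symm⟩
  intro i hi
  have h1 : χ (d.fe i) = false := by
    rw [← (hEX (d.fe_mem i hi)).2, cb_scalar hl hsq h2 (d.fe_mem i hi) hx0A]
  obtain ⟨r, hr⟩ := hroot
  have h3 : c (d.fe i) * c (d.fe i) = 1 := by
    rw [← hχ _ (d.fe_mem i hi), h1]
    rfl
  rcases mul_self_eq_one_iff.1 h3 with h | h
  · exact ⟨1, by rw [hc _ (d.fe_mem i hi), h, smul_smul, one_mul, one_mul, one_smul]⟩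
  · exact ⟨r, by rw [hc _ (d.fe_mem i hi), h, hr, smul_smul, neg_one_mul, neg_neg, one_smul]⟩

/-- When the centraliser acts by scalars on a larger eigenspace, two vectors exist. -/
theorem line_or_two (ht : IsTop ρ A E w) (h2 : (2 : F) ≠ 0)
    (hK : ∀ x ∈ alg ρ A, ∃ c : F, x = c • (1 : Module.End F V)) (hNL : ht.N ≤ ht.L) (z : V) (hz : z ∈ space ht)
    (hS : ∀ g : G, ρ g w = w → ρ g z = z → ∀ x ∈ space ht, ρ g x = x) :
    (∀ x ∈ space ht, ∃ c : F, c • w = x) ∨ Two ρ := by
  classical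
  by_cases h : ∀ x ∈ space ht, ∃ c : F, c • w = x
  · exact Or.inl h
  right
  push Not at h
  obtain ⟨u, hu, hind⟩ := h
  have hli : ∀ a b : F, a • w + b • u = 0 → a = 0 ∧ b = 0 := by
    intro a b hab
    by_cases hb : b = 0
    · rw [hb, zero_smul, add_zero] at hab
      exact ⟨(smul_eq_zero.1 hab).resolve_right ht.ne, hb⟩
    · refine absurd ?_ (hind (-(b⁻¹ * a)))
      have h1 := congrArg (fun x => b⁻¹ • x) hab
      simp only [smul_add, smul_smul, inv_mul_cancel₀ hb, one_smul, smul_zero] at h1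
      rw [neg_smul]
      exact (eq_neg_of_add_eq_zero_right h1).symm
  let cf : Fin 4 → F × F := ![(1, 0), (0, 1), (1, 1), (1, -1)]
  refine two_of_four ht z hz hS (fun i => (cf i).1 • w + (cf i).2 • u)
    (fun i => (space ht).add_mem ((space ht).smul_mem _ (self_mem_space ht)) ((space ht).smul_mem _ hu))
    (fun i e => ?_) (fun i j n hn e => ?_)
  · obtain ⟨h1, h3⟩ := hli _ _ e
    fin_cases i <;> simp [cf] at h1 h3
  · obtain ⟨-, y, hy, hyw⟩ := id (hNL hn)
    obtain ⟨r, rfl⟩ := hK y hy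
    have hnu : ρ n u = r • u := by
      rw [hu n (hNL hn) _ hy hyw, LinearMap.smul_apply, Module.End.one_apply]
    rw [LinearMap.smul_apply, Module.End.one_apply] at hyw
    rw [map_add, map_smul, map_smul, hyw, hnu, smul_smul, smul_smul, ← sub_eq_zero, add_sub_add_comm, ← sub_smul,
      ← sub_smul] at e
    obtain ⟨h1, h3⟩ := hli _ _ e
    rw [sub_eq_zero] at h1 h3
    have hr0 : r ≠ 0 := fun e0 => ht.ne (apply_injective ρ n (by rw [hyw, e0, zero_smul, map_zero]))
    fin_cases i <;> fin_cases j <;> simp [cf, hr0] at h1 h3 ⊢ <;>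
      exact h2 (by subst h1; first | linear_combination h3 | linear_combination -h3)

/-- When the centraliser is quaternion on a larger eigenspace, two vectors exist. -/
theorem plane_or_two [Fintype V] (ht : IsTop ρ A E w) (hsq : ∀ f ∈ E, f ^ 2 ∈ A) (h2 : (2 : F) ≠ 0)
    (hK : ∀ x ∈ alg ρ A, ∃ c : F, x = c • (1 : Module.End F V)) (hF : ∀ c : F, c ≠ 0 → c * c = 1)
    (hcard : Nat.card F = 3) {m₁ m₂ : G} (hm₁ : m₁ ∈ ht.N) (hm₂ : m₂ ∈ ht.N)
    (hN : ht.N ≤ ht.L ⊔ Subgroup.closure {m₁, m₂}) (hanti : cb m₁ m₂ = true) (z : V) (hz : z ∈ space ht)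
    (hS : ∀ g : G, ρ g w = w → ρ g z = z → ∀ x ∈ space ht, ρ g x = x) :
    (∀ x ∈ space ht, ∃ p : Fin 2 → F, p 0 • w + p 1 • ρ m₁ w = x) ∨ Two ρ := by
  classical
  by_cases h : ∀ x ∈ space ht, ∃ p : Fin 2 → F, p 0 • w + p 1 • ρ m₁ w = x
  · exact Or.inl h
  right
  have hl := ht.toIsLayer
  haveI : Finite F := Nat.finite_of_card_ne_zero (by omega)
  haveI := Fintype.ofFinite F
  -- every element of the centraliser acts as one of eight words
  let O : V → Finset V := fun x => (Finset.univ : Finset (Bool × Bool × Bool)).image fun q =>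
    bitSign F q.2.2 • ρ ((if q.1 then m₁ else 1) * (if q.2.1 then m₂ else 1)) x
  have hword : ∀ n ∈ ht.N, ∃ q : Bool × Bool × Bool, ∀ x ∈ space ht,
      ρ n x = bitSign F q.2.2 • ρ ((if q.1 then m₁ else 1) * (if q.2.1 then m₂ else 1)) x := by
    intro n hn
    set a := cb n m₂ with ha
    set b := cb n m₁ with hb
    set μ := (if a then m₁ else 1) * (if b then m₂ else 1) with hμ
    have hμN : μ ∈ ht.N := ht.N.mul_mem (by split; exacts [hm₁, ht.N.one_mem]) (by split; exacts [hm₂, ht.N.one_mem])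
    have hμ1 : cb μ m₁ = b ∧ cb μ m₂ = a := by
      have e1 : ∀ (q : Bool) (x y : G), cb (if q then x else 1) y = (q && cb x y) := fun q x y => by
        cases q <;> simp [cb_symm (1 : G), cb_one]
      have hi : (if a then m₁ else 1) ∈ E := by split; exacts [hm₁.1, E.one_mem]
      have hj : (if b then m₂ else 1) ∈ E := by split; exacts [hm₂.1, E.one_mem]
      rw [hμ, cb_mul_left hl hsq h2 hi hj hm₁.1, cb_mul_left hl hsq h2 hi hj hm₂.1, e1, e1, e1, e1, cb_self, cb_self,
        cb_symm m₂ m₁, hanti]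
      simp
    have hd : μ⁻¹ * n ∈ ht.L := by
      refine ht.mem_of_commute (E.mul_mem (E.inv_mem hμN.1) hn.1) fun y hy => ?_
      have hdN : μ⁻¹ * n ∈ ht.N := ht.N.mul_mem (ht.N.inv_mem hμN) hn
      have hm : ∀ m ∈ ht.N, cb μ m = cb n m → cb (μ⁻¹ * n) m = false := fun m hm' hh => by
        have e2 := cb_mul_left hl hsq h2 hμN.1 hdN.1 hm'.1
        rw [mul_inv_cancel_left, hh] at e2
        revert e2
        cases cb n m <;> cases cb (μ⁻¹ * n) m <;> simp
      have hcm : ∀ x, μ⁻¹ * n * x = x * (μ⁻¹ * n) → x ∈ Subgroup.centralizer {μ⁻¹ * n} := fun x hx =>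
        Subgroup.mem_centralizer_iff.2 fun z hz' => by rw [Set.mem_singleton_iff.1 hz']; exact hx
      have hc : ht.N ≤ Subgroup.centralizer {μ⁻¹ * n} := hN.trans (sup_le
        (fun l hlm => hcm l (hdN.2 l hlm)) ((Subgroup.closure_le _).2 (by
          rintro x (rfl | hx)
          · exact hcm _ (cb_eq_false.1 (hm _ hm₁ (hμ1.1.trans hb)))
          · rw [Set.mem_singleton_iff.1 hx]
            exact hcm _ (cb_eq_false.1 (hm _ hm₂ (hμ1.2.trans ha))))))
      exact Subgroup.mem_centralizer_iff.1 (hc hy) _ rfl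
    obtain ⟨-, y, hy, hyw⟩ := id hd
    obtain ⟨r, rfl⟩ := hK y hy
    have hr0 : r ≠ 0 := fun e0 => ht.ne (apply_injective ρ (μ⁻¹ * n) (by
      rw [hyw, e0, zero_smul, LinearMap.zero_apply, map_zero]))
    obtain ⟨s, rfl⟩ : ∃ s : Bool, r = bitSign F s := by
      rcases mul_self_eq_one_iff.1 (hF r hr0) with e | e
      · exact ⟨false, e⟩
      · exact ⟨true, e⟩
    refine ⟨(a, b, s), fun x hx => ?_⟩
    conv_lhs => rw [← mul_inv_cancel_left μ n, map_mul, Module.End.mul_apply, hx _ hd _ hy hyw]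
    rw [LinearMap.smul_apply, Module.End.one_apply, map_smul]
  have hO : ∀ x ∈ space ht, ∀ n ∈ ht.N, ρ n x ∈ O x := fun x hx n hn => by
    obtain ⟨q, hq⟩ := hword n hn
    exact Finset.mem_image.2 ⟨q, Finset.mem_univ _, (hq x hx).symm⟩
  let S : Finset V := Finset.univ.filter fun x => x ∈ space ht ∧ x ≠ 0
  have hS26 : 25 ≤ S.card := by
    push Not at h
    obtain ⟨u, hu, hind⟩ := h
    have hinj : Function.Injective (fun p : Fin 3 → F => p 0 • w + p 1 • ρ m₁ w + p 2 • u) := by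
      intro p q hpq
      simp only at hpq
      have h0 : (p 0 - q 0) • w + (p 1 - q 1) • ρ m₁ w + (p 2 - q 2) • u = 0 := by
        have e := sub_eq_zero.2 hpq
        rw [← e]
        module
      have h22 : p 2 = q 2 := by
        by_contra hne
        have hne' : p 2 - q 2 ≠ 0 := sub_ne_zero.2 hne
        refine hind ![-((p 2 - q 2)⁻¹ * (p 0 - q 0)), -((p 2 - q 2)⁻¹ * (p 1 - q 1))] ?_
        have h1 := congrArg (fun x => (p 2 - q 2)⁻¹ • x) h0
        simp only [smul_add, smul_smul, inv_mul_cancel₀ hne', one_smul, smul_zero] at h1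
        rw [eq_neg_of_add_eq_zero_right h1]
        simp only [Matrix.cons_val_zero, Matrix.cons_val_one, Matrix.head_cons]
        module
      rw [h22, sub_self, zero_smul, add_zero] at h0
      have h11 : p 1 = q 1 := by
        by_contra hne
        have hne' : p 1 - q 1 ≠ 0 := sub_ne_zero.2 hne
        have h1 := congrArg (fun x => (p 1 - q 1)⁻¹ • x) h0
        simp only [smul_add, smul_smul, inv_mul_cancel₀ hne', one_smul, smul_zero] at h1
        have hL : m₁ ∈ ht.L := ⟨hm₁.1, _, Subalgebra.algebraMap_mem _ (-((p 1 - q 1)⁻¹ * (p 0 - q 0))), by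
          rw [Module.algebraMap_end_apply, neg_smul]
          exact eq_neg_of_add_eq_zero_right h1⟩
        have := cb_eq_false.2 (hm₂.2 _ hL)
        rw [cb_symm, hanti] at this
        exact Bool.noConfusion this
      rw [h11, sub_self, zero_smul, add_zero, smul_eq_zero, sub_eq_zero] at h0
      funext i
      fin_cases i
      · exact h0.resolve_right ht.ne
      · exact h11
      · exact h22
    have h27 : (Finset.univ.image fun p : Fin 3 → F => p 0 • w + p 1 • ρ m₁ w + p 2 • u).card = 27 := by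
      rw [Finset.card_image_of_injective _ hinj, Finset.card_univ, Fintype.card_fun, Fintype.card_fin,
        ← Nat.card_eq_fintype_card, hcard]; rfl
    have hsub : (Finset.univ.image fun p : Fin 3 → F => p 0 • w + p 1 • ρ m₁ w + p 2 • u) ⊆ insert 0 S := by
      intro x hx
      obtain ⟨p, -, rfl⟩ := Finset.mem_image.1 hx
      by_cases h0 : p 0 • w + p 1 • ρ m₁ w + p 2 • u = 0
      · rw [h0]; exact Finset.mem_insert_self _ _
      · refine Finset.mem_insert_of_mem (Finset.mem_filter.2 ⟨Finset.mem_univ _, ?_, h0⟩)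
        exact (space ht).add_mem ((space ht).add_mem ((space ht).smul_mem _ (self_mem_space ht))
          ((space ht).smul_mem _ (N_mem_space ht hm₁ (self_mem_space ht)))) ((space ht).smul_mem _ hu)
    have h5 := (Finset.card_le_card hsub).trans (Finset.card_insert_le _ _)
    omega
  have h8 : ∀ x, (O x).card ≤ 8 := fun x => Finset.card_image_le.trans (by simp)
  have hSm : ∀ x ∈ S, x ∈ space ht ∧ x ≠ 0 := fun x hx => (Finset.mem_filter.1 hx).2
  clear_value O S
  have pick : ∀ T : Finset V, T.card < S.card → ∃ x ∈ S, x ∉ T := fun T hT =>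
    Finset.exists_mem_notMem_of_card_lt_card hT
  obtain ⟨u0, hu0, -⟩ := pick ∅ (by rw [Finset.card_empty]; omega)
  obtain ⟨u1, hu1, n1⟩ := pick (O u0) (by have := h8 u0; omega)
  obtain ⟨u2, hu2, n2⟩ := pick (O u0 ∪ O u1) (by
    have := Finset.card_union_le (O u0) (O u1); have := h8 u0; have := h8 u1; omega)
  obtain ⟨u3, hu3, n3⟩ := pick (O u0 ∪ O u1 ∪ O u2) (by
    have := Finset.card_union_le (O u0 ∪ O u1) (O u2); have := Finset.card_union_le (O u0) (O u1)
    have := h8 u0; have := h8 u1; have := h8 u2; omega)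
  simp only [Finset.mem_union, not_or] at n2 n3
  let U : Fin 4 → V := ![u0, u1, u2, u3]
  have hU : ∀ i, U i ∈ S := fun i => by fin_cases i <;> assumption
  have hlt : ∀ i j : Fin 4, i < j → ∀ n ∈ ht.N, ρ n (U i) ≠ U j := by
    intro i j hij n hn e
    have hm : U j ∈ O (U i) := e ▸ hO _ (hSm _ (hU i)).1 n hn
    fin_cases i <;> fin_cases j <;>
      first
      | exact absurd hij (by decide)
      | exact n1 hm
      | exact n2.1 hm
      | exact n2.2 hm
      | exact n3.1.1 hm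
      | exact n3.1.2 hm
      | exact n3.2 hm
  refine two_of_four ht z hz hS U (fun i => (hSm _ (hU i)).1) (fun i => (hSm _ (hU i)).2) fun i j n hn e => ?_
  rcases lt_trichotomy i j with h | h | h
  · exact absurd e (hlt i j h n hn)
  · exact h
  · refine absurd ?_ (hlt j i h n⁻¹ (ht.N.inv_mem hn))
    rw [← e, inv_apply_cancel]

end Cfsg.Agent.CopBase
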