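import Mathlib

/-!
A search showing that a labelling of a small binary space is preserved by no affine relabelling.
-/

set_option autoImplicit false
set_option linter.style.haveILetI false

namespace Cfsg.Agent.CopBase

/-- One candidate image with one candidate shift is consistent on a listed span. -/
def labOk (F : List ℕ) (sp : List (ℕ × ℕ × ℕ)) (e a le : ℕ) : Bool :=
  sp.all fun p => (p.2.1 ^^^ a) != 0 && (if F.getD (p.1 ^^^ e) 4 == 4 then F.getD (p.2.1 ^^^ a) 4 == 4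
    else F.getD (p.2.1 ^^^ a) 4 == (F.getD (p.1 ^^^ e) 4 ^^^ p.2.2 ^^^ le))

/-- Extends a span by one more basis vector. -/
def labGrow (sp : List (ℕ × ℕ × ℕ)) (e a le : ℕ) : List (ℕ × ℕ × ℕ) :=
  sp ++ sp.map fun p => (p.1 ^^^ e, p.2.1 ^^^ a, p.2.2 ^^^ le)

/-- Every consistent choice is the identity. -/
def labSearch (F : List ℕ) (n : ℕ) : List ℕ → List (ℕ × ℕ × ℕ) → Bool
  | [], sp => sp.all fun p => p.1 == p.2.1
  | e :: es, sp => (List.range n).all fun a => (List.range 4).all fun le =>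
      !labOk F sp e a le || labSearch F n es (labGrow sp e a le)

/-- The search is sound. -/
theorem labSearch_sound {F : List ℕ} {k : ℕ} (M l : ℕ → ℕ) (hM : ∀ x < 2 ^ k, M x < 2 ^ k)
    (hl : ∀ x < 2 ^ k, l x < 4)
    (hadd : ∀ x < 2 ^ k, ∀ y < 2 ^ k, M (x ^^^ y) = M x ^^^ M y ∧ l (x ^^^ y) = l x ^^^ l y)
    (hne : ∀ x < 2 ^ k, x ≠ 0 → M x ≠ 0)
    (hF : ∀ x < 2 ^ k, x ≠ 0 → if F.getD x 4 == 4 then F.getD (M x) 4 == 4
      else F.getD (M x) 4 == (F.getD x 4 ^^^ l x)) :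
    ∀ (es : List ℕ) (sp : List (ℕ × ℕ × ℕ)), (∀ p ∈ sp, p.1 < 2 ^ k ∧ p.2.1 = M p.1 ∧ p.2.2 = l p.1) →
      (∀ e ∈ es, e < 2 ^ k) → (es.Pairwise (· ≠ ·)) →
      (∀ (pre : List ℕ) (e : ℕ) (post : List ℕ), es = pre ++ e :: post →
        ∀ p ∈ sp, ∀ q ∈ pre.sublists, p.1 ^^^ q.foldr (· ^^^ ·) 0 ≠ e) →
      labSearch F (2 ^ k) es sp = true →
      (∀ p ∈ sp, M p.1 = p.1) ∧ ∀ e ∈ es, ∀ p ∈ sp, M (p.1 ^^^ e) = p.1 ^^^ e := by
  intro es
  induction es with
  | nil =>
    intro sp hsp _ _ _ h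
    simp only [labSearch, List.all_eq_true, beq_iff_eq] at h
    exact ⟨fun p hp => by rw [← (hsp p hp).2.1, ← h p hp], fun e he => absurd he List.not_mem_nil⟩
  | cons e es ih =>
    intro sp hsp hes hnd hfresh h
    have he : e < 2 ^ k := hes e (List.mem_cons_self ..)
    simp only [labSearch, List.all_eq_true, List.mem_range, Bool.or_eq_true, Bool.not_eq_true'] at h
    have hok : labOk F sp e (M e) (l e) = true := by
      simp only [labOk, List.all_eq_true, Bool.and_eq_true, bne_iff_ne, ne_eq]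
      intro p hp
      obtain ⟨h1, h2, h3⟩ := hsp p hp
      have hlt : p.1 ^^^ e < 2 ^ k := Nat.xor_lt_two_pow h1 he
      have hne0 : p.1 ^^^ e ≠ 0 := fun h0 => by
        have := hfresh [] e es rfl p hp [] (by simp)
        simp only [List.foldr_nil, Nat.xor_zero] at this
        exact this (Nat.xor_eq_zero_iff.1 h0)
      rw [h2, h3, ← (hadd p.1 h1 e he).1, Nat.xor_assoc (F.getD _ _) (l p.1), ← (hadd p.1 h1 e he).2]
      refine ⟨hne _ hlt hne0, ?_⟩
      have h4 := hF _ hlt hne0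
      split_ifs at h4 ⊢ <;> exact h4
    have hrec := (h (M e) (hM e he) (l e) (hl e he)).resolve_left (by simp [hok])
    have hsp' : ∀ p ∈ labGrow sp e (M e) (l e), p.1 < 2 ^ k ∧ p.2.1 = M p.1 ∧ p.2.2 = l p.1 := by
      intro p hp
      rcases List.mem_append.1 hp with hp | hp
      · exact hsp p hp
      · obtain ⟨p, hp', rfl⟩ := List.mem_map.1 hp
        obtain ⟨a1, a2, a3⟩ := hsp p hp'
        refine ⟨Nat.xor_lt_two_pow a1 he, ?_, ?_⟩
        · show p.2.1 ^^^ M e = M (p.1 ^^^ e)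
          rw [(hadd p.1 a1 e he).1, a2]
        · show p.2.2 ^^^ l e = l (p.1 ^^^ e)
          rw [(hadd p.1 a1 e he).2, a3]
    have hfresh' : ∀ (pre : List ℕ) (x : ℕ) (post : List ℕ), es = pre ++ x :: post →
        ∀ p ∈ labGrow sp e (M e) (l e), ∀ q ∈ pre.sublists, p.1 ^^^ q.foldr (· ^^^ ·) 0 ≠ x := by
      intro pre x post hpre p hp q hq
      rcases List.mem_append.1 hp with hp | hp
      · exact hfresh (e :: pre) x post (by rw [hpre]; rfl) p hp q
          (by rw [List.mem_sublists] at hq ⊢; exact hq.cons e)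
      · obtain ⟨p, hp', rfl⟩ := List.mem_map.1 hp
        have := hfresh (e :: pre) x post (by rw [hpre]; rfl) p hp' (e :: q)
          (by rw [List.mem_sublists] at hq ⊢; exact hq.cons₂ e)
        rwa [List.foldr_cons, ← Nat.xor_assoc] at this
    obtain ⟨h1, h2⟩ := ih (labGrow sp e (M e) (l e)) hsp' (fun x hx => hes x (List.mem_cons_of_mem _ hx))
      (List.pairwise_cons.1 hnd).2 hfresh' hrec
    refine ⟨fun p hp => h1 p (List.mem_append_left _ hp), fun x hx p hp => ?_⟩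
    rcases List.mem_cons.1 hx with rfl | hx
    · exact h1 _ (List.mem_append_right _ (List.mem_map.2 ⟨p, hp, rfl⟩))
    · exact h2 x hx p (List.mem_append_left _ hp)

/-- The search from the empty span. -/
theorem labSearch_fixes {F : List ℕ} {k : ℕ} (M l : ℕ → ℕ) (hM : ∀ x < 2 ^ k, M x < 2 ^ k)
    (hl : ∀ x < 2 ^ k, l x < 4)
    (hadd : ∀ x < 2 ^ k, ∀ y < 2 ^ k, M (x ^^^ y) = M x ^^^ M y ∧ l (x ^^^ y) = l x ^^^ l y)
    (hne : ∀ x < 2 ^ k, x ≠ 0 → M x ≠ 0)
    (hF : ∀ x < 2 ^ k, x ≠ 0 → if F.getD x 4 == 4 then F.getD (M x) 4 == 4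
      else F.getD (M x) 4 == (F.getD x 4 ^^^ l x))
    (es : List ℕ) (hes : ∀ e ∈ es, e < 2 ^ k) (hnd : es.Pairwise (· ≠ ·))
    (hfresh : ∀ i < es.length, ∀ q ∈ (es.take i).sublists, q.foldr (· ^^^ ·) 0 ≠ es.getD i 0)
    (h : labSearch F (2 ^ k) es [(0, 0, 0)] = true) : ∀ e ∈ es, M e = e := by
  have h0 : M 0 = 0 ∧ l 0 = 0 := by
    have := hadd 0 (Nat.two_pow_pos k) 0 (Nat.two_pow_pos k)
    simp only [Nat.xor_self] at this
    exact this
  intro e he
  have := (labSearch_sound M l hM hl hadd hne hF es [(0, 0, 0)]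
    (fun p hp => by
      rw [List.mem_singleton] at hp; subst hp
      exact ⟨Nat.two_pow_pos k, h0.1.symm, h0.2.symm⟩) hes hnd
    (fun pre x post hpre p hp q hq => by
      rw [List.mem_singleton] at hp; subst hp
      rw [show ((0, 0, 0) : ℕ × ℕ × ℕ).1 = 0 from rfl, Nat.zero_xor]
      have h1 := hfresh pre.length (by rw [hpre]; simp) q (by rw [hpre, List.take_left]; exact hq)
      rwa [hpre, List.getD_append_right _ _ _ _ le_rfl, Nat.sub_self, List.getD_cons_zero] at h1)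
    h).2 e he (0, 0, 0) (List.mem_singleton_self _)
  simpa using this

end Cfsg.Agent.CopBase
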