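import Mathlib

/-!
Linear groups of order prime to three in dimensions two and three over the two-element field.
-/

set_option autoImplicit false
set_option linter.style.haveILetI false
set_option synthInstance.maxSize 4000
set_option synthInstance.maxHeartbeats 400000

namespace Cfsg.Agent.CopBase

section
variable {S : Type*} [Group S] [Finite S]

/-- An element of order three cannot act in a group of order prime to three. -/
lemma eq_of_cube {X : Type*} [MulAction S X] (h3 : ¬ 3 ∣ Nat.card S) {s : S}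
    (h : ∀ x : X, s • s • s • x = x) (x : X) : s • x = x := by
  obtain ⟨m, hm⟩ : ∃ m, 3 * m + 1 = Nat.card S ∨ 3 * m + 2 = Nat.card S :=
    ⟨Nat.card S / 3, by omega⟩
  have hcube : ∀ n (y : X), s ^ (3 * n) • y = y := by
    intro n
    induction n with
    | zero => intro y; simp
    | succ n ih =>
      intro y
      rw [show 3 * (n + 1) = 3 * n + 1 + 1 + 1 by ring, pow_succ', pow_succ', pow_succ', mul_smul, mul_smul,
        mul_smul, ih, h]
  have hn : ∀ y : X, s ^ Nat.card S • y = y := fun y => by rw [pow_card_eq_one', one_smul]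
  rcases hm with hm | hm <;> rw [← hm] at hn
  · have := hn x
    rwa [pow_succ', mul_smul, hcube] at this
  · have h2 : ∀ y : X, s • s • y = y := fun y => by
      have := hn y
      rwa [pow_succ', pow_succ', mul_smul, mul_smul, hcube] at this
    have := h x
    rwa [h2] at this

/-- In dimension two some nonzero vector is fixed. -/
theorem exists_fixed_two [DistribMulAction S (Fin 2 → ZMod 2)] (h3 : ¬ 3 ∣ Nat.card S) :
    ∃ p : Fin 2 → ZMod 2, p ≠ 0 ∧ ∀ s : S, s • p = p := by
  by_contra hcon
  push Not at hcon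
  have key : ∀ (s : S) (a b : Fin 2 → ZMod 2), a ≠ 0 → s • a = b → s • b = a + b → a ≠ b → False := by
    intro s a b ha h1 h2 hab
    have hab' : a + a = 0 := funext fun i => CharTwo.add_self_eq_zero _
    have hspan : ∀ a b c : Fin 2 → ZMod 2, a ≠ 0 → b ≠ 0 → a ≠ b → c = 0 ∨ c = a ∨ c = b ∨ c = a + b := by
      decide
    have hb0 : b ≠ 0 := fun e => ha (by
      rw [e] at h1
      exact (smul_eq_zero_iff_eq s).1 h1)
    have h4 : s • (a + b) = a := by
      rw [smul_add, h1, h2, add_comm a b, ← add_assoc, show b + b = 0 from funext fun i => CharTwo.add_self_eq_zero _,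
        zero_add]
    have hall : ∀ c : Fin 2 → ZMod 2, s • s • s • c = c := by
      intro c
      rcases hspan a b c ha hb0 hab with rfl | rfl | rfl | rfl
      · simp
      · rw [h1, h2, h4]
      · rw [h2, h4, h1]
      · rw [h4, h1, h2]
    exact hab ((eq_of_cube h3 hall a).symm.trans h1)
  obtain ⟨e, he⟩ : ∃ e : Fin 2 → ZMod 2, e ≠ 0 := ⟨Pi.single 0 1, by decide⟩
  obtain ⟨s, hs⟩ := hcon e he
  set f := s • e with hf
  have hf0 : f ≠ 0 := fun h => he ((smul_eq_zero_iff_eq s).1 h)
  have hge : e + f ≠ 0 := fun h => hs (by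
    have h5 : ∀ a b : Fin 2 → ZMod 2, a + b = 0 → b = a := by decide
    exact h5 _ _ h)
  obtain ⟨t, ht⟩ := hcon (e + f) hge
  -- the permutation of the three nonzero vectors
  have hspan : ∀ a b c : Fin 2 → ZMod 2, a ≠ 0 → b ≠ 0 → a ≠ b → c = 0 ∨ c = a ∨ c = b ∨ c = a + b := by
    decide
  have hor : ∀ r : S, ∀ a : Fin 2 → ZMod 2, a ≠ 0 → r • a ≠ a → r • r • a = a := by
    intro r a ha hra
    by_contra h
    have h1 : r • a ≠ 0 := fun e' => ha ((smul_eq_zero_iff_eq r).1 e')
    rcases hspan a (r • a) (r • r • a) ha h1 (Ne.symm hra) with h2 | h2 | h2 | h2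
    · exact h1 ((smul_eq_zero_iff_eq r).1 h2)
    · exact h h2
    · exact hra (MulAction.injective r h2)
    · exact key r a _ ha rfl h2 (Ne.symm hra)
  have hse : s • f = e := hor s e he hs
  have hsg : s • (e + f) = e + f := by rw [smul_add, ← hf, hse, add_comm]
  have htne := ht
  have ht0 : t • (e + f) ≠ 0 := fun h => hge ((smul_eq_zero_iff_eq t).1 h)
  have htt := hor t _ hge ht
  rcases hspan e f (t • (e + f)) he hf0 (Ne.symm hs) with h | h | h | h
  · exact ht0 h
  · -- t exchanges e + f and e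
    have h2 : t • e = e + f := by have h' := htt; rwa [h] at h'
    have h3' : t • f = f := by
      have e2 : f = e + (e + f) := by
        rw [← add_assoc, show e + e = 0 from funext fun i => CharTwo.add_self_eq_zero _, zero_add]
      conv_lhs => rw [e2]
      rw [smul_add, h2, h]
      rw [add_comm (e + f) e]
      exact e2.symm
    refine key (t * s) e f he ?_ ?_ (Ne.symm hs)
    · rw [mul_smul, ← hf, h3']
    · rw [mul_smul, hse, h2]
  · have h2 : t • f = e + f := by have h' := htt; rwa [h] at h'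
    have h3' : t • e = e := by
      have e2 : e = (e + f) + f := by
        rw [add_assoc, show f + f = 0 from funext fun i => CharTwo.add_self_eq_zero _, add_zero]
      conv_lhs => rw [e2]
      rw [smul_add, h2, h, add_comm f (e + f)]
      exact e2.symm
    refine key (t * s) f e hf0 ?_ ?_ hs
    · rw [mul_smul, hse, h3']
    · rw [mul_smul, ← hf, h2, add_comm]
  · exact ht h

/-- Codes of vectors in dimension three. -/
def code3 (x : Fin 3 → ZMod 2) : Fin 8 :=
  ⟨(x 0).val + 2 * (x 1).val + 4 * (x 2).val, by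
    have := (x 0).val_lt; have := (x 1).val_lt; have := (x 2).val_lt; omega⟩

/-- Applies the map with given images of the unit vectors. -/
def app3 (a b c : Fin 3 → ZMod 2) (x : Fin 3 → ZMod 2) : Fin 3 → ZMod 2 :=
  x 0 • a + x 1 • b + x 2 • c

/-- The powers of the companion map of the cubic. -/
def comp3 : ℕ → (Fin 3 → ZMod 2) → (Fin 3 → ZMod 2)
  | 0 => id
  | n + 1 => fun x => app3 ![0, 1, 0] ![0, 0, 1] ![1, 1, 0] (comp3 n x)

/-- A product with a power of the companion map has order three, unless the map is the identity. -/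
lemma order_three_word : ∀ a b c : Fin 3 → ZMod 2, app3 a b c ![1, 0, 0] = ![1, 0, 0] →
    (∀ x, app3 a b c x = 0 → x = 0) →
    (∃ i : Fin 7, (∀ x, app3 a b c (comp3 i (app3 a b c (comp3 i (app3 a b c (comp3 i x))))) = x) ∧
      ¬ ∀ x, app3 a b c (comp3 i x) = x) ∨ ∀ x, app3 a b c x = x := by
  decide +kernel

/-- Fixed-point-free maps are companion maps. -/
lemma basis_three : ∀ a b c : Fin 3 → ZMod 2, (∀ x, x ≠ 0 → app3 a b c x ≠ x) → (∀ x, app3 a b c x = 0 → x = 0) →
  ∃ v : Fin 3 → ZMod 2, (∀ x, app3 v (app3 a b c v) (app3 a b c (app3 a b c v)) x = 0 → x = 0) ∧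
  (app3 a b c (app3 a b c (app3 a b c v)) = app3 a b c v + v ∨
  app3 a b c (app3 a b c (app3 a b c v)) = app3 a b c (app3 a b c v) + v) := by
  decide +kernel

/-- Maps fixing a vector have order four or three. -/
lemma fixing_three : ∀ a b c : Fin 3 → ZMod 2, (∃ v, v ≠ 0 ∧ app3 a b c v = v) → (∀ x, app3 a b c x = 0 → x = 0) →
  (∀ x, app3 a b c (app3 a b c (app3 a b c (app3 a b c x))) = x) ∨
  ((∀ x, app3 a b c (app3 a b c (app3 a b c x)) = x) ∧ ¬ ∀ x, app3 a b c x = x) := by
  decide +kernel

/-- In dimension three either a nonzero vector is fixed by all or only the identity fixes one. -/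
theorem fixed_or_free_three [DistribMulAction S (Fin 3 → ZMod 2)] (h3 : ¬ 3 ∣ Nat.card S) :
    (∃ p : Fin 3 → ZMod 2, p ≠ 0 ∧ ∀ s : S, s • p = p) ∨
      ∀ (s : S) (v : Fin 3 → ZMod 2), v ≠ 0 → s • v = v → ∀ x : Fin 3 → ZMod 2, s • x = x := by
  by_cases h7 : ∃ h : S, ∀ v : Fin 3 → ZMod 2, v ≠ 0 → h • v ≠ v
  · right
    obtain ⟨h, hh⟩ := h7
    have hlin : ∀ (r : S) (a b c : Fin 3 → ZMod 2), r • ![1, 0, 0] = a → r • ![0, 1, 0] = b →
        r • ![0, 0, 1] = c → ∀ x, r • x = app3 a b c x := by
      intro r a b c ha hb hc x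
      have hx : ∀ x : Fin 3 → ZMod 2, x = x 0 • ![1, 0, 0] + x 1 • ![0, 1, 0] + x 2 • ![0, 0, 1] := by decide
      have hs : ∀ (d : ZMod 2) (y : Fin 3 → ZMod 2), r • (d • y) = d • (r • y) := fun d y => by
        rcases (by decide : ∀ c : ZMod 2, c = 0 ∨ c = 1) d with rfl | rfl <;> simp
      conv_lhs => rw [hx x]
      rw [smul_add, smul_add, hs, hs, hs, ha, hb, hc, app3]
    -- a power of the fixed-point-free element that is a companion map in some basis
    obtain ⟨v, hind, hpoly⟩ := basis_three _ _ _ (fun x hx => by rw [← hlin h _ _ _ rfl rfl rfl]; exact hh x hx)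
      (fun x hx => by rw [← hlin h _ _ _ rfl rfl rfl] at hx; exact (smul_eq_zero_iff_eq h).1 hx)
    simp only [← hlin h _ _ _ rfl rfl rfl] at hind hpoly
    -- the companion element and its starting vector
    obtain ⟨g, v', hg3, hind'⟩ : ∃ g : S, ∃ v' : Fin 3 → ZMod 2, g • g • g • v' = g • v' + v' ∧
        ∀ x, app3 v' (g • v') (g • g • v') x = 0 → x = 0 := by
      rcases hpoly with hp | hp
      · exact ⟨h, v, hp, hind⟩
      · refine ⟨h⁻¹, h • h • h • v, ?_, fun x hx => ?_⟩
        · simp only [inv_smul_smul]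
          rw [hp, ← add_assoc, show h • h • v + h • h • v = 0 from funext fun i => CharTwo.add_self_eq_zero _,
            zero_add]
        · simp only [inv_smul_smul] at hx
          rw [hp] at hx
          have e : ∀ (p q r x : Fin 3 → ZMod 2), app3 (r + p) r q x = app3 p q r ![x 0, x 2, x 0 + x 1] := by
            intro p q r x; funext i; simp [app3, add_mul, mul_add]; ring
          rw [e] at hx
          have hz := hind _ hx
          have hz' : ∀ x : Fin 3 → ZMod 2, ![x 0, x 2, x 0 + x 1] = 0 → x = 0 := by decide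
          exact hz' x hz
    intro s u hu hsu
    by_contra hne
    -- move the fixed vector to the first basis vector
    have hsurj : ∀ y, ∃ x, app3 v' (g • v') (g • g • v') x = y := by
      have hinj : Function.Injective (app3 v' (g • v') (g • g • v')) := fun x y hxy => by
        refine sub_eq_zero.1 (hind' _ ?_)
        simp only [app3, Pi.sub_apply, sub_smul] at hxy ⊢
        rw [← sub_eq_zero] at hxy
        rw [← hxy]; abel
      exact fun y => Finite.injective_iff_surjective.1 hinj y
    obtain ⟨x0, hx0⟩ := hsurj u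
    have horbit : ∀ x : Fin 3 → ZMod 2, x ≠ 0 → ∃ i : Fin 7, comp3 i ![1, 0, 0] = x := by decide
    have hx00 : x0 ≠ 0 := fun e => hu (by rw [← hx0, e]; simp [app3])
    obtain ⟨i0, hi0⟩ := horbit x0 hx00
    have hcomp : ∀ (n : ℕ) x, g ^ n • app3 v' (g • v') (g • g • v') x =
        app3 v' (g • v') (g • g • v') (comp3 n x) := by
      intro n
      induction n with
      | zero => intro x; simp [comp3]
      | succ n ih =>
        intro x
        rw [pow_succ', mul_smul, ih]
        show _ = app3 v' (g • v') (g • g • v') (app3 ![0, 1, 0] ![0, 0, 1] ![1, 1, 0] (comp3 n x))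
        generalize comp3 n x = y
        rw [hlin g (g • ![1, 0, 0]) (g • ![0, 1, 0]) (g • ![0, 0, 1]) rfl rfl rfl,
          ← hlin g _ _ _ rfl rfl rfl]
        have hs : ∀ (d : ZMod 2) (z : Fin 3 → ZMod 2), g • (d • z) = d • (g • z) := fun d z => by
          rcases (by decide : ∀ c : ZMod 2, c = 0 ∨ c = 1) d with rfl | rfl <;> simp
        simp only [app3, smul_add, hs, hg3]
        simp only [Pi.add_apply, Pi.smul_apply, smul_eq_mul, Matrix.cons_val_zero, Matrix.cons_val_one,
          Matrix.head_cons, Matrix.cons_val_two, Matrix.tail_cons, mul_zero, mul_one, zero_add, add_zero]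
        funext i
        simp only [Pi.add_apply, Pi.smul_apply, smul_eq_mul]
        ring
    let P := app3 v' (g • v') (g • g • v')
    have hP : Function.Injective P := fun x y hxy => by
      obtain ⟨x', rfl⟩ : ∃ x', x' = x := ⟨x, rfl⟩
      refine sub_eq_zero.1 (hind' _ ?_)
      simp only [P, app3, Pi.sub_apply, sub_smul] at hxy ⊢
      rw [← sub_eq_zero] at hxy
      rw [← hxy]; abel
    -- the conjugate fixing the first basis vector
    set t := (g ^ (i0 : ℕ))⁻¹ * s * g ^ (i0 : ℕ) with ht
    have hte : t • P ![1, 0, 0] = P ![1, 0, 0] := by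
      rw [ht, mul_smul, mul_smul, hcomp, hi0, hx0, hsu, inv_smul_eq_iff, hcomp, hi0, hx0]
    choose pre hpre using hsurj
    have hPadd : ∀ x y, P (x + y) = P x + P y := fun x y => by
      simp only [P, app3, Pi.add_apply, add_smul]; abel
    have hTlin : ∀ x, t • P x = P (app3 (pre (t • P ![1, 0, 0])) (pre (t • P ![0, 1, 0])) (pre (t • P ![0, 0, 1])) x) := by
      intro x
      have hx : ∀ x : Fin 3 → ZMod 2, x = x 0 • ![1, 0, 0] + x 1 • ![0, 1, 0] + x 2 • ![0, 0, 1] := by decide
      have hs : ∀ (d : ZMod 2) (z : Fin 3 → ZMod 2), t • P (d • z) = d • (t • P z) ∧ P (d • z) = d • P z :=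
        fun d z => by
          rcases (by decide : ∀ c : ZMod 2, c = 0 ∨ c = 1) d with rfl | rfl
          · have : P 0 = 0 := by simp [P, app3]
            simp [this]
          · simp
      conv_lhs => rw [hx x]
      rw [hPadd, hPadd, smul_add, smul_add, (hs _ _).1, (hs _ _).1, (hs _ _).1]
      simp only [app3]
      rw [hPadd, hPadd, (hs _ _).2, (hs _ _).2, (hs _ _).2]
      have hPpre : ∀ y, P (pre y) = y := hpre
      rw [hPpre, hPpre, hPpre]
    rcases order_three_word (pre (t • P ![1, 0, 0])) (pre (t • P ![0, 1, 0])) (pre (t • P ![0, 0, 1]))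
      (hP (by rw [← hTlin, hte])) (fun x hx => hP (by
        have : t • P x = 0 := by rw [hTlin, hx]; simp [P, app3]
        rw [(smul_eq_zero_iff_eq t).1 this]; simp [P, app3])) with ⟨i, hi3, hi1⟩ | hid
    · refine hi1 fun x => hP ?_
      have hcP : ∀ (n : ℕ) (x : Fin 3 → ZMod 2), g ^ n • P x = P (comp3 n x) := hcomp
      have hall : ∀ y : Fin 3 → ZMod 2, (t * g ^ (i : ℕ)) • (t * g ^ (i : ℕ)) • (t * g ^ (i : ℕ)) • y = y := fun y => by
        obtain ⟨x, rfl⟩ : ∃ x, P x = y := ⟨pre y, hpre y⟩
        simp only [mul_smul]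
        rw [hcP, hTlin, hcP, hTlin, hcP, hTlin, hi3]
      have := eq_of_cube h3 hall (P x)
      rwa [mul_smul, hcP, hTlin] at this
    · refine hne fun y => ?_
      have hT : ∀ z : Fin 3 → ZMod 2, t • z = z := fun z => by
        obtain ⟨x, rfl⟩ : ∃ x, P x = z := ⟨pre z, hpre z⟩
        rw [hTlin, hid]
      have := hT ((g ^ (i0 : ℕ))⁻¹ • y)
      rwa [ht, mul_smul, mul_smul, smul_inv_smul, smul_left_cancel_iff] at this
  · left
    push Not at h7
    -- every element fixes a vector: the two-group case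
    obtain ⟨N, hN⟩ : ∃ N : Subgroup S, ∀ s, s ∈ N ↔ ∀ x : Fin 3 → ZMod 2, s • x = x :=
      ⟨{ carrier := {s | ∀ x : Fin 3 → ZMod 2, s • x = x}
         one_mem' := fun x => one_smul S x
         mul_mem' := fun {a b} ha hb x => by rw [mul_smul, hb, ha]
         inv_mem' := fun {a} ha x => by rw [inv_smul_eq_iff, ha] }, fun s => Iff.rfl⟩
    have hs4 : ∀ (s : S) (x : Fin 3 → ZMod 2), s • s • s • s • x = x := by
      intro s
      have hlin : ∀ x : Fin 3 → ZMod 2,
          s • x = app3 (s • ![1, 0, 0]) (s • ![0, 1, 0]) (s • ![0, 0, 1]) x := by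
        intro x
        have hx : ∀ x : Fin 3 → ZMod 2, x = x 0 • ![1, 0, 0] + x 1 • ![0, 1, 0] + x 2 • ![0, 0, 1] := by decide
        have hs : ∀ (d : ZMod 2) (y : Fin 3 → ZMod 2), s • (d • y) = d • (s • y) := fun d y => by
          rcases (by decide : ∀ c : ZMod 2, c = 0 ∨ c = 1) d with rfl | rfl <;> simp
        conv_lhs => rw [hx x]
        rw [smul_add, smul_add, hs, hs, hs, app3]
      obtain ⟨v, hv, hsv⟩ := h7 s
      rcases fixing_three _ _ _ ⟨v, hv, by rw [← hlin]; exact hsv⟩
        (fun x hx => (smul_eq_zero_iff_eq s).1 (by rw [hlin]; exact hx)) with h4 | ⟨h4, h1⟩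
      · intro x; simp only [← hlin] at h4; exact h4 x
      · simp only [← hlin] at h4 h1
        exact absurd (eq_of_cube h3 h4) h1
    haveI : Fact (Nat.Prime 2) := ⟨Nat.prime_two⟩
    haveI : N.Normal := ⟨fun n hn s => (hN _).2 fun x => by
      rw [mul_smul, mul_smul, (hN n).1 hn, smul_inv_smul]⟩
    letI : MulAction (S ⧸ N) (Fin 3 → ZMod 2) :=
      MulAction.compHom _ (QuotientGroup.lift N (MulAction.toPermHom S (Fin 3 → ZMod 2))
        (fun n hn => Equiv.ext ((hN n).1 hn)))
    have hP2 : IsPGroup 2 (S ⧸ N) := by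
      intro q
      obtain ⟨s, rfl⟩ := QuotientGroup.mk_surjective q
      refine ⟨2, ?_⟩
      rw [← QuotientGroup.mk_pow, QuotientGroup.eq_one_iff, hN]
      intro x
      rw [show 2 ^ 2 = 1 + 1 + 1 + 1 from rfl, pow_succ', pow_succ', pow_succ', pow_one, mul_smul, mul_smul,
        mul_smul, hs4]
    have hmod := hP2.card_modEq_card_fixedPoints (Fin 3 → ZMod 2)
    haveI := Fintype.ofFinite (MulAction.fixedPoints (S ⧸ N) (Fin 3 → ZMod 2))
    have h0 : (0 : Fin 3 → ZMod 2) ∈ MulAction.fixedPoints (S ⧸ N) (Fin 3 → ZMod 2) := fun q => by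
      obtain ⟨s, rfl⟩ := QuotientGroup.mk_surjective q
      exact smul_zero s
    have h2 : 1 < Nat.card (MulAction.fixedPoints (S ⧸ N) (Fin 3 → ZMod 2)) := by
      have hpos : 0 < Nat.card (MulAction.fixedPoints (S ⧸ N) (Fin 3 → ZMod 2)) :=
        Nat.card_pos_iff.2 ⟨⟨⟨0, h0⟩⟩, inferInstance⟩
      rw [Nat.card_pi, Fin.prod_univ_three, Nat.card_zmod] at hmod
      unfold Nat.ModEq at hmod
      omega
    obtain ⟨⟨p, hp⟩, hne⟩ := Fintype.exists_ne_of_one_lt_card (by rwa [← Nat.card_eq_fintype_card])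
      (⟨0, h0⟩ : MulAction.fixedPoints (S ⧸ N) (Fin 3 → ZMod 2))
    exact ⟨p, fun e => hne (Subtype.ext e), fun s => hp (s : S ⧸ N)⟩

end

end Cfsg.Agent.CopBase
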