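import Cfsg.Agent.Lib.CopBase.TinyMain
import Cfsg.Agent.Lib.CopBase.Colours
import Cfsg.Agent.Lib.SolBase.Perm

/-!
Two vectors with trivial common stabiliser for coprime soluble linear groups in odd characteristic.
-/

set_option autoImplicit false
set_option linter.style.haveILetI false

namespace Cfsg.Agent.CopBase

open PrimSol SolBase

universe u v

variable {F : Type*} [Field F] {V : Type v} [AddCommGroup V] [Module F V] [FiniteDimensional F V]
  [Finite V] {G : Type u} [Group G] [Finite G] {ρ : G →* Module.End F V}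

/-- A smaller invariant subspace has two vectors fixing it. -/
theorem two_restrict (hbelow : Below.{u, v} F (Module.finrank F V)) (hsol : Group.IsSolvable G)
    (hcop : (Nat.card G : F) ≠ 0) (K : Subgroup G) (W : Submodule F V) (hW : W ≠ ⊤)
    (hKW : ∀ k ∈ K, ∀ x ∈ W, ρ k x ∈ W) :
    ∃ a b : V, a ∈ W ∧ b ∈ W ∧ (W ≠ ⊥ → a ≠ 0) ∧
      ∀ k ∈ K, ρ k a = a → ρ k b = b → ∀ x ∈ W, ρ k x = x := by
  classical
  let σ : K →* Module.End F W :=
    { toFun := fun k => (ρ (k : G)).restrict (hKW k k.2)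
      map_one' := LinearMap.ext fun x => Subtype.ext (by
        show ρ ((1 : K) : G) (x : V) = x
        rw [OneMemClass.coe_one, map_one, Module.End.one_apply])
      map_mul' := fun a b => LinearMap.ext fun x => Subtype.ext (by
        show ρ ((a * b : K) : G) (x : V) = ρ (a : G) (ρ (b : G) x)
        rw [Subgroup.coe_mul, map_mul, Module.End.mul_apply]) }
  let σu := σ.toHomUnits
  let τ : K ⧸ σu.ker →* Module.End F W := (Units.coeHom _).comp (QuotientGroup.kerLift σu)
  have hτ : Function.Injective τ := fun a b h => QuotientGroup.kerLift_injective σu (Units.ext h)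
  have hτk : ∀ (k : K) (x : W), ((τ (k : K ⧸ σu.ker) x : W) : V) = ρ (k : G) x := fun k x => rfl
  haveI : Group.IsSolvable G := hsol
  have hcard : (Nat.card (K ⧸ σu.ker) : F) ≠ 0 := by
    obtain ⟨c, hc⟩ := (Subgroup.card_quotient_dvd_card σu.ker).trans (Subgroup.card_subgroup_dvd_card K)
    intro h
    rw [hc, Nat.cast_mul, h, zero_mul] at hcop
    exact hcop rfl
  obtain ⟨y₁, y₂, hy⟩ := hbelow W (K ⧸ σu.ker) τ (Submodule.finrank_lt hW) hτ inferInstance hcard
  have hfix : ∀ k ∈ K, ρ k (y₁ : V) = y₁ → ρ k (y₂ : V) = y₂ → ∀ x ∈ W, ρ k x = x := by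
    intro k hk h1 h2 x hx
    have := hy (⟨k, hk⟩ : K) (Subtype.ext ((hτk _ _).trans h1)) (Subtype.ext ((hτk _ _).trans h2))
    have h3 := congrArg (fun h : K ⧸ σu.ker => ((τ h ⟨x, hx⟩ : W) : V)) this
    simp only [map_one, Module.End.one_apply] at h3
    rwa [hτk] at h3
  by_cases h1 : (y₁ : V) = 0
  · by_cases h2 : (y₂ : V) = 0
    · by_cases hW0 : W = ⊥
      · exact ⟨0, 0, W.zero_mem, W.zero_mem, fun h => absurd hW0 h, fun k hk _ _ =>
          hfix k hk (by rw [h1, map_zero]) (by rw [h2, map_zero])⟩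
      · obtain ⟨a, ha, ha0⟩ := Submodule.exists_mem_ne_zero_of_ne_bot hW0
        exact ⟨a, 0, ha, W.zero_mem, fun _ => ha0, fun k hk _ _ =>
          hfix k hk (by rw [h1, map_zero]) (by rw [h2, map_zero])⟩
    · exact ⟨y₂, y₂, y₂.2, y₂.2, fun _ => h2, fun k hk h _ => hfix k hk (by rw [h1, map_zero]) h⟩
  · exact ⟨y₁, y₂, y₁.2, y₂.2, fun _ => h1, hfix⟩

/-- An invariant complement. -/
theorem exists_compl (hcop : (Nat.card G : F) ≠ 0) (W : Submodule F V)
    (hW : ∀ g, ∀ x ∈ W, ρ g x ∈ W) :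
    ∃ W' : Submodule F V, (∀ g, ∀ x ∈ W', ρ g x ∈ W') ∧ W ⊓ W' = ⊥ ∧ W ⊔ W' = ⊤ := by
  classical
  haveI := Fintype.ofFinite G
  obtain ⟨p, hp⟩ := W.subtype.exists_leftInverse_of_injective W.ker_subtype
  let P : Module.End F V := W.subtype.comp p
  have hPW : ∀ x, P x ∈ W := fun x => (p x).2
  have hPid : ∀ x ∈ W, P x = x := fun x hx => by
    show ((p (W.subtype ⟨x, hx⟩) : W) : V) = x
    rw [← LinearMap.comp_apply, hp, LinearMap.id_apply]
  let Q : Module.End F V := (Nat.card G : F)⁻¹ • ∑ g : G, ρ g * P * ρ g⁻¹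
  have hQapp : ∀ x, Q x = (Nat.card G : F)⁻¹ • ∑ g : G, ρ g (P (ρ g⁻¹ x)) := fun x => by
    simp [Q, Module.End.mul_apply]
  have hQW : ∀ x, Q x ∈ W := fun x => by
    rw [hQapp]
    exact W.smul_mem _ (W.sum_mem fun g _ => hW g _ (hPW _))
  have hQid : ∀ x ∈ W, Q x = x := fun x hx => by
    rw [hQapp, Finset.sum_congr rfl fun g _ => show ρ g (P (ρ g⁻¹ x)) = x by
      rw [hPid _ (hW _ _ hx), apply_inv_cancel]]
    rw [Finset.sum_const, Finset.card_univ, ← Nat.card_eq_fintype_card, ← Nat.cast_smul_eq_nsmul F,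
      smul_smul, inv_mul_cancel₀ hcop, one_smul]
  have hQcomm : ∀ h x, Q (ρ h x) = ρ h (Q x) := fun h x => by
    rw [hQapp, hQapp, map_smul, map_sum]
    congr 1
    refine Fintype.sum_equiv (Equiv.mulLeft h⁻¹) _ _ fun g => ?_
    simp only [Equiv.coe_mulLeft, mul_inv_rev, inv_inv, map_mul, Module.End.mul_apply, apply_inv_cancel]
  refine ⟨LinearMap.ker Q, fun g x hx => ?_, ?_, ?_⟩
  · rw [LinearMap.mem_ker] at hx ⊢
    rw [hQcomm, hx, map_zero]
  · rw [Submodule.eq_bot_iff]
    rintro x ⟨hx, hx'⟩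
    rw [SetLike.mem_coe, LinearMap.mem_ker, hQid x hx] at hx'
    exact hx'
  · rw [eq_top_iff]
    intro x _
    refine Submodule.mem_sup.2 ⟨Q x, hQW x, x - Q x, ?_, add_sub_cancel _ _⟩
    rw [LinearMap.mem_ker, map_sub, hQid _ (hQW x), sub_self]

/-- The reducible case. -/
theorem two_of_reducible (hρ : Function.Injective ρ) (hirr : ¬ Irred ρ)
    (hbelow : Below.{u, v} F (Module.finrank F V)) (hsol : Group.IsSolvable G)
    (hcop : (Nat.card G : F) ≠ 0) : Two ρ := by
  simp only [Irred, not_forall, not_or] at hirr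
  obtain ⟨W, hW, hW0, hW1⟩ := hirr
  obtain ⟨W', hW', hdis, hsup⟩ := exists_compl hcop W hW
  have hW'1 : W' ≠ ⊤ := fun h => hW0 (by rwa [h, inf_top_eq] at hdis)
  obtain ⟨a, b, ha, hb, -, hab⟩ := two_restrict hbelow hsol hcop ⊤ W hW1 (fun k _ => hW k)
  obtain ⟨a', b', ha', hb', -, hab'⟩ := two_restrict hbelow hsol hcop ⊤ W' hW'1 (fun k _ => hW' k)
  refine ⟨a + a', b + b', fun g hx hy => ?_⟩
  have key : ∀ x ∈ W, ∀ x' ∈ W', ρ g (x + x') = x + x' → ρ g x = x ∧ ρ g x' = x' := by
    intro x hx x' hx' h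
    have h1 : ρ g x - x = x' - ρ g x' := by
      rw [map_add] at h
      rw [sub_eq_sub_iff_add_eq_add, h, add_comm]
    have h2 : ρ g x - x ∈ W ⊓ W' :=
      ⟨W.sub_mem (hW g x hx) hx, h1 ▸ W'.sub_mem hx' (hW' g x' hx')⟩
    rw [hdis, Submodule.mem_bot] at h2
    exact ⟨sub_eq_zero.1 h2, (sub_eq_zero.1 (h1 ▸ h2)).symm⟩
  obtain ⟨k1, k2⟩ := key a ha a' ha' hx
  obtain ⟨k3, k4⟩ := key b hb b' hb' hy
  refine hρ ((LinearMap.ext fun u => ?_).trans (map_one ρ).symm)
  rw [Module.End.one_apply]
  obtain ⟨c, hc, d, hd, rfl⟩ := Submodule.mem_sup.1 (hsup ▸ Submodule.mem_top : u ∈ W ⊔ W')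
  rw [map_add, hab g (Subgroup.mem_top g) k1 k3 c hc, hab' g (Subgroup.mem_top g) k2 k4 d hd]

/-- The imprimitive case. -/
theorem two_of_imprimitive (hρ : Function.Injective ρ) (hirr : Irred ρ) (hnp : ¬ NoDecomp ρ)
    (hbelow : Below.{u, v} F (Module.finrank F V)) (hsol : Group.IsSolvable G)
    (hcop : (Nat.card G : F) ≠ 0) (h2 : (2 : F) ≠ 0) : Two ρ := by
  classical
  let P : ℕ → Prop := fun t => ∃ (m : ℕ) (D : Fin t → Submodule F V), 2 ≤ t ∧ 0 < m ∧
    (∀ i, Module.finrank F (D i) = m) ∧ iSupIndep D ∧ iSup D = ⊤ ∧ ∀ g : G, ∀ i, ∃ j, (D i).map (ρ g) = D j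
  have hex : ∃ t, P t := by
    simp only [NoDecomp, not_forall] at hnp
    obtain ⟨m, t, D, a, b, c, d, e, f, -⟩ := hnp
    exact ⟨t, m, D, a, b, c, d, e, f⟩
  obtain ⟨t, hPt, hmint⟩ : ∃ t, P t ∧ ∀ s < t, ¬ P s := ⟨_, Nat.find_spec hex, fun s hs => Nat.find_min hex hs⟩
  obtain ⟨m, D, ht, hm, hrank, hind, htop, hperm⟩ := hPt
  have hDne : ∀ i, D i ≠ ⊥ := fun i h => by
    have := hrank i
    rw [h, finrank_bot] at this
    omega
  have hDinj : Function.Injective D := hind.injective hDne
  choose π hπ using hperm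
  have hπm : ∀ g h i, π (g * h) i = π g (π h i) := by
    intro g h i
    apply hDinj
    rw [← hπ, ← hπ, ← hπ, map_mul, Module.End.mul_eq_comp, Submodule.map_comp]
  have hπ1 : ∀ i, π 1 i = i := fun i => hDinj (by
    rw [← hπ, map_one, Module.End.one_eq_id, Submodule.map_id])
  letI : MulAction G (Fin t) :=
    { smul := π
      one_smul := hπ1
      mul_smul := hπm }
  have hmem : ∀ g i, ∀ x ∈ D i, ρ g x ∈ D (π g i) := fun g i x hx => by
    rw [← hπ]; exact Submodule.mem_map_of_mem hx
  -- transitivity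
  have horb : ∀ i j, ∃ g, π g i = j := by
    intro i j
    set W := ⨆ g : G, D (π g i) with hW
    have hinv : ∀ g : G, ∀ w ∈ W, ρ g w ∈ W := by
      intro g w hw
      refine Submodule.iSup_induction (fun g => D (π g i)) (motive := fun w => ρ g w ∈ W) hw ?_ ?_ ?_
      · intro h x hx
        have h3 := hmem g _ x hx
        rw [← hπm] at h3
        exact Submodule.mem_iSup_of_mem (g * h) h3
      · rw [map_zero]; exact W.zero_mem
      · intro x y hx hy
        rw [map_add]; exact W.add_mem hx hy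
    rcases hirr W hinv with h | h
    · exact absurd (le_bot_iff.1 ((le_iSup (fun g => D (π g i)) 1).trans h.le)) (hDne _)
    · by_contra hcon
      push Not at hcon
      have hle : W ≤ ⨆ (k) (_ : k ≠ j), D k :=
        iSup_le fun g => le_iSup₂ (f := fun k (_ : k ≠ j) => D k) (π g i) (hcon g)
      rw [h, top_le_iff] at hle
      have hd := hind j
      rw [hle, disjoint_top] at hd
      exact hDne j hd
  let i0 : Fin t := ⟨0, by omega⟩
  let i1 : Fin t := ⟨1, by omega⟩
  have hi01 : i0 ≠ i1 := by simp [i0, i1, Fin.ext_iff]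
  choose r hr using horb i0
  have hrinv : ∀ j, π (r j)⁻¹ j = i0 := fun j => by
    refine (congrArg (π (r j)⁻¹) (hr j)).symm.trans ?_
    rw [← hπm, inv_mul_cancel, hπ1]
  haveI : MulAction.IsPretransitive G (Fin t) := ⟨fun i j => ⟨r j * (r i)⁻¹, by
    show π _ i = j
    rw [hπm, hrinv, hr]⟩⟩
  let K : Subgroup G := MulAction.stabilizer G i0
  have hki : ∀ g i, (r (π g i))⁻¹ * g * r i ∈ K := fun g i => by
    show π _ i0 = i0
    rw [hπm, hr, hπm, hrinv]
  -- blocks of blocks do not exist
  have hcoatom : IsCoatom K := by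
    refine ⟨fun h => hi01 ?_, fun L hKL => ?_⟩
    · have h3 : r i1 ∈ K := h ▸ Subgroup.mem_top _
      exact (show π (r i1) i0 = i0 from h3).symm.trans (hr i1)
    by_contra hL
    let eL : G ⧸ L ≃ Fin (Nat.card (G ⧸ L)) := Finite.equivFin _
    let β : Fin t → Fin (Nat.card (G ⧸ L)) := fun i => eL (r i : G ⧸ L)
    have hidx : K.index = t := by
      rw [MulAction.index_stabilizer_of_transitive G i0, Nat.card_fin]
    have hlt : Nat.card (G ⧸ L) < t := by
      have h3 := Subgroup.relIndex_mul_index hKL.le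
      have h4 : 1 < K.relIndex L := Nat.one_lt_iff_ne_zero_and_ne_one.2
        ⟨Subgroup.index_ne_zero_of_finite, fun h => hKL.not_ge (Subgroup.relIndex_eq_one.1 h)⟩
      rw [← hidx, ← h3]
      exact lt_mul_of_one_lt_left (Nat.card_pos) h4
    have h2L : 2 ≤ Nat.card (G ⧸ L) := Nat.one_lt_iff_ne_zero_and_ne_one.2
      ⟨Subgroup.index_ne_zero_of_finite, fun h => hL (Subgroup.index_eq_one.1 h)⟩
    let act : G → Fin (Nat.card (G ⧸ L)) → Fin (Nat.card (G ⧸ L)) := fun g j => eL (g • eL.symm j)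
    have hβ : ∀ g i, β (π g i) = act g (β i) := fun g i => by
      simp only [β, act, Equiv.symm_apply_apply, MulAction.Quotient.smul_mk, smul_eq_mul]
      refine congrArg eL ?_
      rw [QuotientGroup.eq]
      simpa [mul_assoc] using hKL.le (hki g i)
    let E : Fin (Nat.card (G ⧸ L)) → Submodule F V := fun j => ⨆ i ∈ Finset.univ.filter (β · = j), D i
    have hle : ∀ i, D i ≤ E (β i) := fun i => le_iSup₂_of_le i (by simp) le_rfl
    have hEmap : ∀ g j, (E j).map (ρ g) ≤ E (act g j) := fun g j => by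
      simp only [E, Submodule.map_iSup]
      refine iSup₂_le fun i hi => ?_
      rw [hπ, ← (Finset.mem_filter.1 hi).2, ← hβ]
      exact hle _
    have hact : ∀ g h j, act g (act h j) = act (g * h) j := fun g h j => by
      simp [act, mul_smul]
    have hEeq : ∀ g j, (E j).map (ρ g) = E (act g j) := fun g j => le_antisymm (hEmap g j) (by
      have h3 := Submodule.map_mono (f := ρ g) (hEmap g⁻¹ (act g j))
      rw [hact, inv_mul_cancel] at h3
      have h4 : act 1 j = j := by simp [act]
      rw [h4, ← Submodule.map_comp, ← Module.End.mul_eq_comp, ← map_mul, mul_inv_cancel, map_one,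
        Module.End.one_eq_id, Submodule.map_id] at h3
      exact h3)
    have hrankE : ∀ j, Module.finrank F (E j) = Module.finrank F (E (β i0)) := fun j => by
      obtain ⟨g, hg⟩ := MulAction.exists_smul_eq G (eL.symm (β i0)) (eL.symm j)
      have : act g (β i0) = j := by simp [act, hg]
      rw [← this, ← hEeq, finrank_map_apply]
    refine hmint _ hlt ⟨Module.finrank F (E (β i0)), E, h2L, ?_, hrankE, ?_, ?_, fun g j => ⟨_, hEeq g j⟩⟩
    · have := Submodule.finrank_mono (hle i0)
      rw [hrank] at this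
      omega
    · rw [iSupIndep_iff_finset_sum_eq_zero_imp_eq_zero]
      intro s v hv hs j hj
      have hex' : ∀ j ∈ s, ∃ μ : Fin t → V, (∀ i, μ i ∈ D i) ∧ (∀ i, β i ≠ j → μ i = 0) ∧ ∑ i, μ i = v j := by
        intro j hj
        obtain ⟨μ, hμ⟩ := (Submodule.mem_iSup_finset_iff_exists_sum _ _).1 (hv j hj)
        refine ⟨fun i => if β i = j then (μ i : V) else 0, fun i => ?_, fun i hi => if_neg hi, ?_⟩
        · by_cases hi : β i = j
          · simp only [if_pos hi]; exact (μ i).2
          · simp only [if_neg hi]; exact (D i).zero_mem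
        · rw [← hμ, Finset.sum_filter]
      choose μ hμD hμ0 hμs using hex'
      let ν : Fin t → V := fun i => if h : β i ∈ s then μ (β i) h i else 0
      have hνD : ∀ i, ν i ∈ D i := fun i => by
        by_cases h : β i ∈ s
        · simp only [ν, dif_pos h]; exact hμD _ _ _
        · simp only [ν, dif_neg h]; exact (D i).zero_mem
      have hνs : ∑ i, ν i = 0 := by
        rw [← hs]
        calc ∑ i, ν i = ∑ i, ∑ j ∈ s.attach, μ j j.2 i := by
              refine Finset.sum_congr rfl fun i _ => ?_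
              by_cases h : β i ∈ s
              · rw [Finset.sum_eq_single ⟨β i, h⟩ (fun b _ hb => hμ0 _ _ _ fun e => hb (Subtype.ext e.symm))
                  (fun h' => absurd (Finset.mem_attach _ _) h')]
                exact dif_pos h
              · rw [Finset.sum_eq_zero fun b _ => hμ0 _ _ _ fun e => h (e ▸ b.2)]
                exact dif_neg h
          _ = ∑ j ∈ s.attach, v j := by rw [Finset.sum_comm]; exact Finset.sum_congr rfl fun j _ => hμs j j.2
          _ = _ := Finset.sum_attach s v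
      rw [← hμs j hj]
      refine Finset.sum_eq_zero fun i _ => ?_
      by_cases hi : β i = j
      · have := ((iSupIndep_iff_finset_sum_eq_zero_imp_eq_zero D).1 hind) Finset.univ ν
          (fun i _ => hνD i) hνs i (Finset.mem_univ i)
        subst hi
        simp only [ν, dif_pos hj] at this
        exact this
      · exact hμ0 j hj i hi
    · rw [eq_top_iff, ← htop]
      exact iSup_le fun i => (hle i).trans (le_iSup E _)
  -- the colouring of the blocks
  haveI : Nontrivial (D i0) := Submodule.nontrivial_iff_ne_bot.2 (hDne i0)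
  obtain ⟨a₀, ha₀, ha₀0⟩ := Submodule.exists_mem_ne_zero_of_ne_bot (hDne i0)
  haveI : Finite F := Finite.of_injective (fun c : F => c • a₀) fun c d h => smul_left_injective F ha₀0 h
  obtain ⟨f, hf⟩ : ∃ f : Fin t → F, ∀ g : G, (∀ i, f (π g i) = f i) → ∀ i, π g i = i := by
    haveI := Fintype.ofFinite F
    by_cases h5 : 5 ≤ Fintype.card F
    · obtain ⟨f, hf⟩ := exists_distinguishing (G := G) (Ω := Fin t) hsol hi01
      obtain ⟨e⟩ := Function.Embedding.nonempty_of_card_le (α := Fin 5) (β := F) (by simpa using h5)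
      exact ⟨fun i => e (f i), fun g hg => hf g fun i => e.injective (hg i)⟩
    · have hc3 : Fintype.card F = 3 := by
        have h1 := Fintype.one_lt_card (α := F)
        have h0 := FiniteField.cast_card_eq_zero F
        rcases (show Fintype.card F = 2 ∨ Fintype.card F = 3 ∨ Fintype.card F = 4 by omega) with h | h | h
        · rw [h] at h0; exact absurd (by simpa using h0) h2
        · exact h
        · rw [h] at h0
          exact absurd (mul_self_eq_zero.1 (show (2 : F) * 2 = 0 by push_cast at h0; linear_combination h0)) h2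
      have h3G : ¬ 3 ∣ Nat.card G := by
        rintro ⟨c, hc⟩
        refine hcop ?_
        rw [hc, Nat.cast_mul, ← hc3, FiniteField.cast_card_eq_zero, zero_mul]
      obtain ⟨f, hf⟩ := three_of_coatom hsol h3G hcoatom
      let e : G ⧸ K → Fin t := MulAction.ofQuotientStabilizer G i0
      have he : Function.Bijective e := ⟨MulAction.injective_ofQuotientStabilizer G i0,
        fun i => ⟨(r i : G ⧸ K), hr i⟩⟩
      let E := Equiv.ofBijective e he
      have hE : ∀ (g : G) x, E (g • x) = π g (E x) := fun g x => MulAction.ofQuotientStabilizer_smul G i0 g x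
      let e3 : Fin 3 ≃ F := (Fintype.equivFinOfCardEq hc3).symm
      refine ⟨fun i => e3 (f (E.symm i)), fun g hg i => ?_⟩
      have h4 := hf g fun x => by
        have := e3.injective (hg (E x))
        simpa [← hE] using this
      obtain ⟨x, rfl⟩ := E.surjective i
      rw [← hE, h4]
  -- the pairs of vectors
  have hKD : ∀ k ∈ K, ∀ x ∈ D i0, ρ k x ∈ D i0 := fun k hk x hx => by
    have h3 := hmem k i0 x hx
    rwa [show π k i0 = i0 from hk] at h3
  have hDtop : D i0 ≠ ⊤ := fun h => by
    have hd := (hind.pairwiseDisjoint hi01).eq_bot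
    rw [h, top_inf_eq] at hd
    exact hDne _ hd
  obtain ⟨a, b, ha, hb, ha0, hab⟩ := two_restrict hbelow hsol hcop K (D i0) hDtop hKD
  specialize ha0 (hDne i0)
  have hq : ∀ k ∈ K, ∀ c d : F, ρ k a = a → ρ k (b + c • a) = b + d • a → c = d ∧ ∀ x ∈ D i0, ρ k x = x := by
    intro k hk c d h1 h3
    have h4 : ρ k b = b + (d - c) • a := by
      rw [map_add, map_smul, h1, ← eq_sub_iff_add_eq] at h3
      rw [h3, sub_smul]; abel
    have hn : ∀ n : ℕ, ρ (k ^ n) b = b + ((n : F) * (d - c)) • a := by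
      intro n
      induction n with
      | zero => simp
      | succ n ih => rw [pow_succ', map_mul, Module.End.mul_apply, ih, map_add, map_smul, h1, h4, add_assoc,
          ← add_smul]; congr 2; push_cast; ring
    have h5 := hn (Nat.card G)
    rw [pow_card_eq_one', map_one, Module.End.one_apply, left_eq_add, smul_eq_zero] at h5
    have h6 := (mul_eq_zero.1 (h5.resolve_right ha0)).resolve_left hcop
    refine ⟨(sub_eq_zero.1 h6).symm, hab k hk h1 ?_⟩
    rw [h4, h6, zero_smul, add_zero]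
  have hrD : ∀ i, ∀ x ∈ D i0, ρ (r i) x ∈ D i := fun i x hx => by
    have h3 := hmem (r i) i0 x hx
    rwa [hr] at h3
  have hsep : ∀ c : Fin t → V, (∀ i, c i ∈ D i) → ∑ i, c i = 0 → ∀ i, c i = 0 := fun c hc h i =>
    ((iSupIndep_iff_finset_sum_eq_zero_imp_eq_zero D).1 hind Finset.univ c (fun j _ => hc j) h) i
      (Finset.mem_univ i)
  refine ⟨∑ i, ρ (r i) a, ∑ i, ρ (r i) (b + f i • a), fun g hga hgb => ?_⟩
  have hcomp : ∀ q : Fin t → V, (∀ i, q i ∈ D i0) → ρ g (∑ i, ρ (r i) (q i)) = ∑ i, ρ (r i) (q i) →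
      ∀ i, ρ ((r (π g i))⁻¹ * g * r i) (q i) = q (π g i) := by
    intro q hq' hfix i
    let e : Fin t ≃ Fin t := MulAction.toPerm g
    have hs : ∑ j, (ρ g (ρ (r (e.symm j)) (q (e.symm j))) - ρ (r j) (q j)) = 0 := by
      rw [Finset.sum_sub_distrib, sub_eq_zero]
      refine Eq.trans ?_ hfix
      rw [map_sum]
      exact e.symm.sum_comp fun j => ρ g (ρ (r j) (q j))
    have h3 := hsep _ (fun j => ?_) hs (e i)
    · rw [sub_eq_zero, e.symm_apply_apply] at h3
      simp only [map_mul, Module.End.mul_apply]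
      rw [h3]
      exact inv_apply_cancel ρ _ _
    · refine Submodule.sub_mem _ ?_ (hrD j _ (hq' j))
      have hej : π g (e.symm j) = j := e.apply_symm_apply j
      have h5 := hmem g _ _ (hrD (e.symm j) _ (hq' (e.symm j)))
      rwa [hej] at h5
  have hA := hcomp (fun _ => a) (fun _ => ha) hga
  have hB := hcomp (fun i => b + f i • a) (fun i => (D i0).add_mem hb ((D i0).smul_mem _ ha)) hgb
  have hg := hf g fun i => ((hq _ (hki g i) _ _ (hA i) (hB i)).1).symm
  refine hρ ((LinearMap.ext fun u => ?_).trans (map_one ρ).symm)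
  rw [Module.End.one_apply]
  have hu : u ∈ ⨆ i, D i := htop ▸ Submodule.mem_top
  refine Submodule.iSup_induction D (motive := fun u => ρ g u = u) hu ?_ (map_zero _)
    (fun a b ha hb => by rw [map_add, ha, hb])
  intro i u hu
  obtain ⟨u', hu', rfl⟩ : ∃ u' ∈ D i0, ρ (r i) u' = u := by
    rw [← hr i, ← hπ] at hu
    exact Submodule.mem_map.1 hu
  have h5 := (hq _ (hki g i) _ _ (hA i) (hB i)).2 u' hu'
  simp only [hg i, map_mul, Module.End.mul_apply] at h5
  have h6 := congrArg (ρ (r i)) h5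
  rwa [apply_inv_cancel] at h6

/-- Two vectors with trivial common stabiliser in every dimension. -/
theorem two_all (h2 : (2 : F) ≠ 0) : ∀ n, Below.{u, v} F n := by
  intro n
  induction n using Nat.strong_induction_on with
  | _ n ih =>
  intro V _ _ _ _ G _ _ ρ hn hρ hsol hcop
  have hbelow := ih _ hn
  by_cases hirr : Irred ρ
  swap
  · exact two_of_reducible hρ hirr hbelow hsol hcop
  rcases subsingleton_or_nontrivial V with hV | hV
  · exact ⟨0, 0, fun g _ _ => hρ (LinearMap.ext fun x => Subsingleton.elim _ _)⟩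
  by_cases hprim : NoDecomp ρ
  · exact two_primitive hρ hirr hprim hsol h2 hcop hbelow (tiny_holds h2)
  · exact two_of_imprimitive hρ hirr hprim hbelow hsol hcop h2

end Cfsg.Agent.CopBase
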