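import Cfsg.Agent.Lib.CopBase.Main
import Cfsg.Agent.Lib.OddBase.Main
import Mathlib.Algebra.Module.ZMod

/-!
Two points with trivial common stabiliser for coprime soluble actions on groups of prime power order.
-/

set_option autoImplicit false
set_option linter.style.haveILetI false
set_option linter.unusedSectionVars false

namespace Cfsg.Agent.CopBase

open PrimSol

universe u v

variable {p : ℕ} [Fact p.Prime]

/-- Two vectors in a coprime module over a prime field, in any characteristic. -/
theorem two_zmod {V : Type v} [AddCommGroup V] [Module (ZMod p) V] [Finite V] {H : Type u} [Group H]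
    [Finite H] (ρ : H →* Module.End (ZMod p) V) (hρ : Function.Injective ρ) (hsol : Group.IsSolvable H)
    (hcop : ¬ p ∣ Nat.card H) : Two ρ := by
  classical
  haveI : FiniteDimensional (ZMod p) V := Module.Finite.of_finite
  have hc : (Nat.card H : ZMod p) ≠ 0 := fun h => hcop ((ZMod.natCast_eq_zero_iff _ _).1 h)
  by_cases hp2 : p = 2
  swap
  · have h2 : (2 : ZMod p) ≠ 0 := fun h => hp2 ((Nat.prime_dvd_prime_iff_eq Fact.out Nat.prime_two).1
      ((ZMod.natCast_eq_zero_iff 2 p).1 (by exact_mod_cast h)))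
    exact two_all h2 _ V H ρ (Nat.lt_succ_self _) hρ hsol hc
  subst hp2
  have hodd : Odd (Nat.card H) := Nat.not_even_iff_odd.1 fun h => hcop (even_iff_two_dvd.1 h)
  letI : DistribMulAction H V :=
    { smul := fun h v => ρ h v
      one_smul := fun v => by show ρ 1 v = v; rw [map_one, Module.End.one_apply]
      mul_smul := fun a b v => by show ρ (a * b) v = ρ a (ρ b v); rw [map_mul, Module.End.mul_apply]
      smul_zero := fun a => map_zero (ρ a)
      smul_add := fun a v w => map_add (ρ a) v w }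
  obtain ⟨v, -, w, -, h⟩ := OddBase.two_vectors (A := H) (V := V) hodd (fun U hU => by
    obtain ⟨W, hW, h1, h2⟩ := exists_compl (ρ := ρ) hc (AddSubgroup.toZModSubmodule 2 U)
      (fun g x hx => hU g x hx)
    refine ⟨W.toAddSubgroup, hW, ?_, ?_⟩
    · rw [eq_bot_iff]
      rintro x ⟨hx1, hx2⟩
      have : x ∈ AddSubgroup.toZModSubmodule 2 U ⊓ W := ⟨hx1, hx2⟩
      rw [h1] at this
      exact AddSubgroup.mem_bot.2 ((Submodule.mem_bot _).1 this)
    · rw [eq_top_iff]
      intro x _
      obtain ⟨a, ha, b, hb, rfl⟩ := Submodule.mem_sup.1 (h2 ▸ Submodule.mem_top :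
        x ∈ AddSubgroup.toZModSubmodule 2 U ⊔ W)
      exact AddSubgroup.mem_sup.2 ⟨a, ha, b, hb, rfl⟩) ⊤ (fun _ _ _ => AddSubgroup.mem_top _)
  exact ⟨v, w, fun g hv hw => hρ ((LinearMap.ext fun x =>
    h g hv hw x (AddSubgroup.mem_top x)).trans (map_one ρ).symm)⟩

/-- Two points for a coprime action on an elementary abelian group. -/
theorem two_elementary {A : Type u} [Group A] [Finite A] (hsol : Group.IsSolvable A) (hcop : ¬ p ∣ Nat.card A)
    {N : Type v} [CommGroup N] [Finite N] (hN : ∀ z : N, z ^ p = 1) (c : A → N →* N)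
    (hc1 : ∀ z, c 1 z = z) (hcm : ∀ a b z, c (a * b) z = c a (c b z)) :
    ∃ x y : N, ∀ a, c a x = x → c a y = y → ∀ z, c a z = z := by
  classical
  haveI : Module (ZMod p) (Additive N) := AddCommGroup.zmodModule fun w => by
    show Additive.ofMul (w.toMul ^ p) = 0
    rw [hN]; rfl
  let L : A → Module.End (ZMod p) (Additive N) := fun a => (MonoidHom.toAdditive (c a)).toZModLinearMap p
  have hL : ∀ (a : A) (w : Additive N), L a w = Additive.ofMul (c a w.toMul) := fun a w => rfl
  let ρ₀ : A →* Module.End (ZMod p) (Additive N) :=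
    { toFun := L
      map_one' := by
        refine LinearMap.ext fun w => ?_
        rw [Module.End.one_apply, hL, hc1, ofMul_toMul]
      map_mul' := fun a b => by
        refine LinearMap.ext fun w => ?_
        rw [Module.End.mul_apply, hL, hL, hL, hcm, toMul_ofMul] }
  let σu := ρ₀.toHomUnits
  let ρ : A ⧸ σu.ker →* Module.End (ZMod p) (Additive N) :=
    (Units.coeHom _).comp (QuotientGroup.kerLift σu)
  have hρ : Function.Injective ρ := fun a b h => QuotientGroup.kerLift_injective σu (Units.ext h)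
  have hρk : ∀ (a : A) (w : Additive N), ρ (a : A ⧸ σu.ker) w = Additive.ofMul (c a w.toMul) := fun a w => rfl
  haveI := hsol
  obtain ⟨x, y, h⟩ := two_zmod ρ hρ inferInstance fun h => hcop (h.trans (Subgroup.card_quotient_dvd_card _))
  refine ⟨x.toMul, y.toMul, fun a hx hy z => ?_⟩
  have h1 := h (a : A ⧸ σu.ker) (by rw [hρk, hx]; rfl) (by rw [hρk, hy]; rfl)
  have := congrArg (fun k => ρ k (Additive.ofMul z)) h1
  simp only [map_one, Module.End.one_apply, hρk] at this
  exact Additive.ofMul.injective this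

/-- Two points whose common stabiliser acts trivially, for a coprime action on a group of prime power order. -/
theorem two_pgroup {A : Type u} [Group A] [Finite A] (hsol : Group.IsSolvable A) (hcop : ¬ p ∣ Nat.card A) :
    ∀ (n : ℕ) (P : Type v) [Group P] [Finite P], Nat.card P = n → IsPGroup p P →
      ∀ c : A → P →* P, (∀ z, c 1 z = z) → (∀ a b z, c (a * b) z = c a (c b z)) →
        ∃ x y : P, ∀ a, c a x = x → c a y = y → ∀ z, c a z = z := by
  intro n
  induction n using Nat.strong_induction_on with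
  | _ n ih =>
  intro P _ _ hn hP c hc1 hcm
  classical
  rcases subsingleton_or_nontrivial P with hs | hs
  · exact ⟨1, 1, fun a _ _ z => Subsingleton.elim _ _⟩
  have hcbij : ∀ a z, c a (c a⁻¹ z) = z := fun a z => by rw [← hcm, mul_inv_cancel, hc1]
  -- central elements of exponent p
  let N : Subgroup P :=
    { carrier := {z | (∀ y, y * z = z * y) ∧ z ^ p = 1}
      one_mem' := ⟨fun y => by rw [one_mul, mul_one], one_pow p⟩
      mul_mem' := fun {a b} ha hb => ⟨fun y => by rw [← mul_assoc, ha.1, mul_assoc, hb.1, mul_assoc],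
        by rw [Commute.mul_pow (ha.1 b).symm, ha.2, hb.2, one_mul]⟩
      inv_mem' := fun {a} ha => ⟨fun y => by
        rw [eq_inv_mul_iff_mul_eq, ← mul_assoc, ← ha.1, mul_inv_cancel_right], by rw [inv_pow, ha.2, inv_one]⟩ }
  have hNn : N.Normal := ⟨fun z hz y => by
    rw [hz.1, mul_inv_cancel_right]; exact hz⟩
  have hNinv : ∀ a, ∀ z ∈ N, c a z ∈ N := fun a z hz => ⟨fun y => by
    rw [← hcbij a y, ← map_mul, hz.1, map_mul], by rw [← map_pow, hz.2, map_one]⟩
  have hN1 : N ≠ ⊥ := by
    haveI : Nontrivial (Subgroup.center P) := hP.center_nontrivial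
    have hpd : p ∣ Nat.card (Subgroup.center P) := by
      obtain ⟨m, hm⟩ := IsPGroup.iff_card.1 (hP.to_subgroup (Subgroup.center P))
      rcases m with _ | m
      · have := Finite.one_lt_card (α := Subgroup.center P)
        rw [hm, pow_zero] at this; omega
      · rw [hm]; exact dvd_pow_self p (Nat.succ_ne_zero m)
    obtain ⟨z, hz⟩ := exists_prime_orderOf_dvd_card' p hpd
    intro h
    have hzN : (z : P) ∈ N := ⟨fun y => Subgroup.mem_center_iff.1 z.2 y, by
      rw [← hz, ← SubmonoidClass.coe_pow, pow_orderOf_eq_one]; rfl⟩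
    rw [h, Subgroup.mem_bot] at hzN
    rw [show z = 1 from Subtype.ext hzN, orderOf_one] at hz
    exact (Fact.out : p.Prime).ne_one hz.symm
  -- the quotient
  let cq : A → (P ⧸ N →* P ⧸ N) := fun a => QuotientGroup.map _ _ (c a) fun z hz => hNinv a z hz
  have hcq : ∀ a (z : P), cq a (z : P ⧸ N) = ((c a z : P) : P ⧸ N) := fun a z => rfl
  have hlt : Nat.card (P ⧸ N) < n := by
    rw [← hn, Subgroup.card_eq_card_quotient_mul_card_subgroup N]
    exact lt_mul_of_one_lt_right Nat.card_pos (N.one_lt_card_iff_ne_bot.2 hN1)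
  obtain ⟨xq, yq, hq⟩ := ih _ hlt (P ⧸ N) rfl (hP.to_quotient N) cq
    (fun z => by obtain ⟨z, rfl⟩ := QuotientGroup.mk_surjective z; rw [hcq, hc1])
    (fun a b z => by obtain ⟨z, rfl⟩ := QuotientGroup.mk_surjective z; rw [hcq, hcq, hcq, hcm])
  -- the elementary group
  letI : CommGroup N :=
    { (inferInstance : Group N) with mul_comm := fun a b => Subtype.ext (b.2.1 a) }
  let cN : A → (N →* N) := fun a => ((c a).comp N.subtype).codRestrict N fun z => hNinv a z z.2
  obtain ⟨u, v, huv⟩ := two_elementary (p := p) hsol hcop (N := N) (fun z => Subtype.ext (by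
    rw [SubmonoidClass.coe_pow, z.2.2]; rfl)) cN (fun z => Subtype.ext (hc1 _))
    (fun a b z => Subtype.ext (hcm a b _))
  -- fixed representatives
  have hlift : ∀ q : P ⧸ N, ∃ x : P, (x : P ⧸ N) = q ∧ ∀ a, cq a q = q → c a x = x := by
    intro q
    obtain ⟨x, rfl⟩ := QuotientGroup.mk_surjective q
    let B : Subgroup A :=
      { carrier := {a | cq a (x : P ⧸ N) = x}
        one_mem' := by show cq 1 _ = _; rw [hcq, hc1]
        mul_mem' := fun {a b} ha hb => by
          show cq (a * b) (x : P ⧸ N) = x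
          have : cq (a * b) (x : P ⧸ N) = cq a (cq b x) := by rw [hcq, hcq, hcq, hcm]
          rw [this, show cq b (x : P ⧸ N) = x from hb]
          exact ha
        inv_mem' := fun {a} ha => by
          show cq a⁻¹ (x : P ⧸ N) = x
          conv_lhs => rw [← show cq a (x : P ⧸ N) = x from ha]
          rw [hcq, hcq, ← hcm, inv_mul_cancel, hc1] }
    haveI := Fintype.ofFinite B
    let d : B → N := fun b => ⟨x⁻¹ * c b x, QuotientGroup.eq.1 (show (x : P ⧸ N) = ((c b x : P) : P ⧸ N) from
      (b.2 : cq b (x : P ⧸ N) = x).symm)⟩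
    have hd : ∀ a b : B, d (a * b) = d a * cN a (d b) := fun a b => Subtype.ext (by
      show x⁻¹ * c ((a : A) * b) x = x⁻¹ * c a x * c a (x⁻¹ * c b x)
      rw [hcm, map_mul, map_inv]; group)
    set s := ∏ b : B, d b with hs
    have hca : ∀ a : B, cN a s = s * (d a)⁻¹ ^ Nat.card B := fun a => by
      have h1 : s = d a ^ Nat.card B * cN a s := by
        conv_lhs => rw [hs, ← Equiv.prod_comp (Equiv.mulLeft a)]
        simp only [Equiv.coe_mulLeft, hd, Finset.prod_mul_distrib, Finset.prod_const, Finset.card_univ,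
          ← Nat.card_eq_fintype_card, map_prod, hs]
      rw [inv_pow, eq_mul_inv_iff_mul_eq, mul_comm]
      exact h1.symm
    obtain ⟨j, hj⟩ : ∃ j, Nat.card B * j ≡ 1 [MOD p] := by
      have hnz : ((Nat.card B : ℕ) : ZMod p) ≠ 0 := fun h => hcop
        (((ZMod.natCast_eq_zero_iff _ _).1 h).trans (Subgroup.card_subgroup_dvd_card B))
      refine ⟨((Nat.card B : ZMod p)⁻¹).val, (ZMod.natCast_eq_natCast_iff _ _ _).1 ?_⟩
      rw [Nat.cast_mul, ZMod.natCast_zmod_val, Nat.cast_one, mul_inv_cancel₀ hnz]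
    refine ⟨x * (s ^ j : N), ?_, fun a ha => ?_⟩
    · rw [QuotientGroup.mk_mul, (QuotientGroup.eq_one_iff _).2 (s ^ j : N).2, mul_one]
    · let a' : B := ⟨a, ha⟩
      have h1 : c a x = x * (d a' : P) := by simp [d, a']
      have h2 : d a' * cN a (s ^ j) = s ^ j := by
        rw [map_pow, show cN a s = cN (a' : A) s from rfl, hca, mul_pow, ← pow_mul, inv_pow]
        have h3 : d a' ^ (Nat.card B * j) = d a' := by
          conv_rhs => rw [← pow_one (d a')]
          exact pow_eq_pow_of_modEq hj (Subtype.ext (by rw [SubmonoidClass.coe_pow, (d a').2.2]; rfl))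
        rw [h3, mul_comm, mul_assoc, inv_mul_cancel, mul_one]
      rw [map_mul, h1, mul_assoc]
      exact congrArg (x * ·) (congrArg Subtype.val h2)
  obtain ⟨x₀, hx₀, hxf⟩ := hlift xq
  obtain ⟨y₀, hy₀, hyf⟩ := hlift yq
  refine ⟨x₀ * u, y₀ * v, fun a hax hay => ?_⟩
  have split : ∀ (q : P ⧸ N) (w : P) (z : N), (w : P ⧸ N) = q → (∀ a, cq a q = q → c a w = w) →
      c a (w * z) = w * z → cq a q = q ∧ cN a z = z := by
    intro q w z hw hf h
    have h1 : cq a q = q := by
      rw [← hw, ← show ((w * z : P) : P ⧸ N) = (w : P ⧸ N) by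
        rw [QuotientGroup.mk_mul, (QuotientGroup.eq_one_iff _).2 z.2, mul_one], hcq, h]
    rw [map_mul, hf a h1] at h
    exact ⟨h1, Subtype.ext (mul_left_cancel h)⟩
  obtain ⟨a1, a2⟩ := split xq x₀ u hx₀ hxf hax
  obtain ⟨a3, a4⟩ := split yq y₀ v hy₀ hyf hay
  have hNfix := huv a a2 a4
  have hQfix := hq a a1 a3
  intro z
  have hdN : z⁻¹ * c a z ∈ N := QuotientGroup.eq.1 ((hQfix (z : P ⧸ N)).symm.trans (hcq a z))
  have hpow : ∀ k : ℕ, c (a ^ k) z = z * (z⁻¹ * c a z) ^ k := by
    intro k
    induction k with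
    | zero => rw [pow_zero, hc1, pow_zero, mul_one]
    | succ k ih =>
      rw [pow_succ', hcm, ih, map_mul, map_pow,
        show c a (z⁻¹ * c a z) = z⁻¹ * c a z from congrArg Subtype.val (hNfix ⟨_, hdN⟩), pow_succ', ← mul_assoc, mul_inv_cancel_left]
  have h1 := hpow (orderOf a)
  rw [pow_orderOf_eq_one, hc1, left_eq_mul] at h1
  have h2 : orderOf (z⁻¹ * c a z) ∣ p := orderOf_dvd_of_pow_eq_one hdN.2
  rcases (Nat.dvd_prime (Fact.out : p.Prime)).1 h2 with h3 | h3
  · rw [orderOf_eq_one_iff, inv_mul_eq_one] at h3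
    exact h3.symm
  · exact absurd ((h3 ▸ orderOf_dvd_of_pow_eq_one h1 : p ∣ orderOf a).trans (orderOf_dvd_natCard a)) hcop

end Cfsg.Agent.CopBase
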