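import Mathlib

/-!
A small set of vectors over the two-element field that no linear automorphism preserves.
-/

set_option autoImplicit false
set_option linter.style.haveILetI false

namespace Cfsg.Agent.CopBase

section
variable {k : ℕ}

/-- The unit vector of an index, zero beyond the dimension. -/
def uvec (k i : ℕ) : Fin k → ZMod 2 := fun j => if (j : ℕ) = i then 1 else 0

/-- Basis, path edges and one triple. -/
def chainSet (k : ℕ) : Set (Fin k → ZMod 2) :=
  {x | (∃ i, i < k ∧ x = uvec k i) ∨ (∃ i, i + 1 < k ∧ x = uvec k i + uvec k (i + 1)) ∨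
    x = uvec k 0 + uvec k 2 + uvec k (k - 1)}

lemma uvec_apply (i : ℕ) (j : Fin k) : uvec k i j = if (j : ℕ) = i then 1 else 0 := rfl

lemma add_self_vec (x : Fin k → ZMod 2) : x + x = 0 := funext fun j => CharTwo.add_self_eq_zero _

/-- Support of a vector, as a finite set of natural numbers. -/
def supp (x : Fin k → ZMod 2) : Finset ℕ := (Finset.univ.filter fun j => x j ≠ 0).image (fun j : Fin k => (j : ℕ))

lemma mem_supp {x : Fin k → ZMod 2} {n : ℕ} : n ∈ supp x ↔ ∃ h : n < k, x ⟨n, h⟩ ≠ 0 := by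
  simp only [supp, Finset.mem_image, Finset.mem_filter, Finset.mem_univ, true_and]
  constructor
  · rintro ⟨j, hj, rfl⟩; exact ⟨j.isLt, hj⟩
  · rintro ⟨h, hx⟩; exact ⟨⟨n, h⟩, hx, rfl⟩

lemma supp_add (x y : Fin k → ZMod 2) : supp (x + y) = symmDiff (supp x) (supp y) := by
  ext n
  simp only [Finset.mem_symmDiff, mem_supp, Pi.add_apply]
  by_cases h : n < k
  · simp only [h, exists_true_left]
    generalize x ⟨n, h⟩ = a
    generalize y ⟨n, h⟩ = b
    revert a b
    decide
  · simp [h]

lemma supp_uvec {i : ℕ} (hi : i < k) : supp (uvec k i) = {i} := by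
  ext n
  simp only [mem_supp, uvec_apply, Finset.mem_singleton]
  constructor
  · rintro ⟨h, hne⟩
    by_contra hni
    simp [hni] at hne
  · rintro rfl; exact ⟨hi, by simp⟩

lemma supp_injective : Function.Injective (supp (k := k)) := by
  intro x y h
  funext j
  have hj : (j : ℕ) ∈ supp x ↔ (j : ℕ) ∈ supp y := by rw [h]
  simp only [mem_supp, Fin.eta, j.isLt, exists_true_left] at hj
  revert hj
  generalize x j = a
  generalize y j = b
  revert a b
  decide

/-- A member of the chain lying on two lines of the set. -/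
def Inner (T : Set (Fin k → ZMod 2)) (x : Fin k → ZMod 2) : Prop :=
  x ∈ T ∧ ∃ a ∈ T, ∃ b ∈ T, x + a ∈ T ∧ x + b ∈ T ∧ a ≠ b ∧ x + a ≠ b

/-- A member lying on no line of the set. -/
def Lonely (T : Set (Fin k → ZMod 2)) (x : Fin k → ZMod 2) : Prop :=
  x ∈ T ∧ ∀ a ∈ T, x + a ∉ T

variable (hk : 6 ≤ k)
include hk

omit hk in
lemma two_uvec {i j : ℕ} (hi : i < k) (hj : j < k) (hij : i ≠ j) :
    supp (uvec k i + uvec k j) = {i, j} := by
  rw [supp_add, supp_uvec hi, supp_uvec hj]
  ext n
  simp only [Finset.mem_symmDiff, Finset.mem_singleton, Finset.mem_insert]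
  omega

lemma supp_triple : supp (uvec k 0 + uvec k 2 + uvec k (k - 1)) = {0, 2, k - 1} := by
  rw [supp_add, two_uvec (by omega) (by omega) (by omega), supp_uvec (by omega)]
  ext n
  simp only [Finset.mem_symmDiff, Finset.mem_singleton, Finset.mem_insert]
  omega

/-- Membership through the support. -/
lemma mem_chain {x : Fin k → ZMod 2} (hx : x ∈ chainSet k) :
    (∃ i, i < k ∧ x = uvec k i ∧ supp x = {i}) ∨
      (∃ i, i + 1 < k ∧ x = uvec k i + uvec k (i + 1) ∧ supp x = {i, i + 1}) ∨
      (x = uvec k 0 + uvec k 2 + uvec k (k - 1) ∧ supp x = {0, 2, k - 1}) := by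
  rcases hx with ⟨i, hi, rfl⟩ | ⟨i, hi, rfl⟩ | rfl
  · exact Or.inl ⟨i, hi, rfl, supp_uvec hi⟩
  · exact Or.inr (Or.inl ⟨i, hi, rfl, two_uvec (by omega) hi (by omega)⟩)
  · exact Or.inr (Or.inr ⟨rfl, supp_triple hk⟩)

/-- The lines inside the set: consecutive unit vectors with their sum. -/
lemma line_cases {x a : Fin k → ZMod 2} (hx : x ∈ chainSet k) (ha : a ∈ chainSet k)
    (hxa : x + a ∈ chainSet k) :
    (∃ i, i + 1 < k ∧ ((x = uvec k i ∧ a = uvec k (i + 1)) ∨ (x = uvec k (i + 1) ∧ a = uvec k i) ∨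
      (x = uvec k i ∧ a = uvec k i + uvec k (i + 1)) ∨ (x = uvec k (i + 1) ∧ a = uvec k i + uvec k (i + 1)) ∨
      (x = uvec k i + uvec k (i + 1) ∧ (a = uvec k i ∨ a = uvec k (i + 1))))) := by
  have hs := supp_add x a
  rcases mem_chain hk hxa with ⟨l, hl, -, hsl⟩ | ⟨l, hl, -, hsl⟩ | ⟨-, hsl⟩ <;>
    rw [hsl] at hs <;>
    rcases mem_chain hk hx with ⟨i, hi, hxe, hsx⟩ | ⟨i, hi, hxe, hsx⟩ | ⟨hxe, hsx⟩ <;>
    rw [hsx] at hs <;>
    rcases mem_chain hk ha with ⟨j, hj, hae, hsy⟩ | ⟨j, hj, hae, hsy⟩ | ⟨hae, hsy⟩ <;>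
    rw [hsy] at hs <;>
    simp only [Finset.ext_iff, Finset.mem_symmDiff, Finset.mem_singleton, Finset.mem_insert] at hs
  all_goals
    have t0 := hs 0
    have t2 := hs 2
    have t9 := hs (k - 1)
    first
      | (have t1 := hs i; have t3 := hs (i + 1); have t4 := hs j; have t5 := hs (j + 1); have t6 := hs l
         have t7 := hs (l + 1)
         first
           | (exfalso; omega)
           | (rcases (show j = i + 1 ∨ i = j + 1 by omega) with rfl | rfl
              · exact ⟨i, by omega, Or.inl ⟨hxe, hae⟩⟩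
              · exact ⟨j, by omega, Or.inr (Or.inl ⟨hxe, hae⟩)⟩)
           | (rcases (show i = j ∨ i = j + 1 by omega) with rfl | rfl
              · exact ⟨i, by omega, Or.inr (Or.inr (Or.inl ⟨hxe, hae⟩))⟩
              · exact ⟨j, by omega, Or.inr (Or.inr (Or.inr (Or.inl ⟨hxe, hae⟩)))⟩)
           | (rcases (show j = i ∨ j = i + 1 by omega) with rfl | rfl
              · exact ⟨j, by omega, Or.inr (Or.inr (Or.inr (Or.inr ⟨hxe, Or.inl hae⟩)))⟩
              · exact ⟨i, by omega, Or.inr (Or.inr (Or.inr (Or.inr ⟨hxe, Or.inr hae⟩)))⟩))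
      | (have t1 := hs i; have t3 := hs (i + 1); have t4 := hs j; have t5 := hs (j + 1); exfalso; omega)
      | (have t1 := hs i; have t3 := hs (i + 1); have t6 := hs l; have t7 := hs (l + 1); exfalso; omega)
      | (have t4 := hs j; have t5 := hs (j + 1); have t6 := hs l; have t7 := hs (l + 1); exfalso; omega)
      | (have t1 := hs i; have t3 := hs (i + 1); exfalso; omega)
      | (have t4 := hs j; have t5 := hs (j + 1); exfalso; omega)
      | (have t6 := hs l; have t7 := hs (l + 1); exfalso; omega)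
      | (exfalso; omega)

lemma lonely_iff {x : Fin k → ZMod 2} :
    Lonely (chainSet k) x ↔ x = uvec k 0 + uvec k 2 + uvec k (k - 1) := by
  constructor
  · rintro ⟨hx, hne⟩
    have add_mid : ∀ i, uvec k i + (uvec k i + uvec k (i + 1)) = uvec k (i + 1) := fun i => by
      rw [← add_assoc, add_self_vec, zero_add]
    rcases mem_chain hk hx with ⟨i, hi, rfl, -⟩ | ⟨i, hi, rfl, -⟩ | ⟨h, -⟩
    · exfalso
      by_cases h : i + 1 < k
      · exact hne (uvec k (i + 1)) (Or.inl ⟨_, h, rfl⟩) (Or.inr (Or.inl ⟨i, h, rfl⟩))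
      · obtain ⟨j, rfl⟩ : ∃ j, i = j + 1 := ⟨i - 1, by omega⟩
        exact hne (uvec k j) (Or.inl ⟨j, by omega, rfl⟩) (Or.inr (Or.inl ⟨j, by omega, add_comm _ _⟩))
    · exfalso
      exact hne (uvec k i) (Or.inl ⟨_, by omega, rfl⟩)
        (Or.inl ⟨i + 1, hi, by rw [add_comm, add_mid]⟩)
    · exact h
  · rintro rfl
    refine ⟨Or.inr (Or.inr rfl), fun a ha h => ?_⟩
    obtain ⟨i, hi, h⟩ := line_cases hk (Or.inr (Or.inr rfl)) ha h
    have hz := supp_triple hk
    have h0 : (0 : ℕ) ∈ ({0, 2, k - 1} : Finset ℕ) := by simp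
    have h2 : (2 : ℕ) ∈ ({0, 2, k - 1} : Finset ℕ) := by simp
    rw [← hz] at h0 h2
    rcases h with ⟨h, -⟩ | ⟨h, -⟩ | ⟨h, -⟩ | ⟨h, -⟩ | ⟨h, -⟩ <;> rw [h] at h0 h2 hz
    all_goals first
      | (rw [supp_uvec (by omega)] at h0 h2; simp at h0 h2 <;> omega)
      | (rw [two_uvec (by omega) hi (by omega)] at h0 h2; simp at h0 h2 <;> omega)

lemma inner_iff {x : Fin k → ZMod 2} :
    Inner (chainSet k) x ↔ ∃ i, 0 < i ∧ i + 1 < k ∧ x = uvec k i := by
  constructor
  · rintro ⟨hx, a, ha, b, hb, hxa, hxb, hab, hxab⟩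
    obtain ⟨i, hi, hA⟩ := line_cases hk hx ha hxa
    obtain ⟨j, hj, hB⟩ := line_cases hk hx hb hxb
    have hu : ∀ p q, p < k → q < k → uvec k p = uvec k q → p = q := fun p q hp hq h => by
      have := congrArg supp h
      rw [supp_uvec hp, supp_uvec hq] at this
      exact Finset.singleton_injective this
    have hmix : ∀ p q, p < k → q + 1 < k → uvec k p ≠ uvec k q + uvec k (q + 1) := fun p q hp hq h => by
      have := congrArg supp h
      rw [supp_uvec hp, two_uvec (by omega) hq (by omega)] at this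
      have h1 : q ∈ ({p} : Finset ℕ) := this ▸ by simp
      have h2 : q + 1 ∈ ({p} : Finset ℕ) := this ▸ by simp
      simp at h1 h2; omega
    have hpair : ∀ p q, p + 1 < k → q + 1 < k →
        uvec k p + uvec k (p + 1) = uvec k q + uvec k (q + 1) → p = q := fun p q hp hq h => by
      have := congrArg supp h
      rw [two_uvec (by omega) hp (by omega), two_uvec (by omega) hq (by omega)] at this
      have h1 : p ∈ ({q, q + 1} : Finset ℕ) := this ▸ by simp
      have h2 : p + 1 ∈ ({q, q + 1} : Finset ℕ) := this ▸ by simp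
      simp at h1 h2; omega
    -- identify the point of the second line
    by_cases hxu : ∃ p, p < k ∧ x = uvec k p
    · obtain ⟨p, hp, rfl⟩ := hxu
      by_cases hpm : 0 < p ∧ p + 1 < k
      · exact ⟨p, hpm.1, hpm.2, rfl⟩
      exfalso
      have key : ∀ l c, l + 1 < k →
          ((uvec k p = uvec k l ∧ c = uvec k (l + 1)) ∨ (uvec k p = uvec k (l + 1) ∧ c = uvec k l) ∨
            (uvec k p = uvec k l ∧ c = uvec k l + uvec k (l + 1)) ∨
            (uvec k p = uvec k (l + 1) ∧ c = uvec k l + uvec k (l + 1)) ∨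
            (uvec k p = uvec k l + uvec k (l + 1) ∧ (c = uvec k l ∨ c = uvec k (l + 1)))) →
          (p = 0 ∧ (c = uvec k 1 ∨ c = uvec k 0 + uvec k 1)) ∨
            (p = k - 1 ∧ (c = uvec k (k - 2) ∨ c = uvec k (k - 2) + uvec k (k - 1))) := by
        intro l c hl h
        rcases h with ⟨h, hc⟩ | ⟨h, hc⟩ | ⟨h, hc⟩ | ⟨h, hc⟩ | ⟨h, -⟩
        · have := hu _ _ hp (by omega) h
          obtain rfl : l = 0 := by omega
          exact Or.inl ⟨this, Or.inl hc⟩
        · have := hu _ _ hp hl h
          obtain rfl : l = k - 2 := by omega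
          exact Or.inr ⟨by omega, Or.inl hc⟩
        · have := hu _ _ hp (by omega) h
          obtain rfl : l = 0 := by omega
          exact Or.inl ⟨this, Or.inr hc⟩
        · have := hu _ _ hp hl h
          obtain rfl : l = k - 2 := by omega
          exact Or.inr ⟨by omega, Or.inr (by rw [hc, show k - 2 + 1 = k - 1 by omega])⟩
        · exact absurd h (hmix p l hp hl)
      rcases key i a hi hA with ⟨rfl, h1⟩ | ⟨rfl, h1⟩ <;> rcases key j b hj hB with ⟨hp', h2⟩ | ⟨hp', h2⟩ <;>
        first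
          | omega
          | (rcases h1 with h1 | h1 <;> rcases h2 with h2 | h2 <;> subst h1 <;> subst h2
             · exact hab rfl
             · exact hxab (by first | rfl | exact add_comm _ _)
             · exact hxab (by
                 funext j; simp only [Pi.add_apply]
                 first
                   | exact ((by decide : ∀ u v : ZMod 2, u + (u + v) = v ∧ u + (v + u) = v) _ _).1
                   | exact ((by decide : ∀ u v : ZMod 2, u + (u + v) = v ∧ u + (v + u) = v) _ _).2)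
             · exact hab rfl)
    · exfalso
      push Not at hxu
      rcases hA with ⟨h, -⟩ | ⟨h, -⟩ | ⟨h, -⟩ | ⟨h, -⟩ | ⟨h, h1⟩
      iterate 4 exact hxu _ (by omega) h
      rcases hB with ⟨h', -⟩ | ⟨h', -⟩ | ⟨h', -⟩ | ⟨h', -⟩ | ⟨h', h2⟩
      iterate 4 exact hxu _ (by omega) h'
      obtain rfl := hpair i j hi hj (h.symm.trans h')
      rcases h1 with h1 | h1 <;> rcases h2 with h2 | h2 <;> subst h1 <;> subst h2
      · exact hab rfl
      · exact hxab (by rw [h, add_comm (uvec k i) (uvec k (i + 1)), add_assoc, add_self_vec, add_zero])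
      · exact hxab (by rw [h, add_assoc, add_self_vec, add_zero])
      · exact hab rfl
  · rintro ⟨i, hi0, hi, rfl⟩
    obtain ⟨j, rfl⟩ : ∃ j, i = j + 1 := ⟨i - 1, by omega⟩
    refine ⟨Or.inl ⟨j + 1, by omega, rfl⟩, uvec k j, Or.inl ⟨j, by omega, rfl⟩, uvec k (j + 2),
      Or.inl ⟨j + 2, hi, rfl⟩, Or.inr (Or.inl ⟨j, by omega, add_comm _ _⟩),
      Or.inr (Or.inl ⟨j + 1, hi, rfl⟩), fun h => ?_, fun h => ?_⟩
    · have := congrArg supp h
      rw [supp_uvec (by omega), supp_uvec (by omega)] at this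
      have := Finset.singleton_injective this
      omega
    · have := congrArg supp h
      rw [two_uvec (by omega) (by omega) (by omega), supp_uvec (by omega)] at this
      have h1 : j ∈ ({j + 2} : Finset ℕ) := this ▸ by simp
      simp at h1

end

/-- The chain set is preserved by no automorphism but the identity. -/
theorem chain_rigid {k : ℕ} (hk : 6 ≤ k) (M : (Fin k → ZMod 2) →+ (Fin k → ZMod 2))
    (hM : Function.Injective M) (hT : ∀ x, M x ∈ chainSet k ↔ x ∈ chainSet k) : M = AddMonoidHom.id _ := by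
  classical
  have hsurj : Function.Surjective M := Finite.injective_iff_surjective.1 hM
  have hinner : ∀ x, Inner (chainSet k) x → Inner (chainSet k) (M x) := by
    rintro x ⟨hx, a, ha, b, hb, h1, h2, h3, h4⟩
    exact ⟨(hT x).2 hx, M a, (hT a).2 ha, M b, (hT b).2 hb, by rw [← map_add]; exact (hT _).2 h1,
      by rw [← map_add]; exact (hT _).2 h2, hM.ne h3, by rw [← map_add]; exact hM.ne h4⟩
  have hlonely : ∀ x, Lonely (chainSet k) x → Lonely (chainSet k) (M x) := by
    rintro x ⟨hx, h⟩
    refine ⟨(hT x).2 hx, fun a ha hc => ?_⟩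
    obtain ⟨b, rfl⟩ := hsurj a
    rw [← map_add] at hc
    exact h b ((hT b).1 ha) ((hT _).1 hc)
  set z := uvec k 0 + uvec k 2 + uvec k (k - 1) with hz
  have hMz : M z = z := (lonely_iff hk).1 (hlonely z ((lonely_iff hk).2 rfl))
  have hmid : ∀ i, 0 < i → i + 1 < k → ∃ j, 0 < j ∧ j + 1 < k ∧ M (uvec k i) = uvec k j := fun i h1 h2 =>
    (inner_iff hk).1 (hinner _ ((inner_iff hk).2 ⟨i, h1, h2, rfl⟩))
  choose π hπ0 hπk hπ using hmid
  have hadj : ∀ p q, p < k → q < k → p ≠ q → uvec k p + uvec k q ∈ chainSet k → q = p + 1 ∨ p = q + 1 := by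
    intro p q hp hq hpq h
    rcases mem_chain hk h with ⟨l, hl, -, hs⟩ | ⟨l, hl, -, hs⟩ | ⟨-, hs⟩ <;>
      rw [two_uvec hp hq hpq] at hs <;>
      simp only [Finset.ext_iff, Finset.mem_singleton, Finset.mem_insert] at hs
    · have := hs p; have := hs q; omega
    · have := hs p; have := hs q; have := hs l; have := hs (l + 1); omega
    · have := hs 0; have := hs 2; have := hs (k - 1); omega
  have hstep : ∀ i (h1 : 0 < i) (h2 : i + 2 < k),
      π (i + 1) (by omega) h2 = π i h1 (by omega) + 1 ∨ π i h1 (by omega) = π (i + 1) (by omega) h2 + 1 := by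
    intro i h1 h2
    have a := hπk i h1 (by omega)
    have b := hπk (i + 1) (by omega) h2
    refine hadj _ _ (by omega) (by omega) (fun h => ?_) ?_
    · have := hM ((hπ i h1 (by omega)).trans ((congrArg (uvec k) h).trans (hπ (i + 1) (by omega) h2).symm))
      have := congrArg supp this
      rw [supp_uvec (by omega), supp_uvec (by omega)] at this
      have := Finset.singleton_injective this
      omega
    · rw [← hπ, ← hπ, ← map_add]
      exact (hT _).2 (Or.inr (Or.inl ⟨i, by omega, rfl⟩))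
  have hπinj : ∀ i j (a : 0 < i) (b : i + 1 < k) (c : 0 < j) (d : j + 1 < k), π i a b = π j c d → i = j := by
    intro i j a b c d h
    have := hM ((hπ i a b).trans ((congrArg (uvec k) h).trans (hπ j c d).symm))
    have := congrArg supp this
    rw [supp_uvec (by omega), supp_uvec (by omega)] at this
    exact Finset.singleton_injective this
  set s := π 1 one_pos (by omega) with hs
  set t := π 2 two_pos (by omega) with ht
  have hpath : (t = s + 1 → ∀ i (a : 0 < i) (b : i + 1 < k), π i a b + 1 = s + i) ∧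
      (s = t + 1 → ∀ i (a : 0 < i) (b : i + 1 < k), π i a b + i = s + 1) := by
    constructor <;> intro hd <;> intro i <;> induction i using Nat.strong_induction_on with
    | _ i ih =>
      intro a b
      rcases (show i = 1 ∨ i = 2 ∨ 3 ≤ i by omega) with rfl | rfl | hi
      · omega
      · omega
      · obtain ⟨j, rfl⟩ : ∃ j, i = j + 2 := ⟨i - 2, by omega⟩
        have h1 := ih j (by omega) (by omega) (by omega)
        have h2 := ih (j + 1) (by omega) (by omega) (by omega)
        have h3 : π (j + 2) a b = π (j + 1) (by omega) (by omega) + 1 ∨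
            π (j + 1) (by omega) (by omega) = π (j + 2) a b + 1 := hstep (j + 1) (by omega) (by omega)
        have h4 : π (j + 2) a b ≠ π j (by omega) (by omega) := fun h => by
          have := hπinj _ _ _ _ _ _ h; omega
        omega
  have hπval : (∀ i (a : 0 < i) (b : i + 1 < k), π i a b = i) ∨
      ∀ i (a : 0 < i) (b : i + 1 < k), π i a b = k - 1 - i := by
    have hlast := hπk (k - 2) (by omega) (by omega)
    have hlast0 := hπ0 (k - 2) (by omega) (by omega)
    have hs0 := hπ0 1 one_pos (by omega)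
    have hsk := hπk 1 one_pos (by omega)
    rcases hstep 1 one_pos (by omega) with h | h
    · left; intro i a b
      have := hpath.1 h i a b; have := hpath.1 h (k - 2) (by omega) (by omega); omega
    · right; intro i a b
      have := hpath.2 h i a b; have := hpath.2 h (k - 2) (by omega) (by omega); omega
  -- the ends
  have hend : ∀ x y, x ∈ chainSet k → x + y ∈ chainSet k → y ∈ chainSet k →
      ∀ e, e < k → y = uvec k e → (0 < e ∧ e + 1 < k) → ¬ Inner (chainSet k) x →
      x = uvec k (e - 1) ∨ x = uvec k (e + 1) ∨ x = uvec k (e - 1) + uvec k e ∨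
        x = uvec k e + uvec k (e + 1) := by
    intro x y hx hxy hy e he hye hem hxi
    obtain ⟨i, hi, h⟩ := line_cases hk hy hx (by rwa [add_comm] at hxy)
    have hu : ∀ p, p < k → y = uvec k p → p = e := fun p hp hp' => by
      have := congrArg supp (hp'.symm.trans hye)
      rw [supp_uvec hp, supp_uvec he] at this
      exact Finset.singleton_injective this
    rcases h with ⟨h, h'⟩ | ⟨h, h'⟩ | ⟨h, h'⟩ | ⟨h, h'⟩ | ⟨h, -⟩
    · obtain rfl := hu _ (by omega) h; exact Or.inr (Or.inl h')
    · obtain rfl := hu _ hi h; exact Or.inl h'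
    · obtain rfl := hu _ (by omega) h; exact Or.inr (Or.inr (Or.inr h'))
    · obtain rfl := hu _ hi h; exact Or.inr (Or.inr (Or.inl h'))
    · exfalso
      have h' := congrArg supp (hye.symm.trans h)
      rw [supp_uvec he, two_uvec (by omega) hi (by omega)] at h'
      have h1 : i ∈ ({e} : Finset ℕ) := h' ▸ by simp
      have h2 : i + 1 ∈ ({e} : Finset ℕ) := h' ▸ by simp
      simp at h1 h2; omega
  have hout : ∀ i, i = 0 ∨ i = k - 1 → ¬ Inner (chainSet k) (M (uvec k i)) := by
    intro i hi hin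
    obtain ⟨j, hj0, hjk, hj⟩ := (inner_iff hk).1 hin
    have hex : ∃ l, ∃ (a : 0 < l) (b : l + 1 < k), π l a b = j := by
      rcases hπval with h | h
      · exact ⟨j, hj0, hjk, h j hj0 hjk⟩
      · exact ⟨k - 1 - j, by omega, by omega, by rw [h]; omega⟩
    obtain ⟨l, a, b, hl⟩ := hex
    have := hM (hj.trans ((congrArg (uvec k) hl).symm.trans (hπ l a b).symm))
    have := congrArg supp this
    rw [supp_uvec (by omega), supp_uvec (by omega)] at this
    have := Finset.singleton_injective this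
    omega
  have h1 := hπk 1 one_pos (by omega)
  have h1' := hπk (k - 2) (by omega) (by omega)
  have hfirst := hend (M (uvec k 0)) (M (uvec k 1)) ((hT _).2 (Or.inl ⟨0, by omega, rfl⟩))
    (by rw [← map_add]; exact (hT _).2 (Or.inr (Or.inl ⟨0, by omega, rfl⟩)))
    ((hT _).2 (Or.inl ⟨1, by omega, rfl⟩)) s (by omega) (hπ 1 _ _) ⟨hπ0 1 _ _, h1⟩ (hout 0 (Or.inl rfl))
  have hlast := hend (M (uvec k (k - 1))) (M (uvec k (k - 2))) ((hT _).2 (Or.inl ⟨k - 1, by omega, rfl⟩))
    (by rw [← map_add]; exact (hT _).2 (Or.inr (Or.inl ⟨k - 2, by omega, by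
      rw [show k - 2 + 1 = k - 1 by omega, add_comm]⟩)))
    ((hT _).2 (Or.inl ⟨k - 2, by omega, rfl⟩)) (π (k - 2) (by omega) (by omega)) (by omega) (hπ _ _ _)
    ⟨hπ0 (k - 2) _ _, h1'⟩ (hout (k - 1) (Or.inr rfl))
  -- the values at the two ends
  have hnot : ∀ e, (0 < e ∧ e + 1 < k) → ∀ i, i = 0 ∨ i = k - 1 → M (uvec k i) ≠ uvec k e := fun e he i hi h =>
    hout i hi ((inner_iff hk).2 ⟨e, he.1, he.2, h⟩)
  have hedge : ∀ a, (0 < a ∧ a + 2 < k) → ∀ i, i = 0 ∨ i = k - 1 →
      M (uvec k i) ≠ uvec k a + uvec k (a + 1) := by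
    intro a ha i hi h
    have hex : ∃ l l', ∃ (p : 0 < l) (q : l + 1 < k) (p' : 0 < l') (q' : l' + 1 < k),
        π l p q = a ∧ π l' p' q' = a + 1 := by
      rcases hπval with h' | h'
      · exact ⟨a, a + 1, ha.1, by omega, by omega, by omega, h' _ _ _, h' _ _ _⟩
      · exact ⟨k - 1 - a, k - 2 - a, by omega, by omega, by omega, by omega,
          by rw [h']; omega, by rw [h']; omega⟩
    obtain ⟨l, l', p, q, p', q', e, e'⟩ := hex
    have h3 := hM (h.trans (by rw [map_add, hπ l p q, hπ l' p' q', e, e'] :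
      uvec k a + uvec k (a + 1) = M (uvec k l + uvec k l')))
    have hll : l ≠ l' := fun h4 => by subst h4; omega
    have := congrArg supp h3
    rw [supp_uvec (by omega), two_uvec (by omega) (by omega) hll] at this
    have h5 : l ∈ ({i} : Finset ℕ) := this ▸ by simp
    have h6 : l' ∈ ({i} : Finset ℕ) := this ▸ by simp
    simp at h5 h6; omega
  suffices hall : ∀ i, i < k → M (uvec k i) = uvec k i by
    refine AddMonoidHom.ext fun x => ?_
    have hx : x = ∑ j : Fin k, (if x j = 0 then 0 else uvec k j) := by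
      funext j
      rw [Finset.sum_apply, Finset.sum_eq_single j]
      · rcases (by decide : ∀ c : ZMod 2, c = 0 ∨ c = 1) (x j) with h | h <;> simp [h, uvec_apply]
      · intro b _ hb
        have : (j : ℕ) ≠ b := fun h => hb (Fin.ext h.symm)
        by_cases h : x b = 0 <;> simp [h, uvec_apply, this]
      · simp
    rw [hx, map_sum, map_sum]
    refine Finset.sum_congr rfl fun j _ => ?_
    by_cases h : x j = 0
    · simp [h]
    · simp [h, hall j j.isLt]
  have hz' := hMz
  rw [hz, map_add, map_add, hπ 2 two_pos (by omega)] at hz'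
  have htval : ∀ (v : ℕ → ℕ), (∀ i a b, π i a b = v i) → s = v 1 ∧ π 2 two_pos (by omega) = v 2 ∧
      π (k - 2) (by omega) (by omega) = v (k - 2) := fun v h => ⟨h _ _ _, h _ _ _, h _ _ _⟩
  rcases hπval with h | h
  · obtain ⟨e1, e2, e3⟩ := htval _ h
    rw [e1] at hfirst
    rw [e3] at hlast
    rw [e2] at hz'
    have hfirst' : M (uvec k 0) = uvec k 0 ∨ M (uvec k 0) = uvec k 0 + uvec k 1 := by
      rcases hfirst with h0 | h0 | h0 | h0
      · exact Or.inl h0
      · exact absurd h0 (hnot 2 ⟨by omega, by omega⟩ 0 (Or.inl rfl))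
      · exact Or.inr h0
      · exact absurd h0 (hedge 1 ⟨by omega, by omega⟩ 0 (Or.inl rfl))
    have hlast' : M (uvec k (k - 1)) = uvec k (k - 1) ∨
        M (uvec k (k - 1)) = uvec k (k - 2) + uvec k (k - 1) := by
      rw [show k - 2 + 1 = k - 1 by omega] at hlast
      rcases hlast with h0 | h0 | h0 | h0
      · exact absurd h0 (hnot (k - 2 - 1) ⟨by omega, by omega⟩ _ (Or.inr rfl))
      · exact Or.inl h0
      · refine absurd ?_ (hedge (k - 3) ⟨by omega, by omega⟩ _ (Or.inr rfl))
        rw [h0, show k - 2 - 1 = k - 3 by omega, show k - 3 + 1 = k - 2 by omega]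
      · exact Or.inr h0
    have p1 := congrFun hz' ⟨1, by omega⟩
    have p2 := congrFun hz' ⟨k - 2, by omega⟩
    have q1 : k ≠ 3 := by omega
    rcases hfirst' with hA | hA <;> rcases hlast' with hB | hB <;> rw [hA, hB] at p1 p2 <;>
      simp only [Pi.add_apply, uvec_apply] at p1 p2
    · intro i hi
      rcases (show i = 0 ∨ i = k - 1 ∨ (0 < i ∧ i + 1 < k) by omega) with rfl | rfl | ⟨a, b⟩
      · exact hA
      · exact hB
      · rw [hπ i a b, h i a b]
    all_goals exfalso
    all_goals simp [show k - 2 ≠ 0 by omega, show k - 2 ≠ 1 by omega, show k - 2 ≠ 2 by omega,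
      show k - 2 ≠ k - 1 by omega, show (1 : ℕ) ≠ k - 1 by omega, show (1 : ℕ) ≠ k - 2 by omega] at p1 p2
  · obtain ⟨e1, e2, e3⟩ := htval _ h
    rw [e1, show k - 1 - 1 = k - 2 by omega] at hfirst
    rw [e3, show k - 1 - (k - 2) = 1 by omega] at hlast
    rw [e2, show k - 1 - 2 = k - 3 by omega] at hz'
    have hfirst' : M (uvec k 0) = uvec k (k - 1) ∨ M (uvec k 0) = uvec k (k - 2) + uvec k (k - 1) := by
      rw [show k - 2 + 1 = k - 1 by omega] at hfirst
      rcases hfirst with h0 | h0 | h0 | h0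
      · exact absurd h0 (hnot (k - 2 - 1) ⟨by omega, by omega⟩ _ (Or.inl rfl))
      · exact Or.inl h0
      · refine absurd ?_ (hedge (k - 3) ⟨by omega, by omega⟩ _ (Or.inl rfl))
        rw [h0, show k - 2 - 1 = k - 3 by omega, show k - 3 + 1 = k - 2 by omega]
      · exact Or.inr h0
    have hlast' : M (uvec k (k - 1)) = uvec k 0 ∨ M (uvec k (k - 1)) = uvec k 0 + uvec k 1 := by
      rcases hlast with h0 | h0 | h0 | h0
      · exact Or.inl h0
      · exact absurd h0 (hnot 2 ⟨by omega, by omega⟩ _ (Or.inr rfl))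
      · exact Or.inr h0
      · exact absurd h0 (hedge 1 ⟨by omega, by omega⟩ _ (Or.inr rfl))
    exfalso
    have p1 := congrFun hz' ⟨k - 3, by omega⟩
    rcases hfirst' with hA | hA <;> rcases hlast' with hB | hB <;> rw [hA, hB] at p1 <;>
      simp [uvec_apply, show k - 3 ≠ 0 by omega, show k - 3 ≠ 1 by omega, show k - 3 ≠ 2 by omega,
        show k - 3 ≠ k - 1 by omega, show k - 3 ≠ k - 2 by omega] at p1

end Cfsg.Agent.CopBase
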