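import Cfsg.Agent.Lib.CopBase.TinyBasic
import Cfsg.Agent.Lib.CopBase.RigidSet

/-!
Two vectors from a zero pattern when the quotient of the layer is not of dimension two, three or four.
-/

set_option autoImplicit false
set_option linter.style.haveILetI false
set_option linter.unusedSectionVars false

namespace Cfsg.Agent.CopBase

open PrimSol SolBase

universe u v

/-- A set from which every vector is a sum of three members or zeros generates. -/
lemma closure_eq_top_of_sums {k : ℕ} {S : Set (Multiplicative (Fin k → ZMod 2))}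
    (h : ∀ x, ∃ a b c, (a = 1 ∨ a ∈ S) ∧ (b = 1 ∨ b ∈ S) ∧ (c = 1 ∨ c ∈ S) ∧ x = a * b * c) :
    Subgroup.closure S = ⊤ := by
  rw [Subgroup.eq_top_iff']
  intro x
  obtain ⟨a, b, c, ha, hb, hc, rfl⟩ := h x
  have : ∀ t, (t = 1 ∨ t ∈ S) → t ∈ Subgroup.closure S := fun t ht =>
    ht.elim (fun e => e ▸ Subgroup.one_mem _) fun e => Subgroup.subset_closure e
  exact mul_mem (mul_mem (this a ha) (this b hb)) (this c hc)

/-- The five-dimensional zero set, as numbers. -/
def five : List ℕ := [1, 2, 3, 4, 5, 6, 8, 10, 13, 16, 22, 26]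

/-- Membership of the number. -/
def inFive (n : ℕ) : Bool := five.any (fun m => m == n)

/-- The number of a vector. -/
def code (x : Fin 5 → ZMod 2) : ℕ :=
  (x 0).val + 2 * (x 1).val + 4 * (x 2).val + 8 * (x 3).val + 16 * (x 4).val

/-- A candidate image of a basis vector keeps the pattern on the span reached so far. -/
def keeps (src dst : List ℕ) (e a : ℕ) : Bool :=
  (List.zip src dst).all fun p => (inFive (p.2 ^^^ a) == inFive (p.1 ^^^ e)) && (p.2 ^^^ a != 0)

/-- Extends the span. -/
def grow (src : List ℕ) (e : ℕ) : List ℕ := src ++ src.map (fun s => s ^^^ e)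

/-- The search for automorphisms. -/
def fiveCheck : Bool :=
  five.all fun a => !keeps [0] [0] 1 a || five.all fun b => !keeps [0, 1] [0, a] 2 b ||
    five.all fun c => !keeps (grow [0, 1] 2) (grow [0, a] b) 4 c ||
      five.all fun d => !keeps (grow (grow [0, 1] 2) 4) (grow (grow [0, a] b) c) 8 d ||
        five.all fun e =>
          !keeps (grow (grow (grow [0, 1] 2) 4) 8) (grow (grow (grow [0, a] b) c) d) 16 e ||
            (a == 1 && b == 2 && c == 4 && d == 8 && e == 16)

/-- Members of a good translate class. -/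
def fiveGood (f : ℕ) : Bool :=
  !inFive f && (List.range 32).all fun x => (List.range 32).any fun a => (List.range 32).any fun b =>
    (a == 0 || (!inFive a && !inFive (f ^^^ a))) && (b == 0 || (!inFive b && !inFive (f ^^^ b))) &&
      ((x ^^^ a ^^^ b) == 0 || (!inFive (x ^^^ a ^^^ b) && !inFive (f ^^^ (x ^^^ a ^^^ b))))

/-- The check of spreading. -/
def fiveSpread : Bool :=
  [1, 2, 4, 8, 16].all fun x => (List.range 32).any fun a => fiveGood a && ((x ^^^ a) == 0 || fiveGood (x ^^^ a))

lemma fiveCheck_eq : fiveCheck = true := by decide +kernel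

lemma fiveSpread_eq : fiveSpread = true := by decide +kernel

lemma code_add : ∀ x y : Fin 5 → ZMod 2, code (x + y) = code x ^^^ code y := by decide +kernel

lemma code_lt : ∀ x : Fin 5 → ZMod 2, code x < 32 := by decide +kernel

lemma code_surj : ∀ n < 32, ∃ x, code x = n := by decide +kernel

lemma code_inj : Function.Injective code := fun x y h => by
  have key : ∀ x : Fin 5 → ZMod 2, code x = 0 → x = 0 := by decide +kernel
  have h1 : code (x - y) = 0 := by rw [sub_eq_add_neg, show -y = y from funext fun _ => ZMod.neg_eq_self_mod_two _,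
    code_add, h, Nat.xor_self]
  exact sub_eq_zero.1 (key _ h1)

/-- The five-dimensional zero set. -/
def fiveSet : Set (Fin 5 → ZMod 2) := {x | inFive (code x) = true}

theorem five_rigid (M : (Fin 5 → ZMod 2) →+ (Fin 5 → ZMod 2)) (hM : Function.Injective M)
    (hT : ∀ x, M x ∈ fiveSet ↔ x ∈ fiveSet) : M = AddMonoidHom.id _ := by
  choose b hb using fun i : Fin 5 => code_surj (2 ^ (i : ℕ))
    (lt_of_lt_of_le (Nat.pow_lt_pow_right one_lt_two i.isLt) (by norm_num))
  have hmemfive : ∀ i, code (M (b i)) ∈ five := by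
    intro i
    have h0 : inFive (code (b i)) = true := by rw [hb]; revert i; decide
    have h1 : inFive (code (M (b i))) = true := (hT _).2 h0
    simp only [inFive, List.any_eq_true, beq_iff_eq] at h1
    obtain ⟨m, hm, rfl⟩ := h1
    exact hm
  have hM0 : code (M 0) = 0 := by rw [map_zero]; decide
  -- spans
  have hkeep : ∀ (L : List (Fin 5 → ZMod 2)) (i : Fin 5), (∀ s ∈ L, s + b i ≠ 0) →
      keeps (L.map code) (L.map fun s => code (M s)) (2 ^ (i : ℕ)) (code (M (b i))) = true := by
    intro L i hne
    simp only [keeps, List.all_eq_true, List.zip_map', List.mem_map]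
    rintro _ ⟨s, hs, rfl⟩
    have e1 : code (M (s + b i)) = code (M s) ^^^ code (M (b i)) := by rw [map_add, code_add]
    have e2 : code (s + b i) = code s ^^^ 2 ^ (i : ℕ) := by rw [code_add, hb]
    simp only [Bool.and_eq_true, beq_iff_eq, bne_iff_ne, ← e1, ← e2]
    refine ⟨Bool.eq_iff_iff.2 (hT _), fun h => hne s hs ?_⟩
    exact hM ((code_inj (h.trans hM0.symm)).trans rfl)
  have hgrow : ∀ (L : List (Fin 5 → ZMod 2)) (i : Fin 5),
      grow (L.map code) (2 ^ (i : ℕ)) = (L ++ L.map (· + b i)).map code ∧
      grow (L.map fun s => code (M s)) (code (M (b i))) = (L ++ L.map (· + b i)).map fun s => code (M s) := by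
    intro L i
    constructor
    · simp only [grow, List.map_append, List.map_map]
      congr 1
      exact List.map_congr_left fun s _ => by simp [code_add, hb]
    · simp only [grow, List.map_append, List.map_map]
      congr 1
      exact List.map_congr_left fun s _ => by simp [map_add, code_add]
  have hne : ∀ (x : Fin 5 → ZMod 2) (i : Fin 5), code x < 2 ^ (i : ℕ) → x + b i ≠ 0 := by
    intro x i h h0
    have := congrArg code h0
    rw [code_add, hb, show code 0 = 0 from rfl, Nat.xor_eq_zero_iff] at this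
    omega
  let L1 : List (Fin 5 → ZMod 2) := [0]
  let L2 := L1 ++ L1.map (· + b 0)
  let L3 := L2 ++ L2.map (· + b 1)
  let L4 := L3 ++ L3.map (· + b 2)
  let L5 := L4 ++ L4.map (· + b 3)
  have c1 : L1.map code = [0] := rfl
  have c2 : L2.map code = [0, 1] := ((hgrow L1 0).1).symm.trans (by rw [c1]; rfl)
  have c3 : L3.map code = grow [0, 1] 2 := by rw [← c2]; exact ((hgrow L2 1).1).symm
  have c4 : L4.map code = grow (grow [0, 1] 2) 4 := by rw [← c3]; exact ((hgrow L3 2).1).symm
  have c5 : L5.map code = grow (grow (grow [0, 1] 2) 4) 8 := by rw [← c4]; exact ((hgrow L4 3).1).symm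
  set a0 := code (M (b 0)) with ha0
  set a1 := code (M (b 1)) with ha1
  set a2 := code (M (b 2)) with ha2
  set a3 := code (M (b 3)) with ha3
  set a4 := code (M (b 4)) with ha4
  have d1 : (L1.map fun s => code (M s)) = [0] := by simp [L1, hM0, show code 0 = 0 from rfl]
  have d2 : (L2.map fun s => code (M s)) = [0, a0] :=
    ((hgrow L1 0).2).symm.trans (by rw [d1, ← ha0]; simp [grow])
  have d3 : (L3.map fun s => code (M s)) = grow [0, a0] a1 := by rw [← d2]; exact ((hgrow L2 1).2).symm
  have d4 : (L4.map fun s => code (M s)) = grow (grow [0, a0] a1) a2 := by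
    rw [← d3]; exact ((hgrow L3 2).2).symm
  have d5 : (L5.map fun s => code (M s)) = grow (grow (grow [0, a0] a1) a2) a3 := by
    rw [← d4]; exact ((hgrow L4 3).2).symm
  have bound : ∀ (L : List (Fin 5 → ZMod 2)) (n : ℕ) (l : List ℕ), L.map code = l → (∀ m ∈ l, m < n) →
      ∀ s ∈ L, code s < n := fun L n l hl hm s hs => hm _ (hl ▸ List.mem_map_of_mem hs)
  have k0 := hkeep L1 0 fun s hs => hne s 0 (bound L1 _ _ c1 (by decide) s hs)
  have k1 := hkeep L2 1 fun s hs => hne s 1 (bound L2 _ _ c2 (by decide) s hs)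
  have k2 := hkeep L3 2 fun s hs => hne s 2 (bound L3 _ _ c3 (by decide) s hs)
  have k3 := hkeep L4 3 fun s hs => hne s 3 (bound L4 _ _ c4 (by decide) s hs)
  have k4 := hkeep L5 4 fun s hs => hne s 4 (bound L5 _ _ c5 (by decide) s hs)
  rw [c1, d1] at k0
  rw [c2, d2] at k1
  rw [c3, d3] at k2
  rw [c4, d4] at k3
  rw [c5, d5] at k4
  have hc := fiveCheck_eq
  simp only [fiveCheck, List.all_eq_true, Bool.or_eq_true, Bool.not_eq_true'] at hc
  have r0 := (hc a0 (hmemfive 0)).resolve_left (fun h' => Bool.false_ne_true (h'.symm.trans k0))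
  have r1 := (r0 a1 (hmemfive 1)).resolve_left (fun h' => Bool.false_ne_true (h'.symm.trans k1))
  have r2 := (r1 a2 (hmemfive 2)).resolve_left (fun h' => Bool.false_ne_true (h'.symm.trans k2))
  have r3 := (r2 a3 (hmemfive 3)).resolve_left (fun h' => Bool.false_ne_true (h'.symm.trans k3))
  have r4 := (r3 a4 (hmemfive 4)).resolve_left (fun h' => Bool.false_ne_true (h'.symm.trans k4))
  simp only [Bool.and_eq_true, beq_iff_eq] at r4
  have hfix : ∀ i, M (b i) = b i := fun i => code_inj (by
    rw [hb]; fin_cases i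
    exacts [r4.1.1.1.1, r4.1.1.1.2, r4.1.1.2, r4.1.2, r4.2])
  refine AddMonoidHom.ext fun x => code_inj ?_
  have hbv : ∀ i, b i = Pi.single i 1 := fun i => code_inj (by rw [hb]; fin_cases i <;> rfl)
  have hx : x = ∑ i, if x i = 0 then 0 else b i := by
    funext j
    rw [Finset.sum_apply, Finset.sum_eq_single j]
    · rcases (by decide : ∀ c : ZMod 2, c = 0 ∨ c = 1) (x j) with h | h <;> simp [h, hbv]
    · intro i _ hij
      by_cases h : x i = 0 <;> simp [h, hbv, hij.symm]
    · simp
  rw [AddMonoidHom.id_apply]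
  congr 1
  rw [hx, map_sum]
  refine Finset.sum_congr rfl fun i _ => ?_
  by_cases h : x i = 0 <;> simp [h, hfix]

lemma five_spreads : Spreads {x : Multiplicative (Fin 5 → ZMod 2) | Multiplicative.toAdd x ∉ fiveSet} := by
  choose dec hdec using fun n : {n // n < 32} => code_surj n.1 n.2
  have hcode : ∀ x : Multiplicative (Fin 5 → ZMod 2), code (Multiplicative.toAdd x) < 32 := fun x => code_lt _
  have hmulc : ∀ x y : Multiplicative (Fin 5 → ZMod 2),
      code (Multiplicative.toAdd (x * y)) = code (Multiplicative.toAdd x) ^^^ code (Multiplicative.toAdd y) :=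
    fun x y => code_add _ _
  have hzero : ∀ x : Multiplicative (Fin 5 → ZMod 2), code (Multiplicative.toAdd x) = 0 → x = 1 := fun x h =>
    Multiplicative.toAdd.injective (code_inj (h.trans (rfl : (0 : ℕ) = code 0)))
  have hgood : ∀ f : Multiplicative (Fin 5 → ZMod 2), fiveGood (code (Multiplicative.toAdd f)) = true →
      f ∈ {f | f ∈ {x : Multiplicative (Fin 5 → ZMod 2) | Multiplicative.toAdd x ∉ fiveSet} ∧
        Subgroup.closure {h | h ∈ {x : Multiplicative (Fin 5 → ZMod 2) | Multiplicative.toAdd x ∉ fiveSet} ∧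
          f * h ∈ {x : Multiplicative (Fin 5 → ZMod 2) | Multiplicative.toAdd x ∉ fiveSet}} = ⊤} := by
    intro f hf
    simp only [fiveGood, Bool.and_eq_true, List.all_eq_true, List.any_eq_true, List.mem_range,
      Bool.or_eq_true, beq_iff_eq, Bool.not_eq_true'] at hf
    refine ⟨fun h => ?_, closure_eq_top_of_sums fun x => ?_⟩
    · rw [show inFive (code (Multiplicative.toAdd f)) = true from h] at hf
      exact absurd hf.1 (by simp)
    obtain ⟨a, ha32, b, hb32, ⟨ha, hb⟩, hc⟩ := hf.2 _ (hcode x)
    set a' := Multiplicative.ofAdd (dec ⟨a, ha32⟩) with ha'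
    set b' := Multiplicative.ofAdd (dec ⟨b, hb32⟩) with hb'
    have hca : code (Multiplicative.toAdd a') = a := hdec ⟨a, ha32⟩
    have hcb : code (Multiplicative.toAdd b') = b := hdec ⟨b, hb32⟩
    have hmem : ∀ t : Multiplicative (Fin 5 → ZMod 2), ∀ n, code (Multiplicative.toAdd t) = n →
        (n = 0 ∨ inFive n = false ∧ inFive (code (Multiplicative.toAdd f) ^^^ n) = false) →
        t = 1 ∨ t ∈ {h | h ∈ {x : Multiplicative (Fin 5 → ZMod 2) | Multiplicative.toAdd x ∉ fiveSet} ∧
          f * h ∈ {x : Multiplicative (Fin 5 → ZMod 2) | Multiplicative.toAdd x ∉ fiveSet}} := by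
      rintro t n rfl (h | ⟨h1, h2⟩)
      · exact Or.inl (hzero t h)
      · refine Or.inr ⟨fun h => ?_, fun h => ?_⟩
        · rw [show inFive (code (Multiplicative.toAdd t)) = true from h] at h1; simp at h1
        · have h' : inFive (code (Multiplicative.toAdd (f * t))) = true := h
          rw [hmulc, h2] at h'; simp at h'
    refine ⟨a', b', x * a' * b', hmem a' a hca ha, hmem b' b hcb hb, hmem _ _ ?_ hc, ?_⟩
    · rw [hmulc, hmulc, hca, hcb]
    · refine Multiplicative.toAdd.injective (code_inj ?_)
      simp only [hmulc, hca, hcb]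
      generalize code (Multiplicative.toAdd x) = n
      rw [Nat.xor_assoc n, Nat.xor_comm n, ← Nat.xor_assoc, Nat.xor_self, Nat.zero_xor]
  have h := fiveSpread_eq
  simp only [fiveSpread, List.all_eq_true, List.any_eq_true, List.mem_range, Bool.and_eq_true,
    Bool.or_eq_true, beq_iff_eq] at h
  -- the unit vectors are generated
  have hcl : ∀ n ∈ [1, 2, 4, 8, 16], ∀ t : Multiplicative (Fin 5 → ZMod 2),
      code (Multiplicative.toAdd t) = n → ∃ a b, (a = 1 ∨ fiveGood (code (Multiplicative.toAdd a)) = true) ∧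
        (b = 1 ∨ fiveGood (code (Multiplicative.toAdd b)) = true) ∧ t = a * b := by
    intro n hn t ht
    obtain ⟨a, ha32, ha, hb⟩ := h n hn
    set a' := Multiplicative.ofAdd (dec ⟨a, ha32⟩) with ha'
    have hca : code (Multiplicative.toAdd a') = a := hdec ⟨a, ha32⟩
    refine ⟨a', t * a', Or.inr (hca.symm ▸ ha), ?_, ?_⟩
    · rcases hb with hb | hb
      · exact Or.inl (hzero _ (by rw [hmulc, ht, hca]; exact hb))
      · exact Or.inr (by rw [hmulc, ht, hca]; exact hb)
    · refine Multiplicative.toAdd.injective (code_inj ?_)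
      rw [hmulc, hmulc, hca, Nat.xor_comm (code _) a, ← Nat.xor_assoc, Nat.xor_self, Nat.zero_xor]
  have hclosed : Subgroup.closure {f | f ∈ {x : Multiplicative (Fin 5 → ZMod 2) | Multiplicative.toAdd x ∉ fiveSet} ∧
      Subgroup.closure {h | h ∈ {x : Multiplicative (Fin 5 → ZMod 2) | Multiplicative.toAdd x ∉ fiveSet} ∧
        f * h ∈ {x : Multiplicative (Fin 5 → ZMod 2) | Multiplicative.toAdd x ∉ fiveSet}} = ⊤} = ⊤ := by
    rw [Subgroup.eq_top_iff']
    intro t
    have hunit : ∀ i : Fin 5, Multiplicative.ofAdd (Pi.single i (1 : ZMod 2) : Fin 5 → ZMod 2) ∈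
        Subgroup.closure {f | f ∈ {x : Multiplicative (Fin 5 → ZMod 2) | Multiplicative.toAdd x ∉ fiveSet} ∧
          Subgroup.closure {h | h ∈ {x : Multiplicative (Fin 5 → ZMod 2) | Multiplicative.toAdd x ∉ fiveSet} ∧
            f * h ∈ {x : Multiplicative (Fin 5 → ZMod 2) | Multiplicative.toAdd x ∉ fiveSet}} = ⊤} := by
      intro i
      obtain ⟨a, b, ha, hb, hab⟩ := hcl _ (by revert i; decide) (Multiplicative.ofAdd (Pi.single i (1 : ZMod 2))) rfl
      have hm : ∀ u, (u = 1 ∨ fiveGood (code (Multiplicative.toAdd u)) = true) → u ∈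
          Subgroup.closure {f | f ∈ {x : Multiplicative (Fin 5 → ZMod 2) | Multiplicative.toAdd x ∉ fiveSet} ∧
            Subgroup.closure {h | h ∈ {x : Multiplicative (Fin 5 → ZMod 2) | Multiplicative.toAdd x ∉ fiveSet} ∧
              f * h ∈ {x : Multiplicative (Fin 5 → ZMod 2) | Multiplicative.toAdd x ∉ fiveSet}} = ⊤} :=
        fun u hu => hu.elim (fun e => e ▸ Subgroup.one_mem _) fun e => Subgroup.subset_closure (hgood u e)
      rw [hab]
      exact mul_mem (hm a ha) (hm b hb)
    have ht : t = ∏ i, if Multiplicative.toAdd t i = 0 then 1 else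
        Multiplicative.ofAdd (Pi.single i (1 : ZMod 2) : Fin 5 → ZMod 2) := by
      refine Multiplicative.toAdd.injective ?_
      rw [toAdd_prod]
      funext j
      rw [Finset.sum_apply, Finset.sum_eq_single j]
      · rcases (by decide : ∀ c : ZMod 2, c = 0 ∨ c = 1) (Multiplicative.toAdd t j) with h' | h' <;> simp [h']
      · intro i _ hij
        by_cases h' : Multiplicative.toAdd t i = 0 <;> simp [h', hij.symm]
      · simp
    rw [ht]
    refine Subgroup.prod_mem _ fun i _ => ?_
    split_ifs
    · exact Subgroup.one_mem _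
    · exact hunit i
  exact hclosed

section
variable {F : Type*} [Field F] {V : Type v} [AddCommGroup V] [Module F V] [FiniteDimensional F V]
  [Finite V] [Nontrivial V] {G : Type u} [Group G] [Finite G] {ρ : G →* Module.End F V}
  {A E : Subgroup G} {w : V}

/-- Two vectors unless the quotient of the layer has dimension two, three or four. -/
theorem two_of_dimension (ht : IsTop ρ A E w) [(ht.N.subgroupOf E).Normal] {k : ℕ}
    (e : E ⧸ ht.N.subgroupOf E ≃* Multiplicative (Fin k → ZMod 2)) (z : V) (hz : z ∈ space ht)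
    (hS : ∀ g : G, ρ g w = w → ρ g z = z → ∀ x ∈ space ht, ρ g x = x)
    (hk : k ≠ 2 ∧ k ≠ 3 ∧ k ≠ 4) : Two ρ := by
  classical
  rcases (show k ≤ 1 ∨ k = 5 ∨ 6 ≤ k by omega) with h | rfl | h
  · refine two_of_pattern ht e z hz hS ∅ (by simp) (fun M hM _ => ?_) ?_
    · have : Subsingleton {x : Fin k → ZMod 2 // x ≠ 0} := ⟨fun a b => Subtype.ext (funext fun i => by
        have h0 : ∀ x : Fin k → ZMod 2, x ≠ 0 → x i = 1 := fun x hx => by
          rcases (by decide : ∀ c : ZMod 2, c = 0 ∨ c = 1) (x i) with h' | h'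
          · refine absurd (funext fun j => ?_) hx
            rw [show j = i from Fin.ext (by omega)]; exact h'
          · exact h'
        rw [h0 a a.2, h0 b b.2])⟩
      refine AddMonoidHom.ext fun x => ?_
      by_cases hx : x = 0
      · subst hx; simp
      · exact congrArg Subtype.val (Subsingleton.elim
          (⟨M x, fun h0 => hx (hM (h0.trans (map_zero M).symm))⟩ : {x : Fin k → ZMod 2 // x ≠ 0}) ⟨x, hx⟩)
    · refine (good_of_card (n := 0) (by simp) ?_).spreads
      simpa using Nat.card_pos
  · exact two_of_pattern ht e z hz hS fiveSet (show ¬ inFive (code 0) = true by decide) five_rigid five_spreads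
  · refine two_of_pattern ht e z hz hS (chainSet k) ?_ (fun M hM hT => chain_rigid h M hM hT) ?_
    · intro h0
      have hs : supp (0 : Fin k → ZMod 2) = ∅ := by ext n; simp [mem_supp]
      rcases mem_chain h h0 with ⟨i, -, -, h1⟩ | ⟨i, -, -, h1⟩ | ⟨-, h1⟩ <;> rw [hs] at h1 <;>
        exact absurd h1.symm (by simp)
    · refine (good_of_card (n := 2 * k + 1) ?_ ?_).spreads
      · have hsub : {x : Multiplicative (Fin k → ZMod 2) | Multiplicative.toAdd x ∉ chainSet k}ᶜ ⊆
            ↑((Finset.range k).image (fun i => Multiplicative.ofAdd (uvec k i)) ∪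
              (Finset.range k).image (fun i => Multiplicative.ofAdd (uvec k i + uvec k (i + 1))) ∪
              {Multiplicative.ofAdd (uvec k 0 + uvec k 2 + uvec k (k - 1))}) := by
          intro x hx
          simp only [Set.mem_compl_iff, Set.mem_setOf_eq, not_not] at hx
          simp only [Finset.coe_union, Finset.coe_image, Finset.coe_singleton, Set.mem_union, Set.mem_image,
            Finset.mem_coe, Finset.mem_range, Set.mem_singleton_iff]
          rcases hx with ⟨i, hi, h1⟩ | ⟨i, hi, h1⟩ | h1
          · exact Or.inl (Or.inl ⟨i, hi, by rw [← h1]; rfl⟩)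
          · exact Or.inl (Or.inr ⟨i, by omega, by rw [← h1]; rfl⟩)
          · exact Or.inr (by rw [← h1]; rfl)
        refine (Set.ncard_le_ncard hsub).trans ?_
        rw [Set.ncard_coe_finset]
        refine (Finset.card_union_le _ _).trans ?_
        refine (add_le_add ((Finset.card_union_le _ _).trans (add_le_add Finset.card_image_le Finset.card_image_le))
          (Finset.card_singleton _).le).trans ?_
        rw [Finset.card_range]; omega
      · rw [Nat.card_congr Multiplicative.toAdd, Nat.card_pi]
        simp only [Nat.card_zmod, Finset.prod_const, Finset.card_univ, Fintype.card_fin]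
        clear hS e
        induction k, h using Nat.le_induction with
        | base => norm_num
        | succ m hm ih => rw [pow_succ]; omega

end

end Cfsg.Agent.CopBase
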