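import Cfsg.Agent.Lib.CopBase.Transfer
import Cfsg.Agent.Lib.CopBase.MGroups
import Cfsg.Agent.Lib.CopBase.Pattern

/-!
Two vectors when the scalars form the field of nine elements.
-/

set_option autoImplicit false
set_option linter.style.haveILetI false
set_option linter.unusedSectionVars false
set_option synthInstance.maxSize 4000
set_option synthInstance.maxHeartbeats 400000

namespace Cfsg.Agent.CopBase

open PrimSol SolBase
open scoped commutatorElement

universe u v

variable {F : Type*} [Field F] {V : Type v} [AddCommGroup V] [Module F V] [FiniteDimensional F V]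
  [Finite V] [Nontrivial V] {G : Type u} [Group G] [Finite G] {ρ : G →* Module.End F V}
  {A E : Subgroup G} {w : V}

/-- With nine scalars three vanishes. -/
theorem three_eq_zero (hq : Nat.card (alg ρ A) = 9) : (3 : F) = 0 := by
  haveI : Finite (Module.End F V) := Finite.of_injective _ DFunLike.coe_injective
  haveI : Finite F := Finite.of_injective (algebraMap F (Module.End F V))
    (FaithfulSMul.algebraMap_injective F _)
  haveI := Fintype.ofFinite F
  have hf : Module.finrank F (alg ρ A) ≠ 0 := by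
    haveI : FiniteDimensional F (alg ρ A) := Module.Finite.of_finite
    haveI : Nontrivial (alg ρ A) := ⟨0, 1, fun h => zero_ne_one (congrArg Subtype.val h)⟩
    exact Module.finrank_pos.ne'
  have h9 : Nat.card F ^ Module.finrank F (alg ρ A) = 9 := by
    rw [← Module.natCard_eq_pow_finrank (K := F), hq]
  have h0 : ((9 : ℕ) : F) = 0 := by
    rw [← h9, Nat.cast_pow, Nat.card_eq_fintype_card, Nat.cast_card_eq_zero, zero_pow hf]
  rw [show (9 : ℕ) = 3 * 3 from rfl, Nat.cast_mul, Nat.cast_ofNat] at h0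
  exact (mul_eq_zero.1 h0).elim id id

/-- Two classes of scalars modulo squares and sign. -/
theorem exists_two_classes (hK : IsScalars ρ A) (h2 : (2 : F) ≠ 0) (hq : Nat.card (alg ρ A) = 9) :
    ∃ γ : Module.End F V → Fin 2, (∀ x ∈ alg ρ A, x ≠ 0 → γ (-x) = γ x) ∧
      ∀ θ ∈ alg ρ A, θ ≠ 0 → ∀ c : Fin 2, ∃ k ∈ alg ρ A, k ≠ 0 ∧ γ (θ * (k * k)) = c := by
  classical
  obtain ⟨lam, hlam, hlam0, hgen⟩ := hK.exists_gen
  have hpow0 : ∀ i, lam ^ i ≠ 0 := by
    intro i
    induction i with
    | zero => rw [pow_zero]; exact one_ne_zero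
    | succ i ih =>
      rw [pow_succ]
      exact fun h => (hK.eq_zero_or (pow_mem hlam i) h).elim ih hlam0
  have h8 : lam ^ 8 = 1 := by
    have := scalar_pow_eq_one hK hlam hlam0
    rwa [hq] at this
  haveI : Finite (Module.End F V) := Finite.of_injective _ DFunLike.coe_injective
  have hmod : ∀ i, lam ^ i = lam ^ (i % 8) := fun i => by
    conv_lhs => rw [← Nat.div_add_mod i 8]
    rw [pow_add, pow_mul, h8, one_pow, one_mul]
  have h4 : lam ^ 4 = -1 := by
    have hfac : (lam ^ 4 - 1) * (lam ^ 4 + 1) = 0 := by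
      rw [sub_mul, mul_add, mul_one, one_mul, ← pow_add, h8, add_comm (1 : Module.End F V), sub_self]
    refine eq_neg_of_add_eq_zero_left ((hK.eq_zero_or (sub_mem (pow_mem hlam 4) (one_mem _)) hfac).resolve_left
      fun h => ?_)
    rw [sub_eq_zero] at h
    -- then there are at most five scalars
    haveI := Fintype.ofFinite (alg ρ A)
    have hsub : (Finset.univ : Finset (alg ρ A)) ⊆ insert 0
        ((Finset.range 4).image fun i => (⟨lam ^ i, pow_mem hlam i⟩ : alg ρ A)) := by
      intro x _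
      by_cases hx : x = 0
      · simp [hx]
      obtain ⟨i, hi⟩ := hgen _ x.2 fun e => hx (Subtype.ext e)
      refine Finset.mem_insert_of_mem (Finset.mem_image.2 ⟨i % 4, Finset.mem_range.2 (Nat.mod_lt _ (by omega)),
        Subtype.ext ?_⟩)
      show lam ^ (i % 4) = x
      rw [hi]
      conv_rhs => rw [← Nat.div_add_mod i 4]
      rw [pow_add, pow_mul, h, one_pow, one_mul]
    have h5 := (Finset.card_le_card hsub).trans ((Finset.card_insert_le _ _).trans
      (Nat.add_le_add_right Finset.card_image_le 1))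
    rw [Finset.card_univ, ← Nat.card_eq_fintype_card, hq, Finset.card_range] at h5
    omega
  have hinj : ∀ i j, lam ^ i = lam ^ j → i % 8 = j % 8 := by
    intro i j h
    rw [hmod i, hmod j] at h
    by_contra hne
    have hlt : i % 8 < 8 ∧ j % 8 < 8 := ⟨Nat.mod_lt _ (by omega), Nat.mod_lt _ (by omega)⟩
    obtain ⟨d, hd, hd8, hd1⟩ : ∃ d, 0 < d ∧ d < 8 ∧ lam ^ d = 1 := by
      have hu : ∀ a b, a ≤ b → lam ^ a = lam ^ b → lam ^ (b - a) = 1 := fun a b hab he => by
        have := hK.eq_zero_or (pow_mem hlam a) (y := lam ^ (b - a) - 1)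
          (by rw [mul_sub, mul_one, ← pow_add, Nat.add_sub_cancel' hab, he, sub_self])
        exact sub_eq_zero.1 (this.resolve_left (hpow0 a))
      rcases lt_or_gt_of_ne hne with h' | h'
      · exact ⟨j % 8 - i % 8, by omega, by omega, hu _ _ h'.le h⟩
      · exact ⟨i % 8 - j % 8, by omega, by omega, hu _ _ h'.le h.symm⟩
    have hne1 : lam ^ 4 ≠ 1 := fun e => h2 (by
      rw [h4] at e
      have h3 : ((2 : F) • (1 : Module.End F V)) = 0 := by
        rw [two_smul]
        exact neg_eq_iff_add_eq_zero.1 e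
      exact (smul_eq_zero.1 h3).resolve_right one_ne_zero)
    apply hne1
    interval_cases d
    · rw [pow_one] at hd1; rw [hd1, one_pow]
    · rw [show 4 = 2 * 2 from rfl, pow_mul, hd1, one_pow]
    · have : lam ^ 4 = lam := by rw [pow_succ, hd1, one_mul]
      rw [this]
      have : lam = lam ^ 9 := by rw [pow_succ, h8, one_mul]
      rw [this, show 9 = 3 * 3 from rfl, pow_mul, hd1, one_pow]
    · exact hd1
    · have : lam ^ 5 = lam ^ 4 * lam := pow_succ _ _
      have e16 : lam ^ 16 = 1 := by rw [show 16 = 8 * 2 from rfl, pow_mul, h8, one_pow]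
      have e15 : lam ^ 15 = 1 := by rw [show 15 = 5 * 3 from rfl, pow_mul, hd1, one_pow]
      rw [pow_succ, e15, one_mul] at e16
      rw [e16, one_pow]
    · have e2 : lam ^ 2 = 1 := by
        have : lam ^ 8 = lam ^ 6 * lam ^ 2 := pow_add _ 6 2
        rwa [h8, hd1, one_mul, eq_comm] at this
      rw [show 4 = 2 * 2 from rfl, pow_mul, e2, one_pow]
    · have e1 : lam = 1 := by
        have : lam ^ 8 = lam ^ 7 * lam := pow_succ _ _
        rwa [h8, hd1, one_mul, eq_comm] at this
      rw [e1, one_pow]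
  let lg : Module.End F V → ℕ := fun x => if h : ∃ i, x = lam ^ i then h.choose % 8 else 0
  have hlg : ∀ i, lg (lam ^ i) = i % 8 := fun i => by
    have h : ∃ j, lam ^ i = lam ^ j := ⟨i, rfl⟩
    simp only [lg, dif_pos h]
    exact (hinj _ _ h.choose_spec).symm
  refine ⟨fun x => ⟨lg x % 4 / 2, by omega⟩, fun x hx hx0 => ?_, fun θ hθ hθ0 c => ?_⟩
  · obtain ⟨i, rfl⟩ := hgen x hx hx0
    apply Fin.ext
    show lg (-lam ^ i) % 4 / 2 = lg (lam ^ i) % 4 / 2
    rw [show -lam ^ i = lam ^ (i + 4) by rw [pow_add, h4, mul_neg_one], hlg, hlg]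
    omega
  · obtain ⟨t, rfl⟩ := hgen θ hθ hθ0
    refine ⟨lam ^ ((2 * (c : ℕ) + t % 2 + 8 * t - t) / 2), pow_mem hlam _, hpow0 _, Fin.ext ?_⟩
    show lg _ % 4 / 2 = (c : ℕ)
    have := c.isLt
    have hj : t + ((2 * (c : ℕ) + t % 2 + 8 * t - t) / 2 + (2 * (c : ℕ) + t % 2 + 8 * t - t) / 2) =
        2 * (c : ℕ) + t % 2 + 8 * t := by omega
    rw [← pow_add, ← pow_add, hlg, hj, Nat.add_mul_mod_self_left,
      Nat.mod_eq_of_lt (show 2 * (c : ℕ) + t % 2 < 8 by omega),
      Nat.mod_eq_of_lt (show 2 * (c : ℕ) + t % 2 < 4 by omega)]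
    omega

/-- Two colours and zero. -/
theorem two_of_two_colours (ht : IsTop ρ A E w) [(ht.N.subgroupOf E).Normal] (h2 : (2 : F) ≠ 0)
    (hq : Nat.card (alg ρ A) = 9) {k : ℕ}
    (e : E ⧸ ht.N.subgroupOf E ≃* Multiplicative (Fin k → ZMod 2)) (z : V) (hz : z ∈ space ht)
    (hS : ∀ g : G, ρ g w = w → ρ g z = z → ∀ x ∈ space ht, ρ g x = x)
    (φ : (Fin k → ZMod 2) → Option (Fin 2)) (hφ0 : φ 0 ≠ none)
    (hrigid : letI := stabAction ht e
      ∀ s : stab ρ A w, (∀ x : Fin k → ZMod 2, x ≠ 0 → φ (s • x) = φ x) → ∀ x : Fin k → ZMod 2, s • x = x)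
    (hspread : Spreads {x : Multiplicative (Fin k → ZMod 2) | φ (Multiplicative.toAdd x) ≠ none}) : Two ρ := by
  classical
  have hl := ht.toIsLayer
  obtain ⟨R, hR, hR1, hRs⟩ := exists_reps ht
  obtain ⟨γ, hγs, hγ⟩ := exists_two_classes hl.scal h2 hq
  have hq' : Nat.card (alg ρ A) ∈ ({3, 5, 9} : Set ℕ) := by simp [hq]
  have hR2 : ∀ v, R v ^ 2 ∈ A := fun v => sq_mem hl hq' (hR v).1
  have hθ0 : ∀ v, ρ (R v ^ 2) ≠ 0 := fun v h0 => ht.ne (apply_injective ρ (R v ^ 2)
    (by rw [h0, LinearMap.zero_apply, LinearMap.zero_apply]))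
  choose coef hcoef hcoef0 hcls using fun v (c : Fin 2) => hγ _ (hl.scalar (hR2 v)) (hθ0 v) c
  let col : E ⧸ ht.N.subgroupOf E → Option (Fin 2) := fun v => φ (Multiplicative.toAdd (e v))
  let cf : E ⧸ ht.N.subgroupOf E → Module.End F V := fun v =>
    match col v with
    | none => 0
    | some c => coef v c
  have hcf : ∀ v, cf v ∈ alg ρ A := fun v => by
    simp only [cf]; split
    · exact zero_mem _
    · exact hcoef _ _
  have hcfnone : ∀ v, cf v = 0 ↔ col v = none := fun v => by
    simp only [cf]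
    rcases h : col v with _ | c
    · simp
    · simp [hcoef0 v c]
  have hcfsome : ∀ v c, col v = some c → γ (ρ (R v ^ 2) * (cf v * cf v)) = c := fun v c h => by
    simp only [cf, h]; exact hcls v c
  let c : E ⧸ ht.N.subgroupOf E → V := fun v => if v = 1 then z else cf v w
  refine two_of_colour ht z hS R hR hR1 c (fun v => ?_) (if_pos rfl) ?_ ?_
  · simp only [c]; split_ifs
    exacts [hz, scalar_mem_space ht (hcf v) (self_mem_space ht)]
  · intro g M hgA hgw _ hM h
    letI := stabAction ht e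
    have hact := toAdd_map_eq ht e R hR M ⟨g, hgA, hgw⟩ fun v hv => (h v hv).1
    have hid := hrigid ⟨g, hgA, hgw⟩ fun x hx => by
      rw [hact]
      set v := e.symm (Multiplicative.ofAdd x) with hv
      have hev : Multiplicative.toAdd (e v) = x := by rw [hv, MulEquiv.apply_symm_apply]; rfl
      have hv1 : v ≠ 1 := fun e1 => hx (by rw [← hev, e1, map_one]; rfl)
      have hMv : M v ≠ 1 := fun e1 => hv1 (hM (e1.trans (map_one M).symm))
      obtain ⟨hn, he⟩ := h v hv1
      simp only [c, if_neg hv1, if_neg hMv] at he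
      show col (M v) = φ x
      rw [← hev]
      show col (M v) = col v
      by_cases hv0 : cf v = 0
      · rw [hv0, LinearMap.zero_apply, map_zero] at he
        rw [(hcfnone v).1 hv0, ← hcfnone]
        exact hl.scal.eq_zero (hcf _) ht.ne he.symm
      · have hM0 : cf (M v) ≠ 0 := fun e1 => by
          rw [e1, LinearMap.zero_apply] at he
          exact hv0 (hl.scal.eq_zero (hcf v) ht.ne (apply_injective ρ _ (he.trans (map_zero _).symm)))
        obtain ⟨a, ha⟩ := Option.ne_none_iff_exists'.1 (fun e1 => hv0 ((hcfnone v).2 e1))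
        obtain ⟨b, hb⟩ := Option.ne_none_iff_exists'.1 (fun e1 => hM0 ((hcfnone _).2 e1))
        rw [ha, hb]
        congr 1
        rw [← hcfsome v a ha, ← hcfsome _ b hb]
        have hx0 : ρ (R (M v) ^ 2) * (cf (M v) * cf (M v)) ≠ 0 := fun e1 => by
          rcases hl.scal.eq_zero_or (hl.scalar (hR2 _)) e1 with h7 | h7
          · exact hθ0 _ h7
          · rcases hl.scal.eq_zero_or (hcf _) h7 with h8 | h8 <;> exact hM0 h8
        rcases class_transfer ht hgA (hR v).1 (hR (M v)).1 (hR2 v) (hR2 (M v)) hn (hcf v) (hcf _) hv0 he with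
          h7 | h7 <;> rw [h7]
        rw [hγs _ (mul_mem (hl.scalar (hR2 _)) (mul_mem (hcf _) (hcf _))) hx0]
    refine MonoidHom.ext fun v => e.injective (Multiplicative.toAdd.injective ?_)
    have h2 := hid (Multiplicative.toAdd (e v))
    rwa [hact, ofAdd_toAdd, MulEquiv.symm_apply_apply] at h2
  · have hB : {v | v = 1 ∨ c v ≠ 0} = e ⁻¹' {x | φ (Multiplicative.toAdd x) ≠ none} := by
      ext v
      simp only [Set.mem_setOf_eq, Set.mem_preimage, c]
      by_cases hv : v = 1
      · simp [hv, hφ0]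
      · simp only [hv, false_or, if_false]
        show _ ↔ col v ≠ none
        rw [ne_eq, ne_eq, ← hcfnone v]
        exact not_congr ⟨fun h => hl.scal.eq_zero (hcf v) ht.ne h, fun h => by rw [h, LinearMap.zero_apply]⟩
    rw [hB]
    have hcl : ∀ S : Set (Multiplicative (Fin k → ZMod 2)), Subgroup.closure S = ⊤ →
        Subgroup.closure (e ⁻¹' S) = ⊤ := fun S hS' => by
      rw [Subgroup.eq_top_iff']
      intro v
      have : e v ∈ (Subgroup.closure (e ⁻¹' S)).map e.toMonoidHom := by
        rw [MonoidHom.map_closure]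
        have himg : (e.toMonoidHom : _ → _) '' (e ⁻¹' S) = S := Set.image_preimage_eq _ e.surjective
        rw [himg, hS']; exact Subgroup.mem_top _
      obtain ⟨u, hu, hue⟩ := this
      rwa [← e.injective hue]
    refine top_le_iff.1 ((hcl _ hspread).ge.trans (Subgroup.closure_mono fun f hf => ⟨hf.1, ?_⟩))
    refine top_le_iff.1 ((hcl _ hf.2).ge.trans (Subgroup.closure_mono fun h hh => ⟨hh.1, ?_⟩))
    have h2' := hh.2
    rw [← map_mul] at h2'
    exact h2'

/-- The colours in dimension four. -/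
def colFour (x : Fin 4 → ZMod 2) : Option (Fin 2) :=
  let n := (x 0).val + 2 * (x 1).val + 4 * (x 2).val + 8 * (x 3).val
  if n == 1 || n == 2 || n == 4 then none else if n == 3 || n == 8 || n == 13 || n == 15 then some 0 else some 1

/-- The same colours on numbers. -/
def colFourN (n : ℕ) : ℕ :=
  if n == 1 || n == 2 || n == 4 then 0 else if n == 3 || n == 8 || n == 13 || n == 15 then 1 else 2

/-- The map with given images of the unit vectors. -/
def app4 (a b c d : Fin 4 → ZMod 2) (x : Fin 4 → ZMod 2) : Fin 4 → ZMod 2 :=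
  x 0 • a + x 1 • b + x 2 • c + x 3 • d

/-- The search in dimension four. -/
def fourCheck : Bool :=
  let L := List.range 16
  L.all fun a => colFourN a != colFourN 1 || L.all fun b => colFourN b != colFourN 2 ||
    colFourN (a ^^^ b) != colFourN 3 || L.all fun c => colFourN c != colFourN 4 ||
      colFourN (a ^^^ c) != colFourN 5 || colFourN (b ^^^ c) != colFourN 6 ||
      colFourN (a ^^^ b ^^^ c) != colFourN 7 || L.all fun d => colFourN d != colFourN 8 ||
        colFourN (a ^^^ d) != colFourN 9 || colFourN (b ^^^ d) != colFourN 10 ||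
        colFourN (a ^^^ b ^^^ d) != colFourN 11 || colFourN (c ^^^ d) != colFourN 12 ||
        colFourN (a ^^^ c ^^^ d) != colFourN 13 || colFourN (b ^^^ c ^^^ d) != colFourN 14 ||
        colFourN (a ^^^ b ^^^ c ^^^ d) != colFourN 15 ||
        a == 0 || b == 0 || c == 0 || d == 0 || (a ^^^ b) == 0 || (a ^^^ c) == 0 || (b ^^^ c) == 0 ||
        (a ^^^ b ^^^ c) == 0 || (a == 1 && b == 2 && c == 4 && d == 8)

lemma fourCheck_eq : fourCheck = true := by decide +kernel

/-- The number of a vector in dimension four. -/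
def code4 (x : Fin 4 → ZMod 2) : ℕ := (x 0).val + 2 * (x 1).val + 4 * (x 2).val + 8 * (x 3).val

lemma code4_facts : (∀ x y : Fin 4 → ZMod 2, code4 (x + y) = code4 x ^^^ code4 y) ∧
    (∀ x, code4 x < 16) ∧ (∀ x y, code4 x = code4 y → x = y) ∧
    (∀ x y, colFour x = colFour y → colFourN (code4 x) = colFourN (code4 y)) ∧
    code4 ![1, 0, 0, 0] = 1 ∧ code4 ![0, 1, 0, 0] = 2 ∧ code4 ![0, 0, 1, 0] = 4 ∧ code4 ![0, 0, 0, 1] = 8 := by
  decide +kernel

lemma four_rigid {S : Type*} [Group S] [DistribMulAction S (Fin 4 → ZMod 2)] (s : S)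
    (h : ∀ x : Fin 4 → ZMod 2, x ≠ 0 → colFour (s • x) = colFour x) (x : Fin 4 → ZMod 2) : s • x = x := by
  obtain ⟨hadd, hlt, hinj, hcol, h1, h2, h3, h4⟩ := code4_facts
  set e0 : Fin 4 → ZMod 2 := ![1, 0, 0, 0] with he0
  set e1 : Fin 4 → ZMod 2 := ![0, 1, 0, 0] with he1
  set e2 : Fin 4 → ZMod 2 := ![0, 0, 1, 0] with he2
  set e3 : Fin 4 → ZMod 2 := ![0, 0, 0, 1] with he3
  have hc : ∀ y : Fin 4 → ZMod 2, y ≠ 0 → colFourN (code4 (s • y)) = colFourN (code4 y) := fun y hy =>
    hcol _ _ (h y hy)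
  have hne : ∀ y : Fin 4 → ZMod 2, y ≠ 0 → code4 (s • y) ≠ 0 := fun y hy e =>
    hy ((smul_eq_zero_iff_eq s).1 (hinj _ 0 (e.trans rfl)))
  have k := fourCheck_eq
  simp only [fourCheck, List.all_eq_true, List.mem_range, Bool.or_eq_true, bne_iff_ne, beq_iff_eq,
    Bool.and_eq_true] at k
  set a := code4 (s • e0) with ha
  set b := code4 (s • e1) with hb
  set c := code4 (s • e2) with hc'
  set d := code4 (s • e3) with hd
  have q1 := hc e0 (by decide); rw [h1, ← ha] at q1
  have q2 := hc e1 (by decide); rw [h2, ← hb] at q2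
  have q3 := hc (e0 + e1) (by decide); rw [smul_add, hadd, hadd, ← ha, ← hb, h1, h2] at q3
  have q4 := hc e2 (by decide); rw [h3, ← hc'] at q4
  have q5 := hc (e0 + e2) (by decide); rw [smul_add, hadd, hadd, ← ha, ← hc', h1, h3] at q5
  have q6 := hc (e1 + e2) (by decide); rw [smul_add, hadd, hadd, ← hb, ← hc', h2, h3] at q6
  have q7 := hc (e0 + e1 + e2) (by decide)
  rw [smul_add, smul_add, hadd, hadd, hadd, hadd, ← ha, ← hb, ← hc', h1, h2, h3] at q7
  have q8 := hc e3 (by decide); rw [h4, ← hd] at q8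
  have q9 := hc (e0 + e3) (by decide); rw [smul_add, hadd, hadd, ← ha, ← hd, h1, h4] at q9
  have q10 := hc (e1 + e3) (by decide); rw [smul_add, hadd, hadd, ← hb, ← hd, h2, h4] at q10
  have q11 := hc (e0 + e1 + e3) (by decide)
  rw [smul_add, smul_add, hadd, hadd, hadd, hadd, ← ha, ← hb, ← hd, h1, h2, h4] at q11
  have q12 := hc (e2 + e3) (by decide); rw [smul_add, hadd, hadd, ← hc', ← hd, h3, h4] at q12
  have q13 := hc (e0 + e2 + e3) (by decide)
  rw [smul_add, smul_add, hadd, hadd, hadd, hadd, ← ha, ← hc', ← hd, h1, h3, h4] at q13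
  have q14 := hc (e1 + e2 + e3) (by decide)
  rw [smul_add, smul_add, hadd, hadd, hadd, hadd, ← hb, ← hc', ← hd, h2, h3, h4] at q14
  have q15 := hc (e0 + e1 + e2 + e3) (by decide)
  rw [smul_add, smul_add, smul_add, hadd, hadd, hadd, hadd, hadd, hadd, ← ha, ← hb, ← hc', ← hd, h1, h2, h3,
    h4] at q15
  have z1 := hne e0 (by decide)
  have z2 := hne e1 (by decide)
  have z3 := hne e2 (by decide)
  have z4 := hne e3 (by decide)
  have z5 := hne (e0 + e1) (by decide); rw [smul_add, hadd] at z5
  have z6 := hne (e0 + e2) (by decide); rw [smul_add, hadd] at z6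
  have z7 := hne (e1 + e2) (by decide); rw [smul_add, hadd] at z7
  have z8 := hne (e0 + e1 + e2) (by decide); rw [smul_add, smul_add, hadd, hadd] at z8
  rw [← ha] at z1; rw [← hb] at z2; rw [← hc'] at z3; rw [← hd] at z4
  rw [← ha, ← hb] at z5; rw [← ha, ← hc'] at z6; rw [← hb, ← hc'] at z7; rw [← ha, ← hb, ← hc'] at z8
  simp only [Nat.reduceXor] at q3 q5 q6 q7 q9 q10 q11 q12 q13 q14 q15
  have k1 := (k a (hlt _)).resolve_left (not_not.2 q1)
  have k2 := k1 b (hlt _)
  simp only [q2, q3, ne_eq, not_true_eq_false, false_or] at k2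
  have k3 := k2 c (hlt _)
  simp only [q4, q5, q6, q7, ne_eq, not_true_eq_false, false_or] at k3
  have k4 := k3 d (hlt _)
  simp only [q8, q9, q10, q11, q12, q13, q14, q15, z1, z2, z3, z4, z5, z6, z7, z8, ne_eq, not_true_eq_false,
    false_or] at k4
  have f1 : s • e0 = e0 := hinj _ _ (k4.1.1.1.trans h1.symm)
  have f2 : s • e1 = e1 := hinj _ _ (k4.1.1.2.trans h2.symm)
  have f3 : s • e2 = e2 := hinj _ _ (k4.1.2.trans h3.symm)
  have f4 : s • e3 = e3 := hinj _ _ (k4.2.trans h4.symm)
  have hdec : ∀ x : Fin 4 → ZMod 2, x = (if x 0 = 0 then 0 else ![1, 0, 0, 0]) +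
      (if x 1 = 0 then 0 else ![0, 1, 0, 0]) + (if x 2 = 0 then 0 else ![0, 0, 1, 0]) +
      (if x 3 = 0 then 0 else ![0, 0, 0, 1]) := by decide
  rw [hdec x, ← he0, ← he1, ← he2, ← he3]
  simp only [smul_add]
  split_ifs <;> simp [f1, f2, f3, f4]

/-- Two vectors when there are nine scalars. -/
theorem two_nine (ht : IsTop ρ A E w) [(ht.N.subgroupOf E).Normal] (h2 : (2 : F) ≠ 0)
    (hq : Nat.card (alg ρ A) = 9) (hcop : (Nat.card G : F) ≠ 0) {k : ℕ}
    (e : E ⧸ ht.N.subgroupOf E ≃* Multiplicative (Fin k → ZMod 2)) (z : V) (hz : z ∈ space ht)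
    (hS : ∀ g : G, ρ g w = w → ρ g z = z → ∀ x ∈ space ht, ρ g x = x) : Two ρ := by
  classical
  letI := stabAction ht e
  have h3 : ¬ 3 ∣ Nat.card (stab ρ A w) := three_not_dvd_stab hcop (three_eq_zero hq)
  by_cases hk : k ≠ 2 ∧ k ≠ 3 ∧ k ≠ 4
  · exact two_of_dimension ht e z hz hS hk
  rcases (show k = 2 ∨ k = 3 ∨ k = 4 by omega) with rfl | rfl | rfl
  · obtain ⟨p, hp, hfix⟩ := exists_fixed_two (S := stab ρ A w) h3
    have hpick : ∀ p : Fin 2 → ZMod 2, p ≠ 0 → ∃ a, a ≠ 0 ∧ ∀ x, x = 0 ∨ x = p ∨ x = a ∨ x = p + a := by decide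
    obtain ⟨a, ha0, hspan⟩ := hpick p hp
    refine two_of_two_colours ht h2 hq e z hz hS (fun x => if x = a then some 0 else some 1) (by simp [ha0.symm])
      (fun s hs x => ?_) ?_
    · have h1 := hs a ha0
      simp only [if_true] at h1
      have hsa : s • a = a := by
        by_contra hn
        rw [if_neg hn] at h1
        simp at h1
      rcases hspan x with rfl | rfl | rfl | rfl
      · exact smul_zero s
      · exact hfix s
      · exact hsa
      · rw [smul_add, hfix, hsa]
    · refine (good_of_card (n := 0) ?_ (by simpa using Nat.card_pos)).spreads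
      rw [Nat.le_zero, Set.ncard_eq_zero, Set.compl_empty_iff]
      refine Set.eq_univ_of_forall fun x => ?_
      show (if _ then some (0 : Fin 2) else some 1) ≠ none
      split_ifs <;> simp
  · have hsp : ∀ (a : Fin 3 → ZMod 2) (φ : (Fin 3 → ZMod 2) → Option (Fin 2)), (∀ x, φ x = none → x = a) →
        Spreads {x : Multiplicative (Fin 3 → ZMod 2) | φ (Multiplicative.toAdd x) ≠ none} := by
      intro a φ ha
      refine (good_of_card (n := 1) ?_ (by rw [Nat.card_congr Multiplicative.toAdd]; simp)).spreads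
      refine le_of_le_of_eq (Set.ncard_le_ncard (t := {Multiplicative.ofAdd a}) fun x hx => ?_) (Set.ncard_singleton _)
      simp only [Set.mem_compl_iff, Set.mem_setOf_eq, not_not] at hx
      exact Multiplicative.toAdd.injective (ha _ hx)
    rcases fixed_or_free_three (S := stab ρ A w) h3 with ⟨p, hp, hfix⟩ | hfree
    · have hpick : ∀ p : Fin 3 → ZMod 2, p ≠ 0 → ∃ a b, a ≠ 0 ∧ b ≠ 0 ∧ a ≠ b ∧
          ∀ x, ∃ i j l : ZMod 2, x = i • p + j • a + l • b := by decide +kernel
      obtain ⟨a, b, ha0, hb0, hab, hspan⟩ := hpick p hp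
      refine two_of_two_colours ht h2 hq e z hz hS
        (fun x => if x = a then none else if x = b then some 0 else some 1)
        (by simp [ha0.symm, hb0.symm]) (fun s hs x => ?_)
        (hsp a (fun x => if x = a then none else if x = b then some 0 else some 1) fun x hx => ?_)
      · have h1 := hs a ha0
        have h4 := hs b hb0
        simp only [if_true, if_neg hab.symm] at h1 h4
        have hsa : s • a = a := by
          by_contra hn
          rw [if_neg hn] at h1
          split_ifs at h1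
        have hsb : s • b = b := by
          by_contra hn
          rw [if_neg hn] at h4
          split_ifs at h4 <;> simp at h4
        have hsc : ∀ (c : ZMod 2) (y : Fin 3 → ZMod 2), s • (c • y) = c • (s • y) := fun c y => by
          rcases (by decide : ∀ c : ZMod 2, c = 0 ∨ c = 1) c with rfl | rfl <;> simp
        obtain ⟨i, j, l, rfl⟩ := hspan x
        rw [smul_add, smul_add, hsc, hsc, hsc, hfix, hsa, hsb]
      · split_ifs at hx with h
        exact h
    · have ha0 : (Pi.single 0 1 : Fin 3 → ZMod 2) ≠ 0 := by decide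
      refine two_of_two_colours ht h2 hq e z hz hS
        (fun x => if x = Pi.single 0 1 then none else some 1) (by simp [ha0.symm]) (fun s hs => ?_)
        (hsp (Pi.single 0 1) (fun x => if x = Pi.single 0 1 then none else some 1) fun x hx => ?_)
      · refine hfree s _ ha0 ?_
        have h1 := hs _ ha0
        simp only [if_true] at h1
        by_contra hn
        rw [if_neg hn] at h1
        simp at h1
      · split_ifs at hx with h
        exact h
  · refine two_of_two_colours ht h2 hq e z hz hS colFour (by decide) (fun s hs => four_rigid s hs) ?_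
    refine (good_of_card (n := 3) ?_ ?_).spreads
    · have hsub : {x : Multiplicative (Fin 4 → ZMod 2) | colFour (Multiplicative.toAdd x) ≠ none}ᶜ ⊆
          ↑({Multiplicative.ofAdd ![1, 0, 0, 0], Multiplicative.ofAdd ![0, 1, 0, 0],
            Multiplicative.ofAdd ![0, 0, 1, 0]} : Finset (Multiplicative (Fin 4 → ZMod 2))) := by
        intro x hx
        simp only [Set.mem_compl_iff, Set.mem_setOf_eq, not_not] at hx
        have key : ∀ y : Fin 4 → ZMod 2, colFour y = none →
            y = ![1, 0, 0, 0] ∨ y = ![0, 1, 0, 0] ∨ y = ![0, 0, 1, 0] := by decide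
        simp only [Finset.coe_insert, Finset.coe_singleton, Set.mem_insert_iff, Set.mem_singleton_iff]
        exact key _ hx
      refine (Set.ncard_le_ncard hsub).trans ?_
      rw [Set.ncard_coe_finset]
      exact Finset.card_le_three
    · rw [Nat.card_congr Multiplicative.toAdd]; simp

end Cfsg.Agent.CopBase
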