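import Cfsg.Agent.Lib.CopBase.Pairing

/-!
A group of order prime to three acting on a small layer without invariant abelian subgroups.
-/

set_option autoImplicit false
set_option linter.style.haveILetI false
set_option linter.unusedSectionVars false

namespace Cfsg.Agent.CopBase

open PrimSol SolBase
open scoped commutatorElement

universe u v

/-- A nontrivial soluble group has a nontrivial normal subgroup of prime exponent. -/
theorem exists_normal_prime {H : Type*} [Group H] [Finite H] [Nontrivial H] (hsol : Group.IsSolvable H) :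
    ∃ (p : ℕ) (R : Subgroup H), p.Prime ∧ R.Normal ∧ R ≠ ⊥ ∧ IsPGroup p R := by
  classical
  haveI := hsol
  obtain ⟨n, hn⟩ := (Group.isSolvable_def H).1 hsol
  obtain ⟨m, hm, hmD⟩ : ∃ m, derivedSeries H (m + 1) = ⊥ ∧ derivedSeries H m ≠ ⊥ := by
    induction n with
    | zero => exact absurd hn (by rw [derivedSeries_zero]; exact top_ne_bot)
    | succ n ih =>
      by_cases h : derivedSeries H n = ⊥
      · exact ih h
      · exact ⟨n, hn, h⟩
  set D := derivedSeries H m with hD
  haveI hDn : D.Normal := derivedSeries_normal H m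
  have hcomm : ∀ a ∈ D, ∀ b ∈ D, a * b = b * a := fun a ha b hb => by
    refine commutatorElement_eq_one_iff_mul_comm.1 ?_
    rw [derivedSeries_succ] at hm
    exact Subgroup.mem_bot.1 (hm ▸ Subgroup.commutator_mem_commutator ha hb)
  obtain ⟨p, hp, hpD⟩ := Nat.exists_prime_and_dvd (show Nat.card D ≠ 1 from fun h =>
    hmD (Subgroup.card_eq_one.1 h))
  haveI := Fact.mk hp
  obtain ⟨x, hx⟩ := exists_prime_orderOf_dvd_card' p hpD
  let R : Subgroup H :=
    { carrier := {a | a ∈ D ∧ a ^ p = 1}
      one_mem' := ⟨D.one_mem, one_pow p⟩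
      mul_mem' := fun {a b} ha hb => ⟨D.mul_mem ha.1 hb.1, by
        rw [(show Commute a b from hcomm a ha.1 b hb.1).mul_pow, ha.2, hb.2, one_mul]⟩
      inv_mem' := fun {a} ha => ⟨D.inv_mem ha.1, by rw [inv_pow, ha.2, inv_one]⟩ }
  refine ⟨p, R, hp, ⟨fun a ha g => ⟨hDn.conj_mem a ha.1 g, by rw [conj_pow, ha.2, mul_one, mul_inv_cancel]⟩⟩,
    fun h => ?_, fun a => ⟨1, Subtype.ext (by rw [pow_one, Subgroup.coe_pow]; exact a.2.2)⟩⟩
  have hxR : (x : H) ∈ R := ⟨x.2, by rw [← Subgroup.coe_pow, ← hx, pow_orderOf_eq_one, Subgroup.coe_one]⟩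
  rw [h, Subgroup.mem_bot] at hxR
  rw [show x = 1 from Subtype.ext hxR, orderOf_one] at hx
  exact hp.one_lt.ne hx

variable {F : Type*} [Field F] {V : Type v} [AddCommGroup V] [Module F V] [FiniteDimensional F V]
  [Finite V] [Nontrivial V] {G : Type u} [Group G] [Finite G] {ρ : G →* Module.End F V}
  {A E : Subgroup G}

/-- Some prime other than three divides the number of nonzero points and of singular points of the layer. -/
theorem exists_prime_points (hl : IsLayer ρ A E) (hsol : Group.IsSolvable G) (h2 : (2 : F) ≠ 0)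
    (hsq : ∀ f ∈ E, f ^ 2 ∈ A) (hgA : ∀ g : G, ∀ a ∈ A, g * a = a * g) (h3 : ¬ 3 ∣ Nat.card G)
    (hmax : ∀ B : Subgroup G, B.Normal → IsMulCommutative B → A ≤ B → B = A)
    [(A.subgroupOf E).Normal]
    (hcard : Nat.card (E ⧸ A.subgroupOf E) = 16 ∨ Nat.card (E ⧸ A.subgroupOf E) = 64) :
    ∃ p : ℕ, p.Prime ∧ p ≠ 3 ∧ p ∣ Nat.card G ∧ p ∣ Nat.card (E ⧸ A.subgroupOf E) - 1 ∧
      p ∣ Nat.card {x : E ⧸ A.subgroupOf E // x ≠ 1 ∧ ∃ f : E, (f : E ⧸ A.subgroupOf E) = x ∧ ρ ((f : G) ^ 2) = 1} := by
  classical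
  haveI := hl.normal
  let X := E ⧸ A.subgroupOf E
  letI : CommGroup X :=
    { (inferInstance : Group X) with
      mul_comm := fun x y => by
        obtain ⟨x, rfl⟩ := QuotientGroup.mk_surjective x
        obtain ⟨y, rfl⟩ := QuotientGroup.mk_surjective y
        rw [← QuotientGroup.mk_mul, ← QuotientGroup.mk_mul, QuotientGroup.eq, Subgroup.mem_subgroupOf]
        push_cast
        rw [show ((x : G) * y)⁻¹ * (y * x) = ⁅(y : G)⁻¹, (x : G)⁻¹⁆ by rw [commutatorElement_def]; group]
        exact hl.der _ (E.inv_mem y.2) _ (E.inv_mem x.2) }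
  have hexp : ∀ x : X, x ^ 2 = 1 := fun x => by
    obtain ⟨x, rfl⟩ := QuotientGroup.mk_surjective x
    rw [← QuotientGroup.mk_pow, QuotientGroup.eq_one_iff, Subgroup.mem_subgroupOf]
    push_cast
    exact hsq _ x.2
  -- the pairing
  have hP : ∀ x y : X, ∃ b : Bool, ∀ f h : E, (f : X) = x → (h : X) = y → cb (f : G) h = b := by
    intro x y
    obtain ⟨f₀, rfl⟩ := QuotientGroup.mk_surjective x
    obtain ⟨h₀, rfl⟩ := QuotientGroup.mk_surjective y
    refine ⟨cb (f₀ : G) h₀, fun f h hf hh => ?_⟩
    rw [QuotientGroup.eq, Subgroup.mem_subgroupOf] at hf hh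
    push_cast at hf hh
    have e1 : (f₀ : G) = f * ((f : G)⁻¹ * f₀) := by group
    have e2 : (h₀ : G) = h * ((h : G)⁻¹ * h₀) := by group
    rw [e1, e2, cb_mul_left hl hsq h2 f.2 (hl.le hf) (E.mul_mem h.2 (hl.le hh)),
      cb_symm ((f : G)⁻¹ * f₀), cb_scalar hl hsq h2 (E.mul_mem h.2 (hl.le hh)) hf, Bool.xor_false,
      cb_mul_right hl hsq h2 h.2 (hl.le hh) f.2, cb_scalar hl hsq h2 f.2 hh, Bool.xor_false]
  choose P hP using hP
  have hPmul : ∀ x y z : X, P (x * y) z = (P x z ^^ P y z) := by
    intro x y z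
    obtain ⟨f, rfl⟩ := QuotientGroup.mk_surjective x
    obtain ⟨h, rfl⟩ := QuotientGroup.mk_surjective y
    obtain ⟨l, rfl⟩ := QuotientGroup.mk_surjective z
    rw [← QuotientGroup.mk_mul, ← hP _ _ (f * h) l rfl rfl, ← hP _ _ f l rfl rfl, ← hP _ _ h l rfl rfl, Subgroup.coe_mul,
      cb_mul_left hl hsq h2 f.2 h.2 l.2]
  have hPsymm : ∀ x y, P x y = P y x := by
    intro x y
    obtain ⟨f, rfl⟩ := QuotientGroup.mk_surjective x
    obtain ⟨h, rfl⟩ := QuotientGroup.mk_surjective y
    rw [← hP _ _ f h rfl rfl, ← hP _ _ h f rfl rfl, cb_symm]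
  have hPone : ∀ x, P 1 x = false := fun x => by
    have := hPmul 1 1 x
    rw [mul_one, Bool.xor_self] at this
    exact this
  have hPself : ∀ x, P x x = false := fun x => by
    obtain ⟨f, rfl⟩ := QuotientGroup.mk_surjective x
    rw [← hP _ _ f f rfl rfl, cb_self]
  -- the action
  let cE : G → E →* E := fun g =>
    { toFun := fun x => ⟨g * x * g⁻¹, hl.normal.conj_mem x x.2 g⟩
      map_one' := Subtype.ext (by simp)
      map_mul' := fun x y => Subtype.ext (by
        show g * ((x * y : E) : G) * g⁻¹ = g * x * g⁻¹ * (g * y * g⁻¹)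
        rw [Subgroup.coe_mul]; group) }
  let act : G → X →* X := fun g => QuotientGroup.map _ _ (cE g) fun x hx => by
    rw [Subgroup.mem_comap, Subgroup.mem_subgroupOf]
    rw [Subgroup.mem_subgroupOf] at hx
    show g * (x : G) * g⁻¹ ∈ A
    rw [hgA g _ hx, mul_inv_cancel_right]
    exact hx
  have hact_mk : ∀ g (x : E), act g (x : X) = ((cE g x : E) : X) := fun g x => rfl
  have hact1 : ∀ x, act 1 x = x := fun x => by
    obtain ⟨x, rfl⟩ := QuotientGroup.mk_surjective x
    rw [hact_mk]
    exact congrArg _ (Subtype.ext (show (1 : G) * x * 1⁻¹ = x by simp))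
  have hactmul : ∀ g h x, act (g * h) x = act g (act h x) := fun g h x => by
    obtain ⟨x, rfl⟩ := QuotientGroup.mk_surjective x
    rw [hact_mk, hact_mk, hact_mk]
    exact congrArg _ (Subtype.ext (show g * h * x * (g * h)⁻¹ = g * (h * x * h⁻¹) * g⁻¹ by group))
  have hPinv : ∀ g x y, P (act g x) (act g y) = P x y := by
    intro g x y
    obtain ⟨f, rfl⟩ := QuotientGroup.mk_surjective x
    obtain ⟨h, rfl⟩ := QuotientGroup.mk_surjective y
    rw [hact_mk, hact_mk, ← hP _ _ (cE g f) (cE g h) rfl rfl, ← hP _ _ f h rfl rfl]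
    have key : ∀ a b : G, (g * a * g⁻¹) * (g * b * g⁻¹) = g * (a * b) * g⁻¹ := fun a b => by group
    have h1 : cb (g * (f : G) * g⁻¹) (g * (h : G) * g⁻¹) = false ↔ cb (f : G) h = false := by
      rw [cb_eq_false, cb_eq_false, key, key, mul_left_inj, mul_right_inj]
    show cb (g * (f : G) * g⁻¹) (g * (h : G) * g⁻¹) = _
    revert h1
    cases cb (g * (f : G) * g⁻¹) (g * (h : G) * g⁻¹) <;> cases cb (f : G) h <;> simp
  -- invariant subgroups without pairing are trivial
  have hiso : ∀ U : Subgroup X, (∀ g, ∀ x ∈ U, act g x ∈ U) → (∀ x ∈ U, ∀ y ∈ U, P x y = false) → U = ⊥ := by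
    intro U hinv hU
    let B : Subgroup G := (U.comap (QuotientGroup.mk' (A.subgroupOf E))).map E.subtype
    have hmem : ∀ x, x ∈ B ↔ ∃ h : x ∈ E, ((⟨x, h⟩ : E) : X) ∈ U := by
      intro x
      constructor
      · rintro ⟨y, hy, rfl⟩; exact ⟨y.2, hy⟩
      · rintro ⟨h, hx⟩; exact ⟨⟨x, h⟩, hx, rfl⟩
    have hBn : B.Normal := ⟨fun x hx g => by
      obtain ⟨h, hxU⟩ := (hmem x).1 hx
      exact (hmem _).2 ⟨hl.normal.conj_mem x h g, hinv g _ hxU⟩⟩
    have hBc : IsMulCommutative B := ⟨⟨fun x y => Subtype.ext (by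
      obtain ⟨hx, hxU⟩ := (hmem x).1 x.2
      obtain ⟨hy, hyU⟩ := (hmem y).1 y.2
      refine cb_eq_false.1 ?_
      rw [hP _ _ ⟨x, hx⟩ ⟨y, hy⟩ rfl rfl]
      exact hU _ hxU _ hyU)⟩⟩
    have hAB : A ≤ B := fun a ha => (hmem a).2 ⟨hl.le ha, by
      rw [(QuotientGroup.eq_one_iff (⟨a, hl.le ha⟩ : E)).2 (Subgroup.mem_subgroupOf.2 ha)]
      exact U.one_mem⟩
    have hBA := hmax B hBn hBc hAB
    rw [Subgroup.eq_bot_iff_forall]
    intro x hx
    obtain ⟨f, rfl⟩ := QuotientGroup.mk_surjective x
    rw [QuotientGroup.eq_one_iff, Subgroup.mem_subgroupOf, ← hBA]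
    exact (hmem _).2 ⟨f.2, hx⟩
  have hnofix : ∀ x, (∀ g, act g x = x) → x = 1 := by
    intro x hx
    have := hiso (Subgroup.zpowers x) (fun g y hy => by
      obtain ⟨n, rfl⟩ := Subgroup.mem_zpowers_iff.1 hy
      rw [map_zpow, hx g]
      exact hy) (fun y hy z hz => by
      have hcases : ∀ y ∈ Subgroup.zpowers x, y = 1 ∨ y = x := fun y hy => by
        obtain ⟨n, rfl⟩ := Subgroup.mem_zpowers_iff.1 hy
        rcases Int.even_or_odd' n with ⟨j, rfl | rfl⟩
        · left; rw [zpow_mul, show x ^ (2 : ℤ) = 1 from by exact_mod_cast hexp x, one_zpow]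
        · right; rw [zpow_add, zpow_mul, show x ^ (2 : ℤ) = 1 from by exact_mod_cast hexp x, one_zpow, one_mul, zpow_one]
      rcases hcases y hy with rfl | rfl <;> rcases hcases z hz with rfl | rfl <;>
        simp [hPone, hPsymm _ (1 : X), hPself])
    exact Subgroup.mem_bot.1 (this ▸ Subgroup.mem_zpowers x)
  -- the kernel
  let K : Subgroup G :=
    { carrier := {g | ∀ x, act g x = x}
      one_mem' := hact1
      mul_mem' := fun {a b} ha hb x => by rw [hactmul, hb, ha]
      inv_mem' := fun {a} ha x => by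
        conv_lhs => rw [← ha x]
        rw [← hactmul, inv_mul_cancel, hact1] }
  have hKinj : ∀ g, ∀ x y, act g x = act g y → x = y := fun g x y h => by
    have := congrArg (act g⁻¹) h
    rwa [← hactmul, ← hactmul, inv_mul_cancel, hact1, hact1] at this
  haveI hKn : K.Normal := ⟨fun a ha g x => by rw [hactmul, hactmul, ha, ← hactmul, mul_inv_cancel, hact1]⟩
  have hKtop : K ≠ ⊤ := fun h => by
    obtain ⟨x, hx⟩ : ∃ x : X, x ≠ 1 := by
      have hX : Nat.card X = 16 ∨ Nat.card X = 64 := hcard
      haveI : Nontrivial X := Finite.one_lt_card_iff_nontrivial.1 (by omega)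
      exact exists_ne 1
    exact hx (hnofix x fun g => (h ▸ Subgroup.mem_top g : g ∈ K) x)
  haveI : Nontrivial (G ⧸ K) := by
    rw [← not_subsingleton_iff_nontrivial]
    intro h
    refine hKtop ((Subgroup.eq_top_iff' K).2 fun g => ?_)
    rw [← QuotientGroup.eq_one_iff]
    exact Subsingleton.elim _ _
  haveI := hsol
  obtain ⟨p, R, hp, hRn, hR, hRp⟩ := exists_normal_prime (H := G ⧸ K) inferInstance
  let U : Subgroup X :=
    { carrier := {x | ∀ g : G, (g : G ⧸ K) ∈ R → act g x = x}
      one_mem' := fun g _ => map_one _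
      mul_mem' := fun {a b} ha hb g hg => by rw [map_mul, ha g hg, hb g hg]
      inv_mem' := fun {a} ha g hg => by rw [map_inv, ha g hg] }
  have hUinv : ∀ g, ∀ x ∈ U, act g x ∈ U := by
    intro g x hx r hr
    have h1 : ((g⁻¹ * r * g : G) : G ⧸ K) ∈ R := by
      have := hRn.conj_mem _ hr ((g⁻¹ : G) : G ⧸ K)
      simpa using this
    have h3 := congrArg (act g) (hx _ h1)
    rwa [← hactmul, show g * (g⁻¹ * r * g) = r * g by group, hactmul] at h3
  have hUtop : U ≠ ⊤ := fun h => hR ((Subgroup.eq_bot_iff_forall R).2 fun r hr => by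
    obtain ⟨g, rfl⟩ := QuotientGroup.mk_surjective r
    rw [QuotientGroup.eq_one_iff]
    exact fun x => (h ▸ Subgroup.mem_top x : x ∈ U) g hr)
  have hpG : p ∣ Nat.card G := by
    haveI := Fact.mk hp
    obtain ⟨n, hn⟩ := IsPGroup.iff_card.1 hRp
    have hn0 : n ≠ 0 := fun e => hR (Subgroup.card_eq_one.1 (by rw [hn, e, pow_zero]))
    exact ((dvd_pow_self p hn0).trans (hn ▸ Subgroup.card_subgroup_dvd_card R)).trans
      (Subgroup.card_quotient_dvd_card K)
  haveI := Fact.mk hp
  by_cases hUbot : U = ⊥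
  · refine ⟨p, hp, fun e => h3 (e ▸ hpG), hpG, ?_, ?_⟩
    · letI : MulAction R X :=
        { smul := fun r x => act (r : G ⧸ K).out x
          one_smul := fun x => by
            show act ((1 : R) : G ⧸ K).out x = x
            have h1 : ((1 : R) : G ⧸ K).out ∈ K := by
              rw [← QuotientGroup.eq_one_iff]; exact QuotientGroup.out_eq' _
            exact h1 x
          mul_smul := fun r s x => by
            show act ((r * s : R) : G ⧸ K).out x = act (r : G ⧸ K).out (act (s : G ⧸ K).out x)
            rw [← hactmul]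
            have h1 : ((r : G ⧸ K).out * (s : G ⧸ K).out)⁻¹ * ((r * s : R) : G ⧸ K).out ∈ K := by
              rw [← QuotientGroup.eq, QuotientGroup.mk_mul, QuotientGroup.out_eq', QuotientGroup.out_eq',
                QuotientGroup.out_eq', Subgroup.coe_mul]
            conv_lhs => rw [show ((r * s : R) : G ⧸ K).out = (r : G ⧸ K).out * (s : G ⧸ K).out *
              (((r : G ⧸ K).out * (s : G ⧸ K).out)⁻¹ * ((r * s : R) : G ⧸ K).out) by group]
            rw [hactmul, h1] }
      have hfixed : ∀ x : X, x ∈ MulAction.fixedPoints R X → x = 1 := fun x hx => by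
        refine Subgroup.mem_bot.1 (hUbot ▸ (fun g hg => ?_ : x ∈ U))
        have h1 := hx ⟨(g : G ⧸ K), hg⟩
        change act (g : G ⧸ K).out x = x at h1
        have h2' : g⁻¹ * (g : G ⧸ K).out ∈ K := by
          rw [← QuotientGroup.eq, QuotientGroup.out_eq']
        rw [show (g : G ⧸ K).out = g * (g⁻¹ * (g : G ⧸ K).out) by group, hactmul, h2'] at h1
        exact h1
      have h1 : Nat.card (MulAction.fixedPoints R X) = 1 := by
        rw [Nat.card_eq_one_iff_unique]
        exact ⟨⟨fun a b => Subtype.ext ((hfixed _ a.2).trans (hfixed _ b.2).symm)⟩, ⟨⟨1, fun r => map_one _⟩⟩⟩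
      have h4 := hRp.card_modEq_card_fixedPoints X
      rw [h1] at h4
      exact (Nat.modEq_iff_dvd' (by rcases hcard with e | e <;> omega)).1 h4.symm
    · have hSinv : ∀ g (x : X), (∃ f : E, (f : X) = x ∧ ρ ((f : G) ^ 2) = 1) →
          ∃ f : E, (f : X) = act g x ∧ ρ ((f : G) ^ 2) = 1 := by
        intro g x hx
        obtain ⟨f, hf, hf2⟩ := hx
        refine ⟨cE g f, by rw [← hf, hact_mk], ?_⟩
        show ρ ((g * (f : G) * g⁻¹) ^ 2) = 1
        rw [conj_pow, hgA g _ (hsq _ f.2), mul_inv_cancel_right, hf2]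
      let S := {x : X // x ≠ 1 ∧ ∃ f : E, (f : X) = x ∧ ρ ((f : G) ^ 2) = 1}
      let sm : G → S → S := fun g x => ⟨act g x.1,
        fun e => x.2.1 (hKinj g _ _ (e.trans (map_one _).symm)), hSinv g x.1 x.2.2⟩
      have hsm : ∀ g h, g⁻¹ * h ∈ K → ∀ x, sm g x = sm h x := fun g h hk x => Subtype.ext (by
        show act g x.1 = act h x.1
        conv_rhs => rw [show h = g * (g⁻¹ * h) by group, hactmul, hk x.1])
      letI : MulAction R S :=
        { smul := fun r x => sm (r : G ⧸ K).out x
          one_smul := fun x => Subtype.ext (by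
            show act ((1 : R) : G ⧸ K).out x.1 = x.1
            have h1 : ((1 : R) : G ⧸ K).out ∈ K := by
              rw [← QuotientGroup.eq_one_iff]; exact QuotientGroup.out_eq' _
            exact h1 x.1)
          mul_smul := fun r s x => by
            show sm ((r * s : R) : G ⧸ K).out x = sm (r : G ⧸ K).out (sm (s : G ⧸ K).out x)
            rw [← hsm ((r : G ⧸ K).out * (s : G ⧸ K).out) ((r * s : R) : G ⧸ K).out (by
              rw [← QuotientGroup.eq, QuotientGroup.mk_mul, QuotientGroup.out_eq', QuotientGroup.out_eq',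
                QuotientGroup.out_eq', Subgroup.coe_mul]) x]
            exact Subtype.ext (hactmul _ _ _) }
      have h1 : Nat.card (MulAction.fixedPoints R S) = 0 := by
        refine @Nat.card_of_isEmpty _ ⟨fun x => x.1.2.1 (Subgroup.mem_bot.1 (hUbot ▸ (fun g hg => ?_ : x.1.1 ∈ U)))⟩
        have h1 := congrArg Subtype.val (x.2 ⟨(g : G ⧸ K), hg⟩)
        change act (g : G ⧸ K).out x.1.1 = x.1.1 at h1
        have h2' : g⁻¹ * (g : G ⧸ K).out ∈ K := by
          rw [← QuotientGroup.eq, QuotientGroup.out_eq']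
        rw [show (g : G ⧸ K).out = g * (g⁻¹ * (g : G ⧸ K).out) by group, hactmul, h2'] at h1
        exact h1
      have h4 := hRp.card_modEq_card_fixedPoints S
      rw [h1] at h4
      exact Nat.modEq_zero_iff_dvd.1 h4
  -- an invariant proper nondegenerate subgroup
  exfalso
  let D : Subgroup X :=
    { carrier := {x | ∀ u ∈ U, P x u = false}
      one_mem' := fun u _ => hPone u
      mul_mem' := fun {a b} ha hb u hu => by rw [hPmul, ha u hu, hb u hu, Bool.xor_self]
      inv_mem' := fun {a} ha => by
        rw [show a⁻¹ = a from inv_eq_of_mul_eq_one_left (by rw [← pow_two]; exact hexp a)]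
        exact ha }
  have hDinv : ∀ g, ∀ x ∈ D, act g x ∈ D := by
    intro g x hx u hu
    rw [show u = act g (act g⁻¹ u) by rw [← hactmul, mul_inv_cancel, hact1], hPinv]
    exact hx _ (hUinv g⁻¹ u hu)
  have hmeet : U ⊓ D = ⊥ := hiso _ (fun g x hx => ⟨hUinv g x hx.1, hDinv g x hx.2⟩)
    fun x hx y hy => hx.2 y hy.1
  have hsum : Nat.card U * Nat.card D = Nat.card X := by
    haveI : Module (ZMod 2) (Additive U) := AddCommGroup.zmodModule (fun x => by
      apply Additive.toMul.injective
      rw [toMul_nsmul, toMul_zero]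
      exact Subtype.ext (by push_cast; exact hexp _))
    haveI : FiniteDimensional (ZMod 2) (Additive U) := Module.Finite.of_finite
    let Φ : X → Module.Dual (ZMod 2) (Additive U) := fun x =>
      { toFun := fun u => bitNum (P x (Additive.toMul u : U))
        map_add' := fun a b => by
          show bitNum (P x ((Additive.toMul a * Additive.toMul b : U) : X)) = _
          rw [Subgroup.coe_mul, hPsymm, hPmul, bitNum_xor, hPsymm, hPsymm _ x]
        map_smul' := fun c a => by
          rcases (by decide : ∀ c : ZMod 2, c = 0 ∨ c = 1) c with rfl | rfl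
          · rw [zero_smul, RingHom.id_apply, zero_smul]
            show bitNum (P x ((1 : U) : X)) = 0
            rw [OneMemClass.coe_one, hPsymm, hPone]; rfl
          · simp }
    have hΦ : ∀ x y, Φ (x * y) = Φ x + Φ y := fun x y => LinearMap.ext fun u => by
      show bitNum (P (x * y) _) = bitNum (P x _) + bitNum (P y _)
      rw [hPmul, bitNum_xor]
    let ψ : U → Module.Dual (ZMod 2) (Additive U) := fun u => Φ u
    have hsq' : ∀ a : X, a⁻¹ = a := fun a => inv_eq_of_mul_eq_one_left (by rw [← pow_two]; exact hexp a)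
    have hdual0 : ∀ z : Module.Dual (ZMod 2) (Additive U), z + z = 0 := fun z => LinearMap.ext fun u =>
      CharTwo.add_self_eq_zero _
    have hψ : Function.Injective ψ := by
      intro a b hab
      have hmem : ((a * b : U) : X) ∈ U ⊓ D := ⟨(a * b).2, fun u hu => by
        refine bitNum_inj ?_
        show Φ ((a * b : U) : X) (Additive.ofMul ⟨u, hu⟩) = bitNum false
        rw [Subgroup.coe_mul, hΦ, show Φ (a : X) = Φ (b : X) from hab, hdual0]
        rfl⟩
      rw [hmeet, Subgroup.mem_bot, Subgroup.coe_mul] at hmem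
      exact Subtype.ext (by rw [← hsq' (b : X)]; exact eq_inv_of_mul_eq_one_left hmem)
    have hcardd : Nat.card (Module.Dual (ZMod 2) (Additive U)) = Nat.card U := by
      haveI : Finite (Module.Dual (ZMod 2) (Additive U)) := Finite.of_injective _ DFunLike.coe_injective
      rw [Module.natCard_eq_pow_finrank (K := ZMod 2), Subspace.dual_finrank_eq,
        ← Module.natCard_eq_pow_finrank (K := ZMod 2)]
      exact Nat.card_congr Additive.toMul
    haveI : Finite (Module.Dual (ZMod 2) (Additive U)) := Finite.of_injective _ DFunLike.coe_injective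
    have hψs : Function.Surjective ψ := (hψ.bijective_of_nat_card_le hcardd.le).2
    have hbij : Function.Bijective (fun q : U × D => (q.1 : X) * q.2) := by
      refine ⟨fun q q' h => ?_, fun x => ?_⟩
      · change (q.1 : X) * q.2 = q'.1 * q'.2 at h
        have h1 : ψ q.1 = ψ q'.1 := by
          have h5 := congrArg Φ h
          have hD0 : ∀ d : D, Φ (d : X) = 0 := fun d => LinearMap.ext fun u => by
            show bitNum (P (d : X) _) = 0
            rw [d.2 _ (Additive.toMul u : U).2]; rfl
          rwa [hΦ, hΦ, hD0, hD0, add_zero, add_zero] at h5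
        have h6 := hψ h1
        rw [h6] at h
        exact Prod.ext h6 (Subtype.ext (mul_left_cancel h))
      · obtain ⟨u, hu⟩ := hψs (Φ x)
        refine ⟨(u, ⟨(u : X) * x, fun v hv => bitNum_inj ?_⟩), ?_⟩
        · show Φ ((u : X) * x) (Additive.ofMul ⟨v, hv⟩) = bitNum false
          rw [hΦ, show Φ (u : X) = Φ x from hu, hdual0]
          rfl
        · show (u : X) * ((u : X) * x) = x
          rw [← mul_assoc, ← pow_two, hexp, one_mul]
    rw [← Nat.card_prod, Nat.card_congr (Equiv.ofBijective _ hbij)]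
  have hDbot : D ≠ ⊥ := fun h => hUtop (Subgroup.eq_top_of_card_eq _ (by
    rw [← hsum, h, Subgroup.card_bot, mul_one]))
  -- an invariant subgroup with at most eight elements
  have hsmall : ∀ W : Subgroup X, W ≠ ⊥ → (∀ g, ∀ x ∈ W, act g x ∈ W) →
      (∀ x ∈ W, (∀ y ∈ W, P x y = false) → x = 1) →
      Nat.card W ≠ 2 ∧ Nat.card W ≠ 4 ∧ Nat.card W ≠ 8 := by
    intro W hW hWinv hrad
    obtain ⟨a, haW, ha⟩ := (Subgroup.ne_bot_iff_exists_ne_one).1 hW |> fun ⟨a, ha⟩ =>
      (⟨(a : X), a.2, fun e => ha (Subtype.ext e)⟩ : ∃ a, a ∈ W ∧ a ≠ (1 : X))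
    obtain ⟨b, hbW, hab⟩ : ∃ b ∈ W, P a b = true := by
      by_contra hcon
      push Not at hcon
      exact ha (hrad a haW fun y hy => Bool.eq_false_iff.2 (hcon y hy))
    have hinj4 : Function.Injective (fun q : Bool × Bool =>
        (⟨(if q.1 then a else 1) * (if q.2 then b else 1), W.mul_mem (by split; exacts [haW, W.one_mem])
          (by split; exacts [hbW, W.one_mem])⟩ : W)) := by
      intro q q' h
      have h' := congrArg Subtype.val h
      have e : ∀ q : Bool × Bool,
          P ((if q.1 then a else 1) * (if q.2 then b else 1)) b = q.1 ∧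
          P ((if q.1 then a else 1) * (if q.2 then b else 1)) a = q.2 := by
        rintro ⟨i, j⟩
        rw [hPmul, hPmul]
        cases i <;> cases j <;> simp [hPone, hab, hPself, hPsymm b a]
      exact Prod.ext (by rw [← (e q).1, ← (e q').1]; exact congrArg (P · b) h')
        (by rw [← (e q).2, ← (e q').2]; exact congrArg (P · a) h')
    have h4le : 4 ≤ Nat.card W := by
      have := Nat.card_le_card_of_injective _ hinj4
      simpa using this
    refine ⟨by omega, fun h4 => ?_, fun h8 => ?_⟩
    · -- three points are permuted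
      let Y := {y : W // y ≠ 1}
      letI : MulAction G Y :=
        { smul := fun g y => ⟨⟨act g y.1.1, hWinv g _ y.1.2⟩, fun e => y.2 (Subtype.ext (hKinj g _ _
            ((congrArg Subtype.val e).trans (map_one _).symm)))⟩
          one_smul := fun y => Subtype.ext (Subtype.ext (hact1 _))
          mul_smul := fun g h y => Subtype.ext (Subtype.ext (hactmul g h _)) }
      haveI := Fintype.ofFinite W
      haveI : Fintype Y := Fintype.ofFinite Y
      have hY : Nat.card Y = 3 := by
        rw [Nat.card_eq_fintype_card, Fintype.card_subtype_compl, Fintype.card_subtype_eq,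
          ← Nat.card_eq_fintype_card, h4]
      have horb : ∀ y : Y, Nat.card (MulAction.orbit G y) ≠ 3 := fun y e => h3 (by
        rw [← e, Nat.card_coe_set_eq, ← MulAction.index_stabilizer]
        exact Subgroup.index_dvd_card _)
      have hfix : ∃ y : Y, MulAction.orbit G y = {y} := by
        by_contra hcon
        push Not at hcon
        obtain ⟨y⟩ : Nonempty Y := (Nat.card_pos_iff.1 (by omega)).1
        have hne : ∀ y : Y, 2 ≤ Nat.card (MulAction.orbit G y) := fun y => by
          by_contra hlt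
          refine hcon y (Set.eq_singleton_iff_unique_mem.2 ⟨MulAction.mem_orbit_self y, fun z hz => ?_⟩)
          have : Subsingleton (MulAction.orbit G y) := Finite.card_le_one_iff_subsingleton.1 (by omega)
          exact congrArg Subtype.val (Subsingleton.elim (⟨z, hz⟩ : MulAction.orbit G y) ⟨y, MulAction.mem_orbit_self y⟩)
        obtain ⟨z, hz⟩ : ∃ z, z ∉ MulAction.orbit G y := by
          by_contra hall
          push Not at hall
          refine horb y ?_
          rw [Set.eq_univ_of_forall hall, Nat.card_univ, hY]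
        have hdisj : Disjoint (MulAction.orbit G y) (MulAction.orbit G z) := by
          rw [Set.disjoint_left]
          intro x hx hx'
          refine hz ?_
          rw [← MulAction.orbit_eq_iff.2 hx, MulAction.orbit_eq_iff.2 hx']
          exact MulAction.mem_orbit_self z
        have h5 := Set.ncard_le_ncard (Set.subset_univ (MulAction.orbit G y ∪ MulAction.orbit G z))
        rw [Set.ncard_union_eq hdisj, Set.ncard_univ, hY, ← Nat.card_coe_set_eq, ← Nat.card_coe_set_eq] at h5
        have := hne y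
        have := hne z
        omega
      obtain ⟨y, hy⟩ := hfix
      refine y.2 (Subtype.ext (hnofix _ fun g => ?_))
      have h6 : g • y = y := by
        have := MulAction.mem_orbit y g
        rwa [hy, Set.mem_singleton_iff] at this
      exact congrArg (fun t : Y => t.1.1) h6
    · haveI := Fintype.ofFinite W
      obtain ⟨x, y, hne, hxy⟩ := Fintype.exists_ne_map_eq_of_card_lt
        (α := W) (β := Bool × Bool) (h := by rw [← Nat.card_eq_fintype_card, ← Nat.card_eq_fintype_card, h8]; simp)
        (fun x => (P x b, P x a))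
      -- a point of the radical
      set c : X := (x : X) * y with hc
      have hc1 : c ≠ 1 := fun e => hne (Subtype.ext (by
        rw [← inv_eq_of_mul_eq_one_left (show (y : X) * y = 1 by rw [← pow_two]; exact hexp _)]
        exact eq_inv_of_mul_eq_one_left e))
      simp only [Prod.mk.injEq] at hxy
      have hcb : P c b = false ∧ P c a = false := by
        rw [hc, hPmul, hPmul, hxy.1, hxy.2, Bool.xor_self, Bool.xor_self]; exact ⟨rfl, rfl⟩
      have hcW : c ∈ W := W.mul_mem x.2 y.2
      let m8 : Bool × Bool × Bool → W := fun q =>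
        ⟨(if q.1 then a else 1) * (if q.2.1 then b else 1) * (if q.2.2 then c else 1),
          W.mul_mem (W.mul_mem (by split; exacts [haW, W.one_mem]) (by split; exacts [hbW, W.one_mem]))
            (by split; exacts [hcW, W.one_mem])⟩
      have hm8 : Function.Injective m8 := by
        intro q q' h
        have h' := congrArg Subtype.val h
        have e : ∀ q : Bool × Bool × Bool, P (m8 q : X) b = q.1 ∧ P (m8 q : X) a = q.2.1 := by
          rintro ⟨i, j, l⟩
          simp only [m8, hPmul]
          cases i <;> cases j <;> cases l <;> simp [hPone, hab, hPself, hPsymm b a, hcb.1, hcb.2]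
        have e1 : q.1 = q'.1 := by rw [← (e q).1, ← (e q').1]; exact congrArg (P · b) h'
        have e2 : q.2.1 = q'.2.1 := by rw [← (e q).2, ← (e q').2]; exact congrArg (P · a) h'
        obtain ⟨i, j, l⟩ := q
        obtain ⟨i', j', l'⟩ := q'
        simp only at e1 e2
        subst e1; subst e2
        change (_ : X) * _ = _ * _ at h'
        have h7 := mul_left_cancel h'
        cases l <;> cases l'
        · rfl
        · exact absurd h7.symm (by simpa using hc1)
        · exact absurd h7 (by simpa using hc1)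
        · rfl
      have hsurj := (hm8.bijective_of_nat_card_le (by rw [h8]; simp)).2
      refine hc1 (hrad c hcW fun z hz => ?_)
      obtain ⟨⟨i, j, l⟩, hq⟩ := hsurj ⟨z, hz⟩
      rw [show z = (m8 (i, j, l) : X) by rw [hq]]
      simp only [m8, hPsymm c, hPmul]
      have hca : P a c = false := by rw [hPsymm, hcb.2]
      have hcb' : P b c = false := by rw [hPsymm, hcb.1]
      cases i <;> cases j <;> cases l <;> simp [hPone, hPself, hca, hcb']
  have hmemD : ∀ x ∈ U, (∀ y ∈ U, P x y = false) → x = 1 := fun x hx h =>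
    Subgroup.mem_bot.1 (hmeet ▸ (⟨hx, h⟩ : x ∈ U ⊓ D))
  have hradD : ∀ x ∈ D, (∀ y ∈ D, P x y = false) → x = 1 := by
    intro x hx h
    have hcl : ∀ y, P x y = false := by
      intro y
      obtain ⟨⟨u, d⟩, hud⟩ : ∃ q : U × D, (q.1 : X) * q.2 = y := by
        have hinj : Function.Injective (fun q : U × D => (q.1 : X) * q.2) := by
          intro q q' e
          change (q.1 : X) * q.2 = q'.1 * q'.2 at e
          have hmem : (q'.1 : X)⁻¹ * q.1 ∈ U ⊓ D := ⟨U.mul_mem (U.inv_mem q'.1.2) q.1.2, by
            rw [show (q'.1 : X)⁻¹ * q.1 = q'.2 * (q.2 : X)⁻¹ by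
              rw [inv_mul_eq_iff_eq_mul, ← mul_assoc, ← e, mul_inv_cancel_right]]
            exact D.mul_mem q'.2.2 (D.inv_mem q.2.2)⟩
          rw [hmeet, Subgroup.mem_bot, inv_mul_eq_one] at hmem
          have h1 : q.1 = q'.1 := Subtype.ext hmem.symm
          rw [h1] at e
          exact Prod.ext h1 (Subtype.ext (mul_left_cancel e))
        exact (hinj.bijective_of_nat_card_le (by rw [Nat.card_prod, hsum])).2 y
      rw [← hud, hPsymm, hPmul, hPsymm, hx _ u.2, hPsymm, h _ d.2, Bool.xor_self]
    refine Subgroup.mem_bot.1 (hiso (Subgroup.closure {y | ∀ z, P y z = false}) (fun g y hy => ?_) (fun y hy z hz => ?_) ▸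
      Subgroup.subset_closure hcl)
    all_goals
      have hclosed : ∀ y ∈ Subgroup.closure {y : X | ∀ z, P y z = false}, ∀ z, P y z = false := fun y hy => by
        induction hy using Subgroup.closure_induction with
        | mem y hy => exact hy
        | one => exact hPone
        | mul a b _ _ iha ihb => exact fun z => by rw [hPmul, iha, ihb, Bool.xor_self]
        | inv a _ iha =>
          rw [show a⁻¹ = a from inv_eq_of_mul_eq_one_left (by rw [← pow_two]; exact hexp a)]; exact iha
    · refine Subgroup.subset_closure fun z => ?_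
      rw [show z = act g (act g⁻¹ z) by rw [← hactmul, mul_inv_cancel, hact1], hPinv]
      exact hclosed y hy _
    · exact hclosed y hy z
  obtain ⟨u2, u4, u8⟩ := hsmall U hUbot hUinv hmemD
  obtain ⟨d2, d4, d8⟩ := hsmall D hDbot hDinv hradD
  have hU1 : Nat.card U ≠ 1 := fun e => hUbot (Subgroup.card_eq_one.1 e)
  have hD1 : Nat.card D ≠ 1 := fun e => hDbot (Subgroup.card_eq_one.1 e)
  have hUd : Nat.card U ∣ Nat.card X := ⟨_, hsum.symm⟩
  rcases hcard with e | e <;> rw [show Nat.card X = _ from e] at hsum hUd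
  · have : Nat.card U ≤ 16 := Nat.le_of_dvd (by norm_num) hUd
    interval_cases hc : Nat.card U <;> omega
  · have : Nat.card U ≤ 64 := Nat.le_of_dvd (by norm_num) hUd
    interval_cases hc : Nat.card U <;> omega

end Cfsg.Agent.CopBase
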