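import Cfsg.Agent.Lib.CopBase.Signed

/-!
Linear maps permuting a projective group of signed words and fixing two vectors.
-/

set_option autoImplicit false
set_option linter.style.haveILetI false

namespace Cfsg.Agent.CopBase

/-- The sign of a bit. -/
def bitSign (F : Type*) [Field F] (b : Bool) : F := if b then -1 else 1

section sign
variable {F : Type*} [Field F]

lemma bitSign_xor (a b : Bool) : bitSign F (a ^^ b) = bitSign F a * bitSign F b := by
  cases a <;> cases b <;> simp [bitSign]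

lemma bitSign_mul_self (a : Bool) : bitSign F a * bitSign F a = 1 := by cases a <;> simp [bitSign]

lemma bitSign_ne_zero (a : Bool) : bitSign F a ≠ 0 := by cases a <;> simp [bitSign]

lemma bitSign_inj (h2 : (2 : F) ≠ 0) {a b : Bool} (h : bitSign F a = bitSign F b) : a = b := by
  have key : (1 : F) ≠ -1 := fun e => h2 (by linear_combination e)
  cases a <;> cases b <;> simp [bitSign] at h ⊢
  · exact key h
  · exact key h.symm

end sign

/-- Operators indexed by bit strings, closed under products up to sign, with an invariant form. -/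
structure WordModel (F : Type*) [Field F] (V : Type*) [AddCommGroup V] [Module F V] where
  m : ℕ
  op : ℕ → Module.End F V
  bt : ℕ → ℕ → Bool
  form : V →ₗ[F] V →ₗ[F] F
  op_zero : op 0 = 1
  op_mul : ∀ x < 2 ^ m, ∀ y < 2 ^ m, op x * op y = bitSign F (bt x y) • op (x ^^^ y)
  isometry : ∀ x < 2 ^ m, ∀ v w, form (op x v) (op x w) = form v w
  unique : ∀ γ : V →ₗ[F] V →ₗ[F] F,
    (∀ i < m, ∀ v w, γ (op (2 ^ i) v) (op (2 ^ i) w) = γ v w) → ∃ c : F, γ = c • form
  dual : ∀ s < 2 ^ m, ∃ h < 2 ^ m, ∀ i < m, (bt h (2 ^ i) ^^ bt (2 ^ i) h) = s.testBit i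
  nondeg : ∀ x < 2 ^ m, (∀ i < m, bt x (2 ^ i) = bt (2 ^ i) x) → x = 0

variable {F : Type*} [Field F] {V : Type*} [AddCommGroup V] [Module F V]

namespace WordModel
variable (W : WordModel F V)

theorem sq_op {x : ℕ} (hx : x < 2 ^ W.m) : W.op x * W.op x = bitSign F (W.bt x x) • 1 := by
  rw [W.op_mul x hx x hx, Nat.xor_self, W.op_zero]

theorem op_cancel {x : ℕ} (hx : x < 2 ^ W.m) (v : V) :
    bitSign F (W.bt x x) • W.op x (W.op x v) = v := by
  rw [← Module.End.mul_apply, W.sq_op hx, LinearMap.smul_apply, Module.End.one_apply, smul_smul,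
    bitSign_mul_self, one_smul]

theorem comm_op {x y : ℕ} (hx : x < 2 ^ W.m) (hy : y < 2 ^ W.m) :
    W.op x * W.op y = bitSign F (W.bt x y ^^ W.bt y x) • (W.op y * W.op x) := by
  rw [W.op_mul x hx y hy, W.op_mul y hy x hx, Nat.xor_comm y x, smul_smul, bitSign_xor, mul_assoc,
    bitSign_mul_self, mul_one]

theorem op_ne_zero [Nontrivial V] {x : ℕ} (hx : x < 2 ^ W.m) : W.op x ≠ 0 := by
  intro h
  obtain ⟨v, hv⟩ := exists_ne (0 : V)
  refine hv ?_
  rw [← W.op_cancel hx v, h, LinearMap.zero_apply, smul_zero]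

theorem eq_zero_of_scalar [Nontrivial V] (h2 : (2 : F) ≠ 0) {x : ℕ} (hx : x < 2 ^ W.m) {c : F}
    (h : W.op x = c • 1) : x = 0 := by
  refine W.nondeg x hx fun i hi => ?_
  have hy : 2 ^ i < 2 ^ W.m := Nat.pow_lt_pow_right (by omega) hi
  have h1 := W.comm_op hx hy
  have h3 : W.op (2 ^ i) * W.op x = W.op x * W.op (2 ^ i) := by rw [h]; simp
  rw [h3] at h1
  have hne : W.op x * W.op (2 ^ i) ≠ 0 := by
    intro e
    rw [h, smul_mul_assoc, one_mul, smul_eq_zero] at e
    rcases e with e | e
    · exact W.op_ne_zero hx (by rw [h, e, zero_smul])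
    · exact W.op_ne_zero hy e
  have h4 : bitSign F (W.bt x (2 ^ i) ^^ W.bt (2 ^ i) x) = bitSign F false := by
    conv_lhs at h1 => rw [← one_smul F (W.op x * W.op (2 ^ i))]
    exact (smul_left_injective F hne h1).symm.trans (by simp [bitSign])
  have h5 := bitSign_inj h2 h4
  revert h5
  cases W.bt x (2 ^ i) <;> cases W.bt (2 ^ i) x <;> simp

theorem eq_of_prop [Nontrivial V] (h2 : (2 : F) ≠ 0) {x y : ℕ} (hx : x < 2 ^ W.m) (hy : y < 2 ^ W.m)
    {c : F} (h : W.op x = c • W.op y) : x = y := by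
  have h1 := W.op_mul x hx y hy
  rw [h, smul_mul_assoc, W.sq_op hy, smul_smul] at h1
  refine Nat.xor_eq_zero_iff.1 (W.eq_zero_of_scalar h2 (Nat.xor_lt_two_pow hx hy)
    (c := bitSign F (W.bt x y) * (c * bitSign F (W.bt y y))) ?_)
  rw [mul_smul, h1, smul_smul, bitSign_mul_self, one_smul]

/-- The four pairings of a word with two vectors. -/
def colour (u z : V) (x : ℕ) : F × F × F × F :=
  (W.form (W.op x u) u, W.form (W.op x u) z, W.form (W.op x z) u, W.form (W.op x z) z)

/-- Two vectors with a rigid table of pairings have a small common stabiliser. -/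
theorem pow_commute [Nontrivial V] (h2 : (2 : F) ≠ 0) (u z : V) (D : SignData) (hbt : D.bt = W.bt)
    (hsq : ∀ x < 2 ^ W.m, D.sq x = W.bt x x)
    (hcode : ∀ x < 2 ^ W.m, ∀ y < 2 ^ W.m, ∀ b : Bool,
      W.colour u z x = bitSign F b • W.colour u z y → D.col x = if b then D.neg (D.col y) else D.col y)
    (r : ℕ) (es : List ℕ) (hes : es.all (fun e => decide (e < 2 ^ W.m)) = true)
    (hsearch : D.search (2 ^ W.m) r es [(0, 0, false)] = true) (hcov : covers (2 ^ W.m) (spanPts es [0]) = true)
    (hes0 : ∀ e ∈ es, W.colour u z e ≠ 0) (h00 : W.colour u z 0 ≠ 0)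
    (hh : (∀ c : F, c ≠ 0 → c * c = 1) ∨
      ∀ h < 2 ^ W.m, ∀ c : F, W.colour u z 0 = c • W.colour u z h → h = 0)
    (g : Module.End F V) (hg : Function.Injective g) (hgs : Function.Surjective g) (hgu : g u = u)
    (hgz : g z = z)
    (hconj : ∀ x < 2 ^ W.m, ∃ y < 2 ^ W.m, ∃ c : F, g * W.op x = c • (W.op y * g)) :
    ∀ x < 2 ^ W.m, Commute (g ^ r) (W.op x) := by
  classical
  choose! M hMlt c hc using hconj
  have hcancel : ∀ {a b : Module.End F V}, a * g = b * g → a = b := fun {a b} h => LinearMap.ext fun v => by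
    obtain ⟨w, rfl⟩ := hgs v
    exact LinearMap.congr_fun h w
  have hgne : ∀ x < 2 ^ W.m, W.op x * g ≠ 0 := fun x hx e => W.op_ne_zero hx (hcancel (by rw [e, zero_mul]))
  have hc0 : ∀ x < 2 ^ W.m, c x ≠ 0 := by
    intro x hx e
    obtain ⟨v, hv⟩ := exists_ne (0 : V)
    have h1 := LinearMap.congr_fun (hc x hx) v
    rw [e, zero_smul, LinearMap.zero_apply, Module.End.mul_apply] at h1
    have h3 := hg (h1.trans (map_zero g).symm)
    refine hv ?_
    rw [← W.op_cancel hx v, h3, map_zero, smul_zero]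
  -- multiplicativity
  have hmul : ∀ x < 2 ^ W.m, ∀ y < 2 ^ W.m, M (x ^^^ y) = M x ^^^ M y ∧
      bitSign F (W.bt x y) * c (x ^^^ y) = c x * c y * bitSign F (W.bt (M x) (M y)) := by
    intro x hx y hy
    have hxy := Nat.xor_lt_two_pow hx hy
    have hM := Nat.xor_lt_two_pow (hMlt x hx) (hMlt y hy)
    have e1 : g * (W.op x * W.op y) =
        ((c x * c y * bitSign F (W.bt (M x) (M y))) • W.op (M x ^^^ M y)) * g := by
      rw [← mul_assoc, hc x hx, smul_mul_assoc, mul_assoc, hc y hy, mul_smul_comm, ← mul_assoc,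
        W.op_mul _ (hMlt x hx) _ (hMlt y hy), smul_mul_assoc, smul_smul, smul_smul, smul_mul_assoc]
    have e2 : g * (W.op x * W.op y) = ((bitSign F (W.bt x y) * c (x ^^^ y)) • W.op (M (x ^^^ y))) * g := by
      rw [W.op_mul x hx y hy, mul_smul_comm, hc _ hxy, smul_smul, smul_mul_assoc]
    have e3 := hcancel (e2.symm.trans e1)
    have hne : bitSign F (W.bt x y) * c (x ^^^ y) ≠ 0 := mul_ne_zero (bitSign_ne_zero _) (hc0 _ hxy)
    have hMe : M (x ^^^ y) = M x ^^^ M y := by
      refine W.eq_of_prop h2 (hMlt _ hxy) hM (c := (bitSign F (W.bt x y) * c (x ^^^ y))⁻¹ *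
        (c x * c y * bitSign F (W.bt (M x) (M y)))) ?_
      rw [mul_smul, ← e3, smul_smul, inv_mul_cancel₀ hne, one_smul]
    refine ⟨hMe, ?_⟩
    rw [hMe] at e3
    exact smul_left_injective F (W.op_ne_zero hM) e3
  have hpos : (0 : ℕ) < 2 ^ W.m := Nat.two_pow_pos _
  have hM0 : M 0 = 0 := by
    have := (hmul 0 hpos 0 hpos).1
    rwa [Nat.xor_self, Nat.xor_self] at this
  have hc1 : c 0 = 1 := by
    have h1 := hc 0 hpos
    rw [hM0, W.op_zero, mul_one, one_mul] at h1
    have hgne' : g ≠ 0 := fun e => hgne 0 hpos (by rw [e, mul_zero])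
    exact (smul_left_injective F hgne' (h1.symm.trans (one_smul F g).symm))
  have hne : ∀ x < 2 ^ W.m, x ≠ 0 → M x ≠ 0 := by
    intro x hx hx0 e
    have h1 := hc x hx
    rw [e, W.op_zero, one_mul] at h1
    refine hx0 (W.eq_zero_of_scalar h2 hx (c := c x) (LinearMap.ext fun v => hg ?_))
    have h3 := LinearMap.congr_fun h1 v
    simpa using h3
  -- the transported form
  let γ : V →ₗ[F] V →ₗ[F] F := (W.form.comp g).compl₂ g
  have hγ : ∀ v w, γ v w = W.form (g v) (g w) := fun v w => rfl
  have happ : ∀ x < 2 ^ W.m, ∀ v, g (W.op x v) = c x • W.op (M x) (g v) := fun x hx v => by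
    have h1 := LinearMap.congr_fun (hc x hx) v
    simpa using h1
  have hγx : ∀ x < 2 ^ W.m, ∀ v w, γ (W.op x v) (W.op x w) = (c x * c x) * γ v w := by
    intro x hx v w
    rw [hγ, hγ, happ x hx, happ x hx, map_smul, map_smul, LinearMap.smul_apply, W.isometry _ (hMlt x hx),
      smul_eq_mul, smul_eq_mul, mul_assoc]
  have hsq' : ∀ x < 2 ^ W.m, c x * c x = bitSign F (W.bt x x ^^ W.bt (M x) (M x)) := by
    intro x hx
    have h1 := (hmul x hx x hx).2
    rw [Nat.xor_self, hc1, mul_one] at h1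
    rw [bitSign_xor, h1, mul_assoc, bitSign_mul_self, mul_one]
  let f : Fin W.m → Bool := fun i => W.bt (2 ^ (i : ℕ)) (2 ^ (i : ℕ)) ^^ W.bt (M (2 ^ (i : ℕ))) (M (2 ^ (i : ℕ)))
  obtain ⟨s, hs, hsi⟩ : ∃ s < 2 ^ W.m, ∀ i : Fin W.m, s.testBit i = f i := by
    have key : ∀ (j : ℕ) (f : Fin j → Bool), ∃ s < 2 ^ j, ∀ i : Fin j, s.testBit i = f i := by
      intro j
      induction j with
      | zero => exact fun f => ⟨0, by norm_num, fun i => i.elim0⟩
      | succ j ih =>
        intro f
        obtain ⟨s, hs, hsi⟩ := ih (fun i => f i.succ)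
        refine ⟨2 * s + (if f 0 then 1 else 0), ?_, fun i => ?_⟩
        · rw [pow_succ]; split <;> omega
        · refine Fin.cases ?_ (fun i => ?_) i
          · rw [Fin.val_zero, Nat.testBit_zero]
            cases hf : f 0 <;> simp [hf, Nat.add_mod]
          · rw [Fin.val_succ, Nat.testBit_succ, ← hsi i]
            congr 1
            split <;> omega
    exact key _ f
  obtain ⟨h, hh2, hhi⟩ := W.dual s hs
  have hpow : ∀ i < W.m, 2 ^ i < 2 ^ W.m := fun i hi => Nat.pow_lt_pow_right (by omega) hi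
  obtain ⟨c0, hc0'⟩ := W.unique (γ.comp (W.op h)) fun i hi v w => by
    have h1 : W.op h (W.op (2 ^ i) v) =
        bitSign F (s.testBit i) • W.op (2 ^ i) (W.op h v) := by
      have := LinearMap.congr_fun (W.comm_op hh2 (hpow i hi)) v
      rw [hhi i hi] at this
      simpa using this
    show γ (W.op h (W.op (2 ^ i) v)) (W.op (2 ^ i) w) = γ (W.op h v) w
    rw [h1, map_smul, LinearMap.smul_apply, hγx _ (hpow i hi), hsq' _ (hpow i hi), smul_eq_mul, ← mul_assoc,
      hsi ⟨i, hi⟩, bitSign_mul_self, one_mul]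
  have hγh : ∀ v w, γ v w = (bitSign F (W.bt h h) * c0) * W.form (W.op h v) w := by
    intro v w
    conv_lhs => rw [← W.op_cancel hh2 v]
    rw [map_smul, LinearMap.smul_apply, show γ (W.op h (W.op h v)) w = (γ.comp (W.op h)) (W.op h v) w from rfl,
      hc0', LinearMap.smul_apply, LinearMap.smul_apply, smul_eq_mul, smul_eq_mul, mul_assoc]
  set e0 := bitSign F (W.bt h h) * c0 with he0
  have h0 : h = 0 := by
    rcases hh with hh | hh
    · refine W.nondeg h hh2 fun i hi => ?_
      have h1 := (hsq' _ (hpow i hi)).symm.trans (hh _ (hc0 _ (hpow i hi)))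
      have h3 : s.testBit i = false := by
        rw [hsi ⟨i, hi⟩]
        exact bitSign_inj h2 (h1.trans (by simp [bitSign]))
      have h4 := hhi i hi
      rw [h3] at h4
      revert h4
      cases W.bt h (2 ^ i) <;> cases W.bt (2 ^ i) h <;> simp
    · refine hh h hh2 e0 ?_
      simp only [colour, W.op_zero, Module.End.one_apply, Prod.smul_mk, smul_eq_mul, ← hγh, hγ, hgu, hgz]
  have he1 : e0 = 1 := by
    by_contra hne1
    refine h00 ?_
    have key : ∀ a b : V, g a = a → g b = b → W.form a b = 0 := by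
      intro a b ha hb
      have h1 : W.form a b = e0 * W.form a b := by
        have := hγh a b
        rwa [hγ, ha, hb, h0, W.op_zero, Module.End.one_apply] at this
      by_contra h3
      exact hne1 (mul_right_cancel₀ h3 (h1.symm.trans (one_mul _).symm))
    simp only [colour, W.op_zero, Module.End.one_apply, key u u hgu hgu, key u z hgu hgz, key z u hgz hgu,
      key z z hgz hgz]
    rfl
  have hiso : ∀ v w, W.form (g v) (g w) = W.form v w := fun v w => by
    rw [← hγ, hγh, he1, h0, W.op_zero, Module.End.one_apply, one_mul]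
  obtain ⟨v₀, w₀, hvw⟩ : ∃ v w, W.form v w ≠ 0 := by
    by_contra hall
    push Not at hall
    exact h00 (by simp only [colour, W.op_zero, Module.End.one_apply, hall]; rfl)
  have hcc : ∀ x < 2 ^ W.m, c x * c x = 1 := by
    intro x hx
    refine mul_right_cancel₀ hvw ?_
    have h1 := hγx x hx v₀ w₀
    rw [hγ, hγ, hiso, hiso, W.isometry x hx] at h1
    rw [← h1, one_mul]
  let t : ℕ → Bool := fun x => decide (c x ≠ 1)
  have ht : ∀ x < 2 ^ W.m, bitSign F (t x) = c x := by
    intro x hx
    by_cases h1 : c x = 1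
    · simp [t, h1, bitSign]
    · simp only [t, ne_eq, h1, not_false_eq_true, decide_true, bitSign, if_true]
      exact ((mul_self_eq_one_iff.1 (hcc x hx)).resolve_left h1).symm
  have hadd : ∀ x < 2 ^ W.m, ∀ y < 2 ^ W.m, M (x ^^^ y) = M x ^^^ M y ∧
      t (x ^^^ y) = (t x ^^ t y ^^ D.bt x y ^^ D.bt (M x) (M y)) := by
    intro x hx y hy
    obtain ⟨h1, h3⟩ := hmul x hx y hy
    refine ⟨h1, bitSign_inj h2 ?_⟩
    rw [ht _ (Nat.xor_lt_two_pow hx hy), hbt, bitSign_xor, bitSign_xor, bitSign_xor, ht x hx, ht y hy,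
      mul_right_comm _ (bitSign F (W.bt x y)), ← h3, mul_comm (bitSign F (W.bt x y)), mul_assoc,
      bitSign_mul_self, mul_one]
  have hMsq : ∀ x < 2 ^ W.m, D.sq x = D.sq (M x) := by
    intro x hx
    rw [hsq x hx, hsq _ (hMlt x hx)]
    have h1 : (W.bt x x ^^ W.bt (M x) (M x)) = false :=
      bitSign_inj h2 (((hsq' x hx).symm.trans (hcc x hx)).trans (by simp [bitSign]))
    revert h1
    cases W.bt x x <;> cases W.bt (M x) (M x) <;> simp
  have hcol : ∀ x < 2 ^ W.m, D.col x = if t x then D.neg (D.col (M x)) else D.col (M x) := by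
    intro x hx
    refine hcode x hx (M x) (hMlt x hx) (t x) ?_
    have key : ∀ a b : V, g a = a → g b = b → W.form (W.op x a) b = bitSign F (t x) * W.form (W.op (M x) a) b := by
      intro a b ha hb
      conv_lhs => rw [← hiso, hb, happ x hx, ha, map_smul, LinearMap.smul_apply, smul_eq_mul, ← ht x hx]
    simp only [colour, Prod.smul_mk, smul_eq_mul, ← key u u hgu hgu, ← key u z hgu hgz, ← key z u hgz hgu,
      ← key z z hgz hgz]
  have hMr := D.search_spec M t hMlt ⟨hM0, bitSign_inj h2 ((ht 0 hpos).trans (by simp [hc1, bitSign]))⟩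
    hadd hne hMsq hcol es hes hsearch hcov
  -- powers
  have hiter : ∀ j, ∀ x < 2 ^ W.m, M^[j] x < 2 ^ W.m ∧
      ∃ C : F, ∀ v, (g ^ j) (W.op x v) = C • W.op (M^[j] x) ((g ^ j) v) := by
    intro j
    induction j with
    | zero => exact fun x hx => ⟨hx, 1, fun v => by simp⟩
    | succ j ih =>
      intro x hx
      obtain ⟨h1, C, hC⟩ := ih x hx
      refine ⟨by rw [Function.iterate_succ_apply']; exact hMlt _ h1, C * c (M^[j] x), fun v => ?_⟩
      rw [pow_succ', Module.End.mul_apply, Module.End.mul_apply, hC, map_smul, happ _ h1, smul_smul,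
        Function.iterate_succ_apply']
  have hisor : ∀ j, ∀ v w, W.form ((g ^ j) v) ((g ^ j) w) = W.form v w := by
    intro j
    induction j with
    | zero => intro v w; simp
    | succ j ih => intro v w; rw [pow_succ', Module.End.mul_apply, Module.End.mul_apply, hiso, ih]
  have hfixr : ∀ a, g a = a → ∀ j, (g ^ j) a = a := by
    intro a ha j
    induction j with
    | zero => simp
    | succ j ih => rw [pow_succ', Module.End.mul_apply, ih, ha]
  have hes' : ∀ e ∈ es, Commute (g ^ r) (W.op e) := by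
    intro e he
    have hlt : e < 2 ^ W.m := by simpa using List.all_eq_true.1 hes e he
    obtain ⟨-, C, hC⟩ := hiter r e hlt
    rw [hMr e hlt] at hC
    have hC1 : C = 1 := by
      by_contra hne1
      refine hes0 e he ?_
      have key : ∀ a b : V, g a = a → g b = b → W.form (W.op e a) b = 0 := by
        intro a b ha hb
        have h1 : W.form (W.op e a) b = C * W.form (W.op e a) b := by
          conv_lhs => rw [← hisor r, hfixr b hb, hC, hfixr a ha, map_smul, LinearMap.smul_apply, smul_eq_mul]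
        by_contra h3
        exact hne1 (mul_right_cancel₀ h3 (h1.symm.trans (one_mul _).symm))
      simp only [colour, key u u hgu hgu, key u z hgu hgz, key z u hgz hgu, key z z hgz hgz]
      rfl
    exact LinearMap.ext fun v => by
      rw [Module.End.mul_apply, Module.End.mul_apply, hC, hC1, one_smul]
  have hspan : ∀ (l : List ℕ) (sp : List ℕ), (∀ e ∈ l, e < 2 ^ W.m ∧ Commute (g ^ r) (W.op e)) →
      (∀ x ∈ sp, x < 2 ^ W.m ∧ Commute (g ^ r) (W.op x)) →
      ∀ x ∈ spanPts l sp, x < 2 ^ W.m ∧ Commute (g ^ r) (W.op x) := by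
    intro l
    induction l with
    | nil => intro sp _ h; exact h
    | cons e l ih =>
      intro sp hl hsp
      refine ih _ (fun x hx => hl x (List.mem_cons_of_mem _ hx)) fun x hx => ?_
      rcases List.mem_append.1 hx with hx | hx
      · exact hsp x hx
      · obtain ⟨y, hy, rfl⟩ := List.mem_map.1 hx
        obtain ⟨a1, a2⟩ := hsp y hy
        obtain ⟨b1, b2⟩ := hl e (List.mem_cons_self ..)
        refine ⟨Nat.xor_lt_two_pow a1 b1, ?_⟩
        have h1 := (a2.mul_right b2).smul_right (bitSign F (W.bt y e))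
        rwa [W.op_mul y a1 e b1, smul_smul, bitSign_mul_self, one_smul] at h1
  intro x hx
  refine (hspan es [0] (fun e he => ⟨by simpa using List.all_eq_true.1 hes e he, hes' e he⟩) ?_ x
    (mem_of_covers hcov hx)).2
  intro y hy
  rw [List.mem_singleton] at hy
  subst hy
  exact ⟨hpos, by rw [W.op_zero]; exact Commute.one_right _⟩

end WordModel

end Cfsg.Agent.CopBase
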