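import Cfsg.Agent.Lib.CopBase.TinyBasic
import Cfsg.Agent.Lib.CopBase.Words

/-!
The commutator pairing of the layer over prime scalars, and dual elements in the line stabiliser.
-/

set_option autoImplicit false
set_option linter.style.haveILetI false
set_option linter.unusedSectionVars false

namespace Cfsg.Agent.CopBase

open PrimSol SolBase
open scoped commutatorElement

universe u v

variable {F : Type*} [Field F] {V : Type v} [AddCommGroup V] [Module F V] [FiniteDimensional F V]
  [Finite V] [Nontrivial V] {G : Type u} [Group G] [Finite G] {ρ : G →* Module.End F V}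
  {A E : Subgroup G} {w : V}

/-- Three or five scalars are the scalars of the prime field. -/
theorem scalars_prime (hq : Nat.card (alg ρ A) = 3 ∨ Nat.card (alg ρ A) = 5) :
    Nat.card F = Nat.card (alg ρ A) ∧ ∀ x ∈ alg ρ A, ∃ c : F, x = c • (1 : Module.End F V) := by
  classical
  haveI : Finite (Module.End F V) := Finite.of_injective _ DFunLike.coe_injective
  haveI : FiniteDimensional F (alg ρ A) := Module.Finite.of_finite
  haveI : Nontrivial (alg ρ A) := ⟨0, 1, fun h => zero_ne_one (congrArg Subtype.val h)⟩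
  have hc : Nat.card (alg ρ A) = Nat.card F ^ Module.finrank F (alg ρ A) :=
    Module.natCard_eq_pow_finrank (K := F)
  have hp : (Nat.card (alg ρ A)).Prime := by rcases hq with h | h <;> rw [h] <;> norm_num
  have h1 : Module.finrank F (alg ρ A) = 1 := Nat.Prime.eq_one_of_pow (hc ▸ hp)
  refine ⟨by rw [hc, h1, pow_one], fun x hx => ?_⟩
  obtain ⟨c, hc'⟩ := (finrank_eq_one_iff_of_nonzero' (1 : alg ρ A) one_ne_zero).1 h1 ⟨x, hx⟩
  exact ⟨c, (congrArg Subtype.val hc').symm⟩

/-- With prime scalars the whole group centralises them. -/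
theorem commute_of_prime (hl : IsLayer ρ A E) (hK : ∀ x ∈ alg ρ A, ∃ c : F, x = c • (1 : Module.End F V))
    {g a : G} (ha : a ∈ A) : g * a = a * g := by
  obtain ⟨c, hc⟩ := hK _ (hl.scalar ha)
  exact hl.inj (by rw [map_mul, map_mul, hc, mul_smul_comm, smul_mul_assoc, mul_one, one_mul])

open Classical in
/-- The commutator bit of two elements. -/
noncomputable def cb {G : Type*} [Group G] (f h : G) : Bool := decide (⁅f, h⁆ ≠ 1)

theorem cb_eq_false {f h : G} : cb f h = false ↔ f * h = h * f := by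
  unfold cb
  rw [decide_eq_false_iff_not, not_not, commutatorElement_eq_one_iff_mul_comm]

theorem cb_self (f : G) : cb f f = false := cb_eq_false.2 rfl

theorem cb_symm (f h : G) : cb f h = cb h f := by
  have : cb f h = false ↔ cb h f = false := by rw [cb_eq_false, cb_eq_false, eq_comm]
  revert this
  cases cb f h <;> cases cb h f <;> simp

theorem cb_one (f : G) : cb f 1 = false := cb_eq_false.2 (by rw [mul_one, one_mul])

section
variable (hl : IsLayer ρ A E) (hsq : ∀ f ∈ E, f ^ 2 ∈ A) (h2 : (2 : F) ≠ 0)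
include hl hsq h2

/-- A commutator of the layer is a sign. -/
theorem rho_comm {f h : G} (hf : f ∈ E) (hh : h ∈ E) :
    ρ ⁅f, h⁆ = bitSign F (cb f h) • (1 : Module.End F V) := by
  cases hc : cb f h with
  | false =>
    rw [cb_eq_false, ← commutatorElement_eq_one_iff_mul_comm] at hc
    rw [hc, map_one, show bitSign F false = 1 from rfl, one_smul]
  | true =>
    have hne : ⁅f, h⁆ ≠ 1 := fun e => by
      rw [commutatorElement_eq_one_iff_mul_comm, ← cb_eq_false, hc] at e
      exact Bool.noConfusion e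
    have h4 : ⁅f, h⁆ ^ 2 = 1 := hl.comm_pow_eq_one hf hh (hsq f hf)
    have hz := hl.scalar (hl.der f hf h hh)
    have h5 : (ρ ⁅f, h⁆ - 1) * (ρ ⁅f, h⁆ + 1) = 0 := by
      rw [sub_mul, mul_add, mul_one, one_mul, ← pow_two, ← map_pow, h4, map_one,
        add_comm (1 : Module.End F V), sub_self]
    rcases hl.scal.eq_zero_or (sub_mem hz (one_mem _)) h5 with h6 | h6
    · exact absurd (hl.inj ((sub_eq_zero.1 h6).trans (map_one ρ).symm)) hne
    · rw [show bitSign F true = -1 from rfl, neg_one_smul]
      exact eq_neg_of_add_eq_zero_left h6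

theorem cb_mul_left {f h k : G} (hf : f ∈ E) (hh : h ∈ E) (hk : k ∈ E) :
    cb (f * h) k = (cb f k ^^ cb h k) := by
  obtain ⟨v, hv⟩ := exists_ne (0 : V)
  have h1 := congrArg ρ (hl.comm_mul_left hh hf hk)
  rw [map_mul, rho_comm hl hsq h2 (E.mul_mem hf hh) hk, rho_comm hl hsq h2 hf hk, rho_comm hl hsq h2 hh hk,
    smul_mul_assoc, one_mul, smul_smul, ← bitSign_xor] at h1
  refine bitSign_inj h2 (smul_left_injective F hv ?_)
  simpa using LinearMap.congr_fun h1 v

theorem cb_mul_right {f h k : G} (hf : f ∈ E) (hh : h ∈ E) (hk : k ∈ E) :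
    cb k (f * h) = (cb k f ^^ cb k h) := by
  rw [cb_symm, cb_mul_left hl hsq h2 hf hh hk, cb_symm f, cb_symm h]

/-- Operators of the layer commute up to the commutator bit. -/
theorem op_comm {f h : G} (hf : f ∈ E) (hh : h ∈ E) :
    ρ f * ρ h = bitSign F (cb f h) • (ρ h * ρ f) := by
  have e : f * h = ⁅f, h⁆ * (h * f) := by rw [commutatorElement_def]; group
  rw [← map_mul, e, map_mul, rho_comm hl hsq h2 hf hh, smul_mul_assoc, one_mul, map_mul]

theorem cb_scalar {f a : G} (hf : f ∈ E) (ha : a ∈ A) : cb f a = false := cb_eq_false.2 (hl.cent f hf a ha)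

end

/-- A product of chosen elements with given exponents. -/
def prodBits {G : Type*} [Group G] {k : ℕ} (f : Fin k → G) (a : Fin k → ZMod 2) : G :=
  (List.ofFn fun i => if a i = 0 then 1 else f i).prod

/-- A homomorphism to the two-element field evaluated at a product. -/
theorem map_prodBits {G : Type*} [Group G] {M : Type*} [AddCommMonoid M] {k : ℕ} (f : Fin k → G) (a : Fin k → ZMod 2)
    (X : Submonoid G) (hf : ∀ i, f i ∈ X) (φ : G → M) (h1 : φ 1 = 0)
    (hmul : ∀ x ∈ X, ∀ y ∈ X, φ (x * y) = φ x + φ y) :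
    φ (prodBits f a) = ∑ i, φ (if a i = 0 then 1 else f i) := by
  unfold prodBits
  suffices key : ∀ l : List G, (∀ x ∈ l, x ∈ X) → φ l.prod = (l.map φ).sum by
    rw [key _ fun x hx => by
      rw [List.mem_ofFn] at hx
      obtain ⟨i, rfl⟩ := hx
      split_ifs
      exacts [X.one_mem, hf i], List.map_ofFn, List.sum_ofFn]
    rfl
  intro l
  induction l with
  | nil => intro _; simpa using h1
  | cons x l ih =>
    intro hx
    rw [List.prod_cons, hmul x (hx x (List.mem_cons_self ..)) _
      (X.list_prod_mem fun y hy => hx y (List.mem_cons_of_mem _ hy)), ih fun y hy => hx y (List.mem_cons_of_mem _ hy)]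
    simp

/-- A bit as an element of the two-element field. -/
def bitNum (b : Bool) : ZMod 2 := if b then 1 else 0

lemma bitNum_xor (a b : Bool) : bitNum (a ^^ b) = bitNum a + bitNum b := by revert a b; decide

lemma bitNum_inj {a b : Bool} (h : bitNum a = bitNum b) : a = b := by revert a b; decide

/-- Coset representatives with prescribed commutator bits against the line stabiliser. -/
theorem exists_pairing (ht : IsTop ρ A E w) [(ht.N.subgroupOf E).Normal] (hsq : ∀ f ∈ E, f ^ 2 ∈ A)
    (h2 : (2 : F) ≠ 0) {k : ℕ} (e : E ⧸ ht.N.subgroupOf E ≃* Multiplicative (Fin k → ZMod 2)) :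
    ∃ f : Fin k → G, (∀ i, ∃ h : f i ∈ E,
        ((⟨f i, h⟩ : E) : E ⧸ ht.N.subgroupOf E) = e.symm (Multiplicative.ofAdd (Pi.single i 1))) ∧
      ∀ b : Fin k → Bool, ∃ l ∈ ht.L, ∀ i, cb (f i) l = b i := by
  classical
  have hl := ht.toIsLayer
  choose f0 hf0 using fun i : Fin k => QuotientGroup.mk_surjective (e.symm (Multiplicative.ofAdd (Pi.single i 1)))
  let f : Fin k → G := fun i => (f0 i : G)
  have hfE : ∀ i, f i ∈ E := fun i => (f0 i).2
  refine ⟨f, fun i => ⟨hfE i, hf0 i⟩, ?_⟩
  let P : G → (Fin k → ZMod 2) := fun l i => bitNum (cb (f i) l)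
  let S : AddSubgroup (Fin k → ZMod 2) :=
    { carrier := P '' (ht.L : Set G)
      zero_mem' := ⟨1, ht.L.one_mem, funext fun i => by simp [P, cb_one, bitNum]⟩
      add_mem' := by
        rintro _ _ ⟨l, hlm, rfl⟩ ⟨l', hl', rfl⟩
        refine ⟨l * l', ht.L.mul_mem hlm hl', funext fun i => ?_⟩
        simp only [P, Pi.add_apply]
        rw [cb_mul_right hl hsq h2 (ht.L_le hlm) (ht.L_le hl') (hfE i), bitNum_xor]
      neg_mem' := by
        rintro _ ⟨l, hlm, rfl⟩
        exact ⟨l, hlm, funext fun i => (CharTwo.neg_eq _).symm⟩ }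
  have hS : AddSubgroup.toZModSubmodule 2 S = ⊤ := by
    by_contra hne
    obtain ⟨a, ha0, hker⟩ := Submodule.exists_le_ker_of_lt_top _ (lt_top_iff_ne_top.2 hne)
    let c : Fin k → ZMod 2 := fun i => a (Pi.single i 1)
    have hac : ∀ x, a x = ∑ i, x i * c i := fun x => by
      conv_lhs => rw [pi_eq_sum_univ' x]
      rw [map_sum]
      exact Finset.sum_congr rfl fun i _ => by rw [map_smul, smul_eq_mul]
    set g := prodBits f c with hg
    have hgE : g ∈ E := E.list_prod_mem fun x hx => by
      rw [List.mem_ofFn] at hx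
      obtain ⟨i, rfl⟩ := hx
      split_ifs
      exacts [E.one_mem, hfE i]
    have hgN : g ∈ ht.N := ⟨hgE, fun l hlm => cb_eq_false.1 (bitNum_inj (show bitNum (cb g l) = bitNum false by
      rw [hg, map_prodBits f c E.toSubmonoid hfE (fun x => bitNum (cb x l))
        (by rw [cb_symm, cb_one]; rfl) (fun x hx y hy => by
          rw [cb_mul_left hl hsq h2 hx hy (ht.L_le hlm), bitNum_xor])]
      have h1 : a (P l) = 0 := hker (show P l ∈ AddSubgroup.toZModSubmodule 2 S from ⟨l, hlm, rfl⟩)
      rw [hac] at h1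
      rw [show bitNum false = (0 : ZMod 2) from rfl]
      refine Eq.trans ?_ h1
      refine Finset.sum_congr rfl fun i _ => ?_
      by_cases hi : c i = 0
      · rw [if_pos hi, hi, mul_zero, cb_symm, cb_one]; rfl
      · rw [if_neg hi, (by decide : ∀ x : ZMod 2, x ≠ 0 → x = 1) _ hi, mul_one]))⟩
    refine ha0 (LinearMap.ext fun x => ?_)
    suffices hc : c = 0 by rw [hac, hc]; simp
    let φ : G → (Fin k → ZMod 2) := fun x =>
      if hx : x ∈ E then Multiplicative.toAdd (e ((⟨x, hx⟩ : E) : E ⧸ ht.N.subgroupOf E)) else 0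
    have h1 : φ g = c := by
      have hφm : ∀ x ∈ E.toSubmonoid, ∀ y ∈ E.toSubmonoid, φ (x * y) = φ x + φ y := fun x hx y hy => by
        simp only [φ, dif_pos (show x ∈ E from hx), dif_pos (show y ∈ E from hy), dif_pos (E.mul_mem hx hy)]
        rw [← toAdd_mul, ← map_mul, ← QuotientGroup.mk_mul]
        rfl
      have hφ1 : φ 1 = 0 := by
        simp only [φ, dif_pos E.one_mem]
        rw [show ((⟨1, E.one_mem⟩ : E) : E ⧸ ht.N.subgroupOf E) = 1 from QuotientGroup.mk_one _, map_one, toAdd_one]
      rw [hg, map_prodBits f c E.toSubmonoid hfE φ hφ1 hφm]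
      refine funext fun j => ?_
      rw [Finset.sum_apply, Finset.sum_eq_single j]
      · by_cases hj : c j = 0
        · rw [if_pos hj, hφ1, hj]; rfl
        · rw [if_neg hj]
          simp only [φ, dif_pos (hfE j)]
          rw [show (⟨f j, hfE j⟩ : E) = f0 j from rfl, hf0, MulEquiv.apply_symm_apply, toAdd_ofAdd,
            Pi.single_eq_same, (by decide : ∀ x : ZMod 2, x ≠ 0 → x = 1) _ hj]
      · intro i _ hij
        by_cases hi : c i = 0
        · rw [if_pos hi, hφ1]; rfl
        · rw [if_neg hi]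
          simp only [φ, dif_pos (hfE i)]
          rw [show (⟨f i, hfE i⟩ : E) = f0 i from rfl, hf0, MulEquiv.apply_symm_apply, toAdd_ofAdd,
            Pi.single_eq_of_ne (Ne.symm hij)]
      · exact fun hh => absurd (Finset.mem_univ j) hh
    rw [← h1]
    simp only [φ, dif_pos hgE]
    rw [(QuotientGroup.eq_one_iff _).2 (Subgroup.mem_subgroupOf.2 hgN), map_one, toAdd_one]
  intro b
  have hb : (fun i => bitNum (b i)) ∈ AddSubgroup.toZModSubmodule 2 S := hS ▸ Submodule.mem_top
  obtain ⟨l, hlm, hlb⟩ := hb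
  exact ⟨l, hlm, fun i => bitNum_inj (congrFun hlb i)⟩

end Cfsg.Agent.CopBase
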