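import Cfsg.Agent.Lib.CopBase.Action
import Cfsg.Agent.Lib.OddOrder.MinSimple

/-!
Three conjugates of a Hall subgroup of a π-soluble group meet in the π-core.
-/

set_option autoImplicit false
set_option linter.style.haveILetI false

namespace Cfsg.Agent.CopBase

open scoped Pointwise
open OddOrder.MinSimple (IsPi isPi_piCore isPi_of_dvd)

universe u

variable {G : Type u} [Group G] [Finite G]

/-- A series of normal subgroups with indices prime powers in `π` or prime to `π`. -/
def Series (π : Set ℕ) (G : Type u) [Group G] : Prop :=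
  ∃ (n : ℕ) (N : Fin (n + 1) → Subgroup G), N 0 = ⊥ ∧ N (Fin.last n) = ⊤ ∧ Monotone N ∧ (∀ i, (N i).Normal) ∧
    ∀ i : Fin n, (∃ p ∈ π, p.Prime ∧ ∃ k : ℕ, (N i.castSucc).relIndex (N i.succ) = p ^ k) ∨
      (∀ q : ℕ, q.Prime → q ∣ (N i.castSucc).relIndex (N i.succ) → q ∉ π)

/-- Relative indices of a normal subgroup divide along inclusions. -/
theorem relIndex_dvd_normal {N X Y : Subgroup G} [N.Normal] (h : X ≤ Y) : N.relIndex X ∣ N.relIndex Y := by
  rw [← Subgroup.relIndex_subgroupOf h]
  exact Subgroup.relIndex_dvd_index_of_normal _ _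

/-- The series passes to quotients. -/
theorem Series.quotient {π : Set ℕ} (h : Series π G) (R : Subgroup G) [R.Normal] : Series π (G ⧸ R) := by
  obtain ⟨n, N, h0, h1, hmono, hnorm, hidx⟩ := h
  refine ⟨n, fun i => (N i).map (QuotientGroup.mk' R), by simp [h0], ?_, fun i j hij => Subgroup.map_mono (hmono hij),
    fun i => (hnorm i).map _ (QuotientGroup.mk'_surjective R), fun i => ?_⟩
  · simp only [h1]
    exact Subgroup.map_top_of_surjective _ (QuotientGroup.mk'_surjective R)
  have hd : ((N i.castSucc).map (QuotientGroup.mk' R)).relIndex ((N i.succ).map (QuotientGroup.mk' R)) ∣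
      (N i.castSucc).relIndex (N i.succ) := by
    haveI := hnorm i.castSucc
    rw [Subgroup.relIndex_map_map, QuotientGroup.ker_mk']
    have hle : N i.castSucc ≤ N i.succ := hmono (Fin.castSucc_le_succ _)
    rw [show N i.succ ⊔ R = N i.succ ⊔ (N i.castSucc ⊔ R) by rw [← sup_assoc, sup_eq_left.2 hle],
      Subgroup.relIndex_sup_right]
    exact Subgroup.relIndex_dvd_of_le_left _ le_sup_left
  rcases hidx i with ⟨p, hp, hpp, k, hk⟩ | h2
  · obtain ⟨j, -, hj⟩ := (Nat.dvd_prime_pow hpp).1 (hk ▸ hd)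
    exact Or.inl ⟨p, hp, hpp, j, hj⟩
  · exact Or.inr fun q hq hqd => h2 q hq (hqd.trans hd)

/-- A π-subgroup of a group with such a series is soluble. -/
theorem Series.isSolvable {π : Set ℕ} (h : Series π G) {H : Subgroup G} (hH : IsPi π (Nat.card H)) :
    Group.IsSolvable H := by
  obtain ⟨n, N, h0, h1, hmono, hnorm, hidx⟩ := h
  suffices key : ∀ i : Fin (n + 1), Group.IsSolvable ((N i).subgroupOf H) by
    have h2 := key (Fin.last n)
    rw [h1, Subgroup.top_subgroupOf] at h2
    haveI := h2
    exact solvable_of_surjective (f := (⊤ : Subgroup H).subtype) fun x => ⟨⟨x, trivial⟩, rfl⟩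
  intro i
  induction i using Fin.induction with
  | zero => rw [h0, Subgroup.bot_subgroupOf]; exact Group.isSolvable_of_comm fun a b => Subsingleton.elim _ _
  | succ i ih =>
    haveI := hnorm i.castSucc
    set A := (N i.castSucc).subgroupOf H with hA
    set B := (N i.succ).subgroupOf H with hB
    have hAB : A ≤ B := Subgroup.comap_mono (hmono (Fin.castSucc_le_succ _))
    have hidx' : A.relIndex B ∣ (N i.castSucc).relIndex (N i.succ) ∧ A.relIndex B ∣ Nat.card H := by
      constructor
      · have e : A.relIndex B = (N i.castSucc).relIndex (N i.succ ⊓ H) := by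
          rw [hA, hB, ← Subgroup.inf_subgroupOf_right (H := N i.succ), Subgroup.relIndex_subgroupOf inf_le_right]
        rw [e]
        exact relIndex_dvd_normal inf_le_left
      · exact (Subgroup.relIndex_dvd_card _ _).trans (Subgroup.card_subgroup_dvd_card B)
    have hq : Group.IsSolvable (B ⧸ A.subgroupOf B) := by
      rcases hidx i with ⟨p, -, hpp, k, hk⟩ | h2
      · haveI := Fact.mk hpp
        obtain ⟨j, -, hj⟩ := (Nat.dvd_prime_pow hpp).1 (hk ▸ hidx'.1)
        haveI : Group.IsNilpotent (B ⧸ A.subgroupOf B) := (IsPGroup.of_card (p := p) (n := j)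
          (show Nat.card (B ⧸ A.subgroupOf B) = p ^ j from hj)).isNilpotent
        infer_instance
      · haveI : Subsingleton (B ⧸ A.subgroupOf B) := by
          refine (Nat.card_eq_one_iff_unique.1 ?_).1
          by_contra hne
          obtain ⟨q, hq, hqd⟩ := Nat.exists_prime_and_dvd hne
          exact h2 q hq (hqd.trans hidx'.1) (hH q hq (hqd.trans hidx'.2))
        exact Group.isSolvable_of_comm fun a b => Subsingleton.elim _ _
    haveI : Group.IsSolvable (A.subgroupOf B) := by
      haveI := ih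
      exact solvable_of_solvable_injective (f := (Subgroup.subgroupOfEquivOfLe hAB).toMonoidHom)
        (Subgroup.subgroupOfEquivOfLe hAB).injective
    exact solvable_of_ker_le_range (A.subgroupOf B).subtype (QuotientGroup.mk' (A.subgroupOf B))
      (by rw [QuotientGroup.ker_mk', Subgroup.range_subtype])

/-- With trivial π-core the centraliser of the π'-core lies inside it. -/
theorem Series.centralizer_le {π : Set ℕ} (h : Series π G) (hO : Cfsg.piCore π G = ⊥) :
    Subgroup.centralizer ((Cfsg.piCore πᶜ G : Subgroup G) : Set G) ≤ Cfsg.piCore πᶜ G := by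
  obtain ⟨n, N, h0, h1, hmono, hnorm, hidx⟩ := h
  set K := Cfsg.piCore πᶜ G with hK
  set C := Subgroup.centralizer (K : Set G) with hC
  haveI : K.Normal := Cfsg.piCore_normal _ _
  haveI : C.Normal := Subgroup.normal_centralizer
  suffices key : ∀ i : Fin (n + 1), N i ⊓ C ≤ K by
    have := key (Fin.last n)
    rwa [h1, top_inf_eq] at this
  intro i
  induction i using Fin.induction with
  | zero => rw [h0, bot_inf_eq]; exact bot_le
  | succ i ih =>
    haveI := hnorm i.castSucc
    haveI := hnorm i.succ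
    set M := N i.castSucc ⊓ C with hM
    set D := N i.succ ⊓ C with hD
    haveI : M.Normal := Subgroup.normal_inf_normal _ _
    haveI : D.Normal := Subgroup.normal_inf_normal _ _
    have hMD : M ≤ D := inf_le_inf_right _ (hmono (Fin.castSucc_le_succ _))
    have hMpi : IsPi πᶜ (Nat.card M) := isPi_of_dvd (Subgroup.card_dvd_of_le ih) (isPi_piCore _ _)
    have hrel : M.relIndex D ∣ (N i.castSucc).relIndex (N i.succ) := by
      have e : M.relIndex D = (N i.castSucc).relIndex D := by
        rw [← Subgroup.inf_relIndex_right (N i.castSucc) D, hM, hD, ← inf_assoc,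
          inf_eq_left.2 (hmono (Fin.castSucc_le_succ _))]
      rw [e]
      exact relIndex_dvd_normal inf_le_left
    have hcard : Nat.card M * M.relIndex D = Nat.card D := by
      rw [← Subgroup.relIndex_bot_left, ← Subgroup.relIndex_bot_left, Subgroup.relIndex_mul_relIndex _ _ _ bot_le hMD]
    rcases hidx i with ⟨p, hpπ, hpp, k, hk⟩ | h2
    swap
    · refine le_sSup ⟨inferInstance, fun q hq hqd => ?_⟩
      rw [← hcard] at hqd
      exact (hq.dvd_mul.1 hqd).elim (hMpi q hq) fun h => h2 q hq (h.trans hrel)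
    haveI := Fact.mk hpp
    obtain ⟨j, -, hj⟩ := (Nat.dvd_prime_pow hpp).1 (hk ▸ hrel)
    haveI : Group.IsNilpotent (D ⧸ M.subgroupOf D) :=
      (IsPGroup.of_card (p := p) (n := j) (show Nat.card (D ⧸ M.subgroupOf D) = p ^ j from hj)).isNilpotent
    haveI : Group.IsNilpotent D := Subgroup.isNilpotent_of_ker_le_center (QuotientGroup.mk' (M.subgroupOf D)) (by
      rw [QuotientGroup.ker_mk']
      intro x hx
      rw [Subgroup.mem_center_iff]
      intro y
      refine Subtype.ext ?_
      exact (Subgroup.mem_centralizer_iff.1 (show (y : G) ∈ C from y.2.2) (x : G)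
        (ih (Subgroup.mem_subgroupOf.1 hx))).symm)
    obtain ⟨P⟩ : Nonempty (Sylow p D) := inferInstance
    haveI hPn : (P : Subgroup D).Normal := Sylow.normal_of_normalizerCondition Group.normalizerCondition_of_isNilpotent P
    haveI : (P : Subgroup D).Characteristic := P.characteristic_of_normal hPn
    haveI : ((P : Subgroup D).map D.subtype).Normal := ConjAct.normal_of_characteristic_of_normal
    have hP1 : (P : Subgroup D).map D.subtype ≤ Cfsg.piCore π G := le_sSup ⟨inferInstance, fun q hq hqd => by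
      rw [Subgroup.card_map_of_injective D.subtype_injective, P.card_eq_multiplicity] at hqd
      rwa [(Nat.prime_dvd_prime_iff_eq hq hpp).1 (hq.dvd_of_dvd_pow hqd)]⟩
    rw [hO, le_bot_iff, Subgroup.map_eq_bot_iff_of_injective _ D.subtype_injective] at hP1
    have hP2 := P.card_eq_multiplicity
    rw [hP1, Subgroup.card_bot] at hP2
    have hnd : ¬ p ∣ Nat.card D := fun hd => by
      have := hpp.factorization_pos_of_dvd Nat.card_pos.ne' hd
      exact hpp.one_lt.ne' (eq_one_of_dvd_one_nat (hP2 ▸ dvd_pow_self p this.ne'))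
    have hj0 : j = 0 := by
      by_contra hj0
      exact hnd (hcard ▸ dvd_mul_of_dvd_right (hj ▸ dvd_pow_self p hj0) _)
    rw [hj0, pow_zero, Subgroup.relIndex_eq_one] at hj
    exact hj.trans ih
where
  eq_one_of_dvd_one_nat {a : ℕ} (h : a ∣ 1) : a = 1 := Nat.dvd_one.1 h

/-- With trivial π-core there are three conjugates of a π-subgroup meeting trivially. -/
theorem three_conjugates {π : Set ℕ} (h : Series π G) (hO : Cfsg.piCore π G = ⊥) {H : Subgroup G}
    (hH : IsPi π (Nat.card H)) :
    ∃ x y : G, ∀ g, g ∈ H → g ∈ MulAut.conj x • H → g ∈ MulAut.conj y • H → g = 1 := by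
  set K := Cfsg.piCore πᶜ G with hK
  haveI : K.Normal := Cfsg.piCore_normal _ _
  letI : MulDistribMulAction H K := MulDistribMulAction.compHom K ((MulAut.conjNormal (H := K)).comp H.subtype)
  have hsmul : ∀ (a : H) (z : K), ((a • z : K) : G) = a * z * (a : G)⁻¹ := fun a z =>
    MulAut.conjNormal_apply (a : G) z
  have hcop : (Nat.card H).Coprime (Nat.card K) :=
    Nat.coprime_of_dvd fun p hp ha hb => (isPi_piCore πᶜ G p hp hb) (hH p hp ha)
  have hHK : ∀ g ∈ H, g ∈ K → g = 1 := fun g hg hgK => by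
    have h1 := Subgroup.inf_eq_bot_of_coprime hcop
    exact Subgroup.mem_bot.1 (h1 ▸ Subgroup.mem_inf.2 ⟨hg, hgK⟩)
  obtain ⟨x, y, hxy⟩ := two_coprime_action (A := H) (K := K) (h.isSolvable hH) hcop
  have hfix : ∀ (g : G) (hg : g ∈ H) (z : K), g ∈ MulAut.conj (z : G) • H → (⟨g, hg⟩ : H) • z = z := by
    intro g hg z hgz
    rw [Subgroup.mem_pointwise_smul_iff_inv_smul_mem] at hgz
    have hgz' : (z : G)⁻¹ * g * z ∈ H := by
      simpa [← map_inv, MulAut.smul_def, MulAut.conj_apply] using hgz
    have h1 : g⁻¹ * ((z : G)⁻¹ * g * z) = 1 := hHK _ (H.mul_mem (H.inv_mem hg) hgz') (by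
      have h2 := K.mul_mem ((Cfsg.piCore_normal πᶜ G).conj_mem _ (K.inv_mem z.2) g⁻¹) z.2
      simpa [mul_assoc] using h2)
    refine Subtype.ext ((hsmul _ z).trans ?_)
    rw [inv_mul_eq_one] at h1
    show g * z * g⁻¹ = (z : G)
    calc g * (z : G) * g⁻¹ = (z : G) * ((z : G)⁻¹ * g * z) * g⁻¹ := by group
      _ = (z : G) := by rw [← h1, mul_inv_cancel_right]
  refine ⟨x, y, fun g hg hgx hgy => hHK g hg (h.centralizer_le hO ?_)⟩
  rw [Subgroup.mem_centralizer_iff]
  intro z hz
  have h2 := congrArg Subtype.val (hxy ⟨g, hg⟩ (hfix g hg x hgx) (hfix g hg y hgy) ⟨z, hz⟩)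
  rw [hsmul] at h2
  exact (mul_inv_eq_iff_eq_mul.1 h2).symm

/-- Three conjugates of a Hall subgroup meet in the π-core. -/
theorem three_conjugates_core {π : Set ℕ} (h : Series π G) {H : Subgroup G} (hH : Cfsg.IsPiHall π H) :
    ∃ x y : G, H ⊓ MulAut.conj x • H ⊓ MulAut.conj y • H = Cfsg.piCore π G := by
  set R := Cfsg.piCore π G with hR
  haveI : R.Normal := Cfsg.piCore_normal _ _
  have hRp : IsPi π (Nat.card R) := isPi_piCore _ _
  have hRH : R ≤ H := by
    by_contra hne
    have hne' : H.relIndex (H ⊔ R) ≠ 1 := fun e => hne (le_sup_right.trans (Subgroup.relIndex_eq_one.1 e))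
    obtain ⟨p, hp, hpd⟩ := Nat.exists_prime_and_dvd hne'
    have h1 : Nat.card H * H.relIndex (H ⊔ R) = Nat.card (H ⊔ R : Subgroup G) := by
      rw [← Subgroup.relIndex_bot_left, ← Subgroup.relIndex_bot_left (H := H ⊔ R)]
      exact Subgroup.relIndex_mul_relIndex _ _ _ bot_le le_sup_left
    have h2 : H.relIndex (H ⊔ R) ∣ Nat.card R :=
      Nat.dvd_of_mul_dvd_mul_left Nat.card_pos (h1 ▸ AxB.card_sup_dvd H R)
    refine hH.2 p hp (hRp p hp (hpd.trans h2)) ?_
    exact hpd.trans (Dvd.intro _ (Subgroup.relIndex_mul_index (le_sup_left : H ≤ H ⊔ R)))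
  let f := QuotientGroup.mk' R
  have hO : Cfsg.piCore π (G ⧸ R) = ⊥ := by
    set S := Cfsg.piCore π (G ⧸ R) with hS
    haveI : S.Normal := Cfsg.piCore_normal _ _
    have h1 : S.comap f ≤ R := le_sSup ⟨inferInstance, fun q hq hqd => by
      have e : Nat.card (S.comap f) = Nat.card R * Nat.card S := by
        rw [← Subgroup.relIndex_bot_left, ← Subgroup.relIndex_bot_left (H := R),
          ← Subgroup.relIndex_mul_relIndex _ _ _ bot_le (show R ≤ S.comap f from fun r hr => by
            rw [Subgroup.mem_comap, show f r = 1 from (QuotientGroup.eq_one_iff r).2 hr]; exact one_mem _)]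
        congr 1
        conv_lhs => arg 1; rw [← QuotientGroup.ker_mk' R]
        rw [Subgroup.relIndex_ker, Subgroup.map_comap_eq_self_of_surjective (QuotientGroup.mk'_surjective R)]
      rw [e] at hqd
      exact (hq.dvd_mul.1 hqd).elim (hRp q hq) (isPi_piCore _ _ q hq)⟩
    rw [eq_bot_iff]
    intro z hz
    obtain ⟨g, rfl⟩ := QuotientGroup.mk'_surjective R z
    exact Subgroup.mem_bot.2 ((QuotientGroup.eq_one_iff g).2 (h1 hz))
  obtain ⟨x, y, hxy⟩ := three_conjugates (h.quotient R) hO (H := H.map f)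
    (isPi_of_dvd (Subgroup.card_map_dvd H f) hH.1)
  obtain ⟨x, rfl⟩ := QuotientGroup.mk'_surjective R x
  obtain ⟨y, rfl⟩ := QuotientGroup.mk'_surjective R y
  refine ⟨x, y, le_antisymm ?_ ?_⟩
  · rintro g ⟨⟨hg1, hg2⟩, hg3⟩
    refine (QuotientGroup.eq_one_iff g).1 (hxy (f g) (Subgroup.mem_map_of_mem f hg1) ?_ ?_)
    · obtain ⟨k, hk, rfl⟩ := hg2
      exact ⟨f k, Subgroup.mem_map_of_mem f hk, by simp [f]⟩
    · obtain ⟨k, hk, rfl⟩ := hg3
      exact ⟨f k, Subgroup.mem_map_of_mem f hk, by simp [f]⟩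
  · have hconj : ∀ z : G, R ≤ MulAut.conj z • H := fun z r hr => by
      refine ⟨z⁻¹ * r * z, hRH ?_, ?_⟩
      · simpa using (Cfsg.piCore_normal π G).conj_mem r hr z⁻¹
      · show z * (z⁻¹ * r * z) * z⁻¹ = r
        group
    exact le_inf (le_inf hRH (hconj x)) (hconj y)

end Cfsg.Agent.CopBase
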