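import Cfsg.Agent.Lib.CopBase.Generic

/-!
The primitive case reduced to the smallest fields.
-/

set_option autoImplicit false
set_option linter.style.haveILetI false
set_option linter.unusedSectionVars false

namespace Cfsg.Agent.CopBase

open PrimSol SolBase
open scoped commutatorElement

universe u v

variable {F : Type*} [Field F] {V : Type v} [AddCommGroup V] [Module F V] [FiniteDimensional F V]
  [Finite V] [Nontrivial V] {G : Type u} [Group G] [Finite G] {ρ : G →* Module.End F V}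

/-- The eigenspace is a proper subspace when the layer does not centralise the line stabiliser. -/
theorem space_ne_top {A E : Subgroup G} {w : V} (ht : IsTop ρ A E w) (hEN : ¬ E ≤ ht.N) :
    space ht ≠ ⊤ := by
  intro h
  refine hEN fun f hf => ⟨hf, fun l hlm => ?_⟩
  obtain ⟨k, hk, hlk⟩ := hlm.2
  have hmem : ρ f w ∈ space ht := h ▸ Submodule.mem_top
  have h1 : ρ l (ρ f w) = ρ f (ρ l w) := by
    rw [hmem l hlm k hk hlk, hlk, ← Module.End.mul_apply, ← ht.toIsLayer.commute_scalar hf hk,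
      Module.End.mul_apply]
  refine (commutatorElement_eq_one_iff_mul_comm.1 (ht.toIsLayer.eq_one
    (ht.toIsLayer.der l (ht.L_le hlm) f hf) (v := ρ f (ρ l w)) (fun e => ht.ne ?_) ?_)).symm
  · exact apply_injective ρ l (apply_injective ρ f (by rw [e, map_zero, map_zero]))
  · conv_rhs => rw [← h1]
    simp only [commutatorElement_def, map_mul, Module.End.mul_apply, inv_apply_cancel]

/-- A vector of the eigenspace has the same eigenspace. -/
theorem space_eq {A E : Subgroup G} {w w' : V} (ht : IsTop ρ A E w) (hw' : w' ∈ space ht) (hne : w' ≠ 0) :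
    ∃ ht' : IsTop ρ A E w', ht'.L = ht.L ∧ ht'.N = ht.N ∧ space ht' = space ht := by
  have hl := ht.toIsLayer
  have hle : ht.L ≤ hl.lineStab hne := fun l hlm => by
    obtain ⟨hlE, k, hk, hlk⟩ := hlm
    exact ⟨hlE, k, hk, hw' l ⟨hlE, k, hk, hlk⟩ k hk hlk⟩
  have heq : ht.L = hl.lineStab hne := Subgroup.eq_of_le_of_card_ge hle (ht.top w' hne)
  let ht' : IsTop ρ A E w' := ⟨hl, hne, fun v hv => by
    show _ ≤ Nat.card (hl.lineStab hne)
    rw [← heq]; exact ht.top v hv⟩
  have hL : ht'.L = ht.L := heq.symm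
  refine ⟨ht', hL, ?_, ?_⟩
  · ext f
    rw [ht'.mem_N, ht.mem_N, hL]
  · ext x
    rw [mem_space, mem_space, hL]
    constructor
    · intro h l hlm k hk hlk
      exact h l hlm k hk (hw' l hlm k hk hlk)
    · intro h l hlm k' hk' hlk'
      obtain ⟨k, hk, hlk⟩ := hlm.2
      have e : k = k' := hl.scal.eq_of_apply hk hk' hne (by rw [← hw' l hlm k hk hlk, hlk'])
      exact e ▸ h l hlm k hk hlk

/-- A base vector of the eigenspace with a partner, by induction. -/
theorem exists_partner {A E : Subgroup G} {w : V} (ht : IsTop ρ A E w)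
    (hbelow : Below.{u, v} F (Module.finrank F V)) (hsol : Group.IsSolvable G)
    (hcop : (Nat.card G : F) ≠ 0) (hEN : ¬ E ≤ ht.N) :
    ∃ (w' : V) (ht' : IsTop ρ A E w') (z : V), z ∈ space ht' ∧ ¬ E ≤ ht'.N ∧
      ∀ g : G, ρ g w' = w' → ρ g z = z → ∀ x ∈ space ht', ρ g x = x := by
  classical
  let W := space ht
  let S : Subgroup G :=
    { carrier := {g | ∀ x, ρ g x ∈ W ↔ x ∈ W}
      one_mem' := fun x => by rw [map_one, Module.End.one_apply]
      mul_mem' := fun {a b} ha hb x => by rw [map_mul, Module.End.mul_apply, ha, hb]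
      inv_mem' := fun {a} ha x => by rw [← ha (ρ a⁻¹ x), apply_inv_cancel] }
  have hSmem : ∀ g ∈ S, ∀ x ∈ W, ρ g x ∈ W := fun g hg x hx => (hg x).2 hx
  let σ : S →* Module.End F W :=
    { toFun := fun k => (ρ (k : G)).restrict (hSmem k k.2)
      map_one' := LinearMap.ext fun x => Subtype.ext (by
        show ρ ((1 : S) : G) (x : V) = x
        rw [OneMemClass.coe_one, map_one, Module.End.one_apply])
      map_mul' := fun a b => LinearMap.ext fun x => Subtype.ext (by
        show ρ ((a * b : S) : G) (x : V) = ρ (a : G) (ρ (b : G) x)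
        rw [Subgroup.coe_mul, map_mul, Module.End.mul_apply]) }
  let σu := σ.toHomUnits
  let τ : S ⧸ σu.ker →* Module.End F W := (Units.coeHom _).comp (QuotientGroup.kerLift σu)
  have hτ : Function.Injective τ := fun a b h => QuotientGroup.kerLift_injective σu (Units.ext h)
  have hτk : ∀ (k : S) (x : W), ((τ (k : S ⧸ σu.ker) x : W) : V) = ρ (k : G) x := fun k x => rfl
  haveI : Group.IsSolvable G := hsol
  have hdim : Module.finrank F W < Module.finrank F V := Submodule.finrank_lt (space_ne_top ht hEN)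
  have hcard : (Nat.card (S ⧸ σu.ker) : F) ≠ 0 := by
    obtain ⟨c, hc⟩ := (Subgroup.card_quotient_dvd_card σu.ker).trans (Subgroup.card_subgroup_dvd_card S)
    intro h
    rw [hc, Nat.cast_mul, h, zero_mul] at hcop
    exact hcop rfl
  obtain ⟨y₁, y₂, hy⟩ := hbelow W (S ⧸ σu.ker) τ hdim hτ inferInstance hcard
  have hfix : ∀ k ∈ S, ρ k (y₁ : V) = y₁ → ρ k (y₂ : V) = y₂ → ∀ x ∈ W, ρ k x = x := by
    intro k hk h1 h2 x hx
    have := hy (⟨k, hk⟩ : S) (Subtype.ext ((hτk _ _).trans h1)) (Subtype.ext ((hτk _ _).trans h2))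
    have h3 := congrArg (fun h : S ⧸ σu.ker => ((τ h ⟨x, hx⟩ : W) : V)) this
    simp only [map_one, Module.End.one_apply] at h3
    rwa [hτk] at h3
  obtain ⟨w', z, hw', hz, hne, hb⟩ : ∃ w' z : V, w' ∈ W ∧ z ∈ W ∧ w' ≠ 0 ∧
      ∀ k ∈ S, ρ k w' = w' → ρ k z = z → ∀ x ∈ W, ρ k x = x := by
    by_cases h1 : (y₁ : V) = 0
    · by_cases h2 : (y₂ : V) = 0
      · exact ⟨w, w, self_mem_space ht, self_mem_space ht, ht.ne, fun k hk _ _ =>
          hfix k hk (by rw [h1, map_zero]) (by rw [h2, map_zero])⟩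
      · exact ⟨y₂, y₂, y₂.2, y₂.2, h2, fun k hk h _ => hfix k hk (by rw [h1, map_zero]) h⟩
    · exact ⟨y₁, y₂, y₁.2, y₂.2, h1, hfix⟩
  obtain ⟨ht', hL, hN, hsp⟩ := space_eq ht hw' hne
  refine ⟨w', ht', z, hsp ▸ hz, by rwa [hN], fun g hgw hgz x hx => ?_⟩
  have hgw' : ρ g⁻¹ w' = w' := by
    conv_lhs => rw [← hgw]
    exact inv_apply_cancel ρ g w'
  refine hb g (fun y => ⟨fun h => ?_, fun h => ?_⟩) hgw hgz x (by rw [hsp] at hx; exact hx)
  · show y ∈ space ht
    rw [← hsp]
    have h' : ρ g y ∈ space ht' := hsp ▸ h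
    have := map_mem_space ht' hgw' h'
    rwa [inv_apply_cancel] at this
  · show ρ g y ∈ space ht
    rw [← hsp]
    exact map_mem_space ht' hgw (hsp.symm ▸ h)

/-- The cases left open: very small scalars. -/
def Tiny (F : Type*) [Field F] : Prop :=
  ∀ (V : Type v) [AddCommGroup V] [Module F V] [FiniteDimensional F V] [Finite V] [Nontrivial V]
    (G : Type u) [Group G] [Finite G] (ρ : G →* Module.End F V) (A E : Subgroup G) (w : V)
    (ht : IsTop ρ A E w) (z : V), Group.IsSolvable G → Irred ρ → NoDecomp ρ → (Nat.card G : F) ≠ 0 →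
    ¬ E ≤ ht.N → Nat.card (alg ρ A) ∈ ({3, 5, 9} : Set ℕ) → z ∈ space ht →
    (∀ g : G, ρ g w = w → ρ g z = z → ∀ x ∈ space ht, ρ g x = x) →
    (∀ B : Subgroup G, B.Normal → IsMulCommutative B → A ≤ B → B = A) → Two ρ

/-- Two vectors for a primitive coprime soluble linear group. -/
theorem two_primitive (hρ : Function.Injective ρ) (hirr : Irred ρ) (hprim : NoDecomp ρ)
    (hsol : Group.IsSolvable G) (h2 : (2 : F) ≠ 0) (hcop : (Nat.card G : F) ≠ 0)
    (hbelow : Below.{u, v} F (Module.finrank F V)) (htiny : Tiny.{u, v} F) : Two ρ := by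
  classical
  haveI := Fintype.ofFinite (Subgroup G)
  obtain ⟨A, hAmem, hAmax⟩ := Finset.exists_max_image
    (Finset.univ.filter fun B : Subgroup G => B.Normal ∧ IsMulCommutative B) (fun B => Nat.card B)
    ⟨⊥, Finset.mem_filter.2 ⟨Finset.mem_univ _, inferInstance,
      ⟨⟨fun a b => Subsingleton.elim _ _⟩⟩⟩⟩
  obtain ⟨hAn, hAc⟩ := (Finset.mem_filter.1 hAmem).2
  haveI := hAn
  have hmax : ∀ B : Subgroup G, B.Normal → IsMulCommutative B → A ≤ B → B = A := fun B hB hBc hAB =>
    (Subgroup.eq_of_le_of_card_ge hAB (hAmax B (Finset.mem_filter.2 ⟨Finset.mem_univ _, hB, hBc⟩))).symm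
  have hK := isScalars hirr hprim hAc
  obtain ⟨E, hEn, hAE, hEC, hEd, hEx, hself⟩ := exists_layer hsol hAc hmax
  have hscal : ∀ g : G, ρ g ∈ alg ρ A → g ∈ A := by
    let B : Subgroup G :=
      { carrier := {g | ρ g ∈ alg ρ A}
        one_mem' := by show ρ 1 ∈ alg ρ A; rw [map_one]; exact one_mem _
        mul_mem' := fun {a b} ha hb => by show ρ (a * b) ∈ alg ρ A; rw [map_mul]; exact mul_mem ha hb
        inv_mem' := fun {a} ha => by
          show ρ a⁻¹ ∈ alg ρ A
          rw [show a⁻¹ = a ^ (orderOf a - 1) from inv_eq_of_mul_eq_one_right (by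
            rw [← pow_succ', Nat.sub_add_cancel (orderOf_pos a), pow_orderOf_eq_one]), map_pow]
          exact pow_mem ha _ }
    have hBn : B.Normal := ⟨fun b hb g => by
      show ρ (g * b * g⁻¹) ∈ alg ρ A
      rw [map_mul, map_mul]
      exact alg_conj ρ g hb⟩
    have hBc : IsMulCommutative B := ⟨⟨fun a b => Subtype.ext (hρ (by
      rw [Subgroup.coe_mul, Subgroup.coe_mul, map_mul, map_mul, hK.comm _ a.2 _ b.2]))⟩⟩
    have hAB : A ≤ B := fun a ha => Algebra.subset_adjoin ⟨a, ha, rfl⟩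
    intro g hg
    rw [← hmax B hBn hBc hAB]
    exact hg
  have hl : IsLayer ρ A E := ⟨hK, hρ, hscal,
    fun a ha b hb => congrArg Subtype.val (hAc.is_comm.comm ⟨a, ha⟩ ⟨b, hb⟩), hEn, hAE, hEC, hEd, hEx, hself⟩
  obtain ⟨w, ht⟩ := exists_isTop hl
  by_cases hEN : E ≤ ht.N
  · exact two_of_le ht h2 hcop hEN
  obtain ⟨w', ht', z, hz, hEN', hS⟩ := exists_partner ht hbelow hsol hcop hEN
  by_cases hq : Nat.card (alg ρ A) ∈ ({3, 5, 9} : Set ℕ)
  · exact htiny V G ρ A E w' ht' z hsol hirr hprim hcop hEN' hq hz hS hmax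
  · exact two_of_classes ht' h2 hq z hz hS

end Cfsg.Agent.CopBase
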