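import Cfsg.Agent.Lib.CopBase.FieldSet
import Cfsg.Agent.Lib.CopBase.RigidSet
import Mathlib.LinearAlgebra.FiniteDimensional.Lemmas

/-!
A set with trivial stabiliser in an irreducible soluble group of order prime to three.
-/

set_option autoImplicit false
set_option linter.style.haveILetI false

namespace Cfsg.Agent.CopBase

open PrimSol

universe u v

variable {q : ℕ} [Fact q.Prime] {W : Type v} [AddCommGroup W] [Module (ZMod q) W] [Finite W]
  {H : Type u} [Group H] {ρ : H →* Module.End (ZMod q) W}

/-- In odd characteristic at least five, basis vectors, their consecutive sums and one double. -/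
theorem exists_chain_set (hq : 5 ≤ q) (hρ : Function.Injective ρ) [Nontrivial W] :
    ∃ S : Set W, (0 : W) ∉ S ∧ ∀ h : H, (∀ x ∈ S, ρ h x ∈ S) → h = 1 := by
  classical
  set k := Module.finrank (ZMod q) W with hk
  have hkpos : 0 < k := Module.finrank_pos
  let b := Module.finBasis (ZMod q) W
  let e : ℕ → W := fun i => if hi : i < k then b ⟨i, hi⟩ else 0
  have hrep : ∀ i (j : Fin k), i < k → b.repr (e i) j = if i = (j : ℕ) then 1 else 0 := by
    intro i j hi
    simp only [e, dif_pos hi, Module.Basis.repr_self, Finsupp.single_apply, Fin.ext_iff]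
  let wt : W →ₗ[ZMod q] ZMod q := b.sumCoords
  have hwt : ∀ i, i < k → wt (e i) = 1 := fun i hi => by
    simp only [wt, e, dif_pos hi, Module.Basis.sumCoords_self_apply]
  have hne : ∀ m : ℕ, 0 < m → m < 5 → (m : ZMod q) ≠ 0 := fun m h1 h2 h => by
    rw [CharP.cast_eq_zero_iff (ZMod q) q] at h
    exact absurd (Nat.le_of_dvd h1 h) (by omega)
  let S : Set W := {x | x = e 0 + e 0 ∨ (∃ i, i < k ∧ x = e i) ∨ ∃ i, i + 1 < k ∧ x = e i + e (i + 1)}
  have hval : ∀ x ∈ S, (∃ i, i < k ∧ x = e i ∧ wt x = ((1 : ℕ) : ZMod q)) ∨ wt x = ((2 : ℕ) : ZMod q) := by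
    rintro x (rfl | ⟨i, hi, rfl⟩ | ⟨i, hi, rfl⟩)
    · exact Or.inr (by rw [map_add, hwt 0 hkpos]; push_cast; norm_num)
    · exact Or.inl ⟨i, hi, rfl, by rw [hwt i hi]; simp⟩
    · exact Or.inr (by rw [map_add, hwt i (by omega), hwt (i + 1) hi]; push_cast; norm_num)
  have hdiff : ∀ a c : ℕ, a < 5 → c < 5 → (a : ZMod q) = (c : ZMod q) → a = c := fun a c h1 h2 h => by
    have := (ZMod.natCast_eq_natCast_iff' a c q).1 h
    rwa [Nat.mod_eq_of_lt (by omega), Nat.mod_eq_of_lt (by omega)] at this
  -- a member whose sum with a basis vector is again a member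
  have hadd : ∀ i, i < k → ∀ y ∈ S, e i + y ∈ S →
      ∃ j, j < k ∧ y = e j ∧ ((i = 0 ∧ j = 0) ∨ j = i + 1 ∨ i = j + 1) := by
    intro i hi y hy hiy
    rcases hval y hy with ⟨j, hj, rfl, -⟩ | hy2
    · refine ⟨j, hj, rfl, ?_⟩
      rcases hiy with h | ⟨l, hl, h⟩ | ⟨l, hl, h⟩
      · have := congrArg (fun x => b.repr x ⟨i, hi⟩) h
        simp only [map_add, Finsupp.coe_add, Pi.add_apply, hrep _ _ hi, hrep _ _ hj, hrep _ _ hkpos] at this
        have h' := congrArg (fun x => b.repr x ⟨j, hj⟩) h
        simp only [map_add, Finsupp.coe_add, Pi.add_apply, hrep _ _ hi, hrep _ _ hj, hrep _ _ hkpos] at h'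
        have h1 := hne 1 one_pos (by norm_num)
        have h2 := hne 2 two_pos (by norm_num)
        push_cast at h1 h2
        left
        constructor <;> by_contra hc
        · simp only [if_true, if_neg (Ne.symm hc : ¬ 0 = i)] at this
          split_ifs at this <;> [exact h2 (by linear_combination this); exact h1 (by linear_combination this)]
        · simp only [if_true, if_neg (Ne.symm hc : ¬ 0 = j)] at h'
          split_ifs at h' <;> [exact h2 (by linear_combination h'); exact h1 (by linear_combination h')]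
      · have := congrArg wt h
        rw [map_add, hwt i hi, hwt j hj, hwt l hl] at this
        exact absurd (hdiff 2 1 (by norm_num) (by norm_num) (by push_cast; linear_combination this)) (by norm_num)
      · by_contra hc
        have h1 : ∀ m (hm : m < k), ((if i = m then (1 : ZMod q) else 0) + if j = m then 1 else 0) =
            (if l = m then 1 else 0) + if l + 1 = m then 1 else 0 := fun m hm => by
          have := congrArg (fun x => b.repr x ⟨m, hm⟩) h
          simpa only [map_add, Finsupp.coe_add, Pi.add_apply, hrep _ _ hi, hrep _ _ hj, hrep _ _ hl,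
            hrep _ _ (show l < k by omega)] using this
        have a1 := h1 l (by omega)
        have a2 := h1 (l + 1) hl
        have g1 := hne 1 one_pos (by norm_num)
        push_cast at g1
        rw [if_pos rfl, if_neg (by omega : ¬ l + 1 = l), add_zero] at a1
        rw [if_neg (by omega : ¬ l = l + 1), if_pos rfl, zero_add] at a2
        have b1 : i = l ∨ j = l := by
          by_contra h'
          push Not at h'
          rw [if_neg h'.1, if_neg h'.2, add_zero] at a1
          exact g1 a1.symm
        have b2 : i = l + 1 ∨ j = l + 1 := by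
          by_contra h'
          push Not at h'
          rw [if_neg h'.1, if_neg h'.2, add_zero] at a2
          exact g1 a2.symm
        omega
    · have h1 : wt (e i + y) = ((3 : ℕ) : ZMod q) := by
        rw [map_add, hwt i hi, hy2]; push_cast; norm_num
      rcases hval _ hiy with ⟨_, _, _, h2⟩ | h2
      · exact absurd (hdiff 3 1 (by norm_num) (by norm_num) (h1.symm.trans h2)) (by norm_num)
      · exact absurd (hdiff 3 2 (by norm_num) (by norm_num) (h1.symm.trans h2)) (by norm_num)
  have heinj : ∀ i j, i < k → j < k → e i = e j → i = j := fun i j hi hj h => by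
    simp only [e, dif_pos hi, dif_pos hj] at h
    exact congrArg Fin.val (b.injective h)
  refine ⟨S, fun h0 => ?_, fun h hS => ?_⟩
  · rcases hval 0 h0 with ⟨_, _, _, h2⟩ | h2 <;> rw [map_zero] at h2
    · exact hne 1 one_pos (by norm_num) h2.symm
    · exact hne 2 two_pos (by norm_num) h2.symm
  have key : ∀ i, i < k → ρ h (e i) = e i := by
    intro i
    induction i using Nat.strong_induction_on with
    | _ i ih =>
    intro hi
    have hm : ρ h (e i) ∈ S := hS _ (Or.inr (Or.inl ⟨i, hi, rfl⟩))
    rcases i with _ | i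
    · have hdbl : ρ h (e 0) + ρ h (e 0) ∈ S := by rw [← map_add]; exact hS _ (Or.inl rfl)
      rcases hval _ hm with ⟨j, hj, hje, -⟩ | h2
      · rw [hje] at hdbl ⊢
        obtain ⟨j', hj', he', hcase⟩ := hadd j hj (e j) (Or.inr (Or.inl ⟨j, hj, rfl⟩)) hdbl
        have := heinj _ _ hj hj' he'
        rw [show j = 0 by omega]
      · rcases hval _ hdbl with ⟨_, _, _, h3⟩ | h3 <;> rw [map_add, h2] at h3
        · exact absurd (hdiff 4 1 (by norm_num) (by norm_num) (by push_cast at h3 ⊢; linear_combination h3)) (by norm_num)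
        · exact absurd (hdiff 4 2 (by norm_num) (by norm_num) (by push_cast at h3 ⊢; linear_combination h3)) (by norm_num)
    · have hfix := ih i (by omega) (by omega)
      have hs : e i + ρ h (e (i + 1)) ∈ S := by
        rw [← hfix, ← map_add]; exact hS _ (Or.inr (Or.inr ⟨i, hi, rfl⟩))
      obtain ⟨j, hj, hje, hcase⟩ := hadd i (by omega) _ hm hs
      rcases hcase with ⟨rfl, rfl⟩ | rfl | rfl
      · exact absurd (heinj _ _ hi hj (apply_injective ρ h (hje.trans hfix.symm))) (by omega)
      · exact hje
      · have := apply_injective ρ h (hje.trans (ih j (by omega) hj).symm)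
        exact absurd (heinj _ _ hi hj this) (by omega)
  refine hρ (b.ext fun i => ?_)
  rw [map_one, Module.End.one_apply]
  have hei : e i = b i := dif_pos i.isLt
  rw [← hei]
  exact key i i.isLt

/-- A set with trivial stabiliser. -/
theorem exists_rigid_set [Finite H] (hq3 : q ≠ 3) [Nontrivial W] (hρ : Function.Injective ρ)
    (hsol : Group.IsSolvable H) (h3 : ¬ 3 ∣ Nat.card H) (hirr : Irred ρ) :
    ∃ S : Set W, (0 : W) ∉ S ∧ ∀ h : H, (∀ x ∈ S, ρ h x ∈ S) → h = 1 := by
  classical
  have hqp : q.Prime := Fact.out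
  rcases (show q = 2 ∨ 5 ≤ q by
    have := hqp.two_le
    rcases (show q = 2 ∨ q = 3 ∨ q = 4 ∨ 5 ≤ q by omega) with h | h | h | h
    · exact Or.inl h
    · exact absurd h hq3
    · rw [h] at hqp; norm_num at hqp
    · exact Or.inr h) with rfl | hq
  swap
  · exact exists_chain_set hq hρ
  by_cases htriv : ∀ h : H, h = 1
  · exact ⟨∅, Set.notMem_empty _, fun h _ => htriv h⟩
  push Not at htriv
  obtain ⟨h₀, hh₀⟩ := htriv
  set k := Module.finrank (ZMod 2) W with hk
  by_cases hk6 : 6 ≤ k
  · let L : W ≃ₗ[ZMod 2] (Fin k → ZMod 2) := (Module.finBasis (ZMod 2) W).equivFun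
    refine ⟨{x | L x ∈ chainSet k}, fun h => ?_, fun h hS => ?_⟩
    · rw [Set.mem_setOf_eq, map_zero] at h
      have h0 : supp (0 : Fin k → ZMod 2) = ∅ := by
        ext n; simp [mem_supp]
      rcases mem_chain hk6 h with ⟨l, _, -, hs⟩ | ⟨l, _, -, hs⟩ | ⟨-, hs⟩ <;> rw [h0] at hs
      · simpa using Finset.ext_iff.1 hs l
      · simpa using Finset.ext_iff.1 hs l
      · simpa using Finset.ext_iff.1 hs 0
    · let M : (Fin k → ZMod 2) →+ (Fin k → ZMod 2) :=
        (L.toLinearMap ∘ₗ ρ h ∘ₗ L.symm.toLinearMap).toAddMonoidHom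
      have hMi : Function.Injective M := fun a c hac => L.symm.injective (apply_injective ρ h (L.injective hac))
      have hto : ∀ x ∈ chainSet k, M x ∈ chainSet k := fun x hx => hS (L.symm x) (by simpa using hx)
      have himg : M '' chainSet k = chainSet k := Set.eq_of_subset_of_ncard_le (Set.image_subset_iff.2 hto)
        (Set.ncard_image_of_injective _ hMi).ge (Set.toFinite _)
      have hM := chain_rigid hk6 M hMi fun x => ⟨fun hx => by
        rw [← himg] at hx
        obtain ⟨y, hy, hyx⟩ := hx
        rwa [← hMi hyx], fun hx => hto x hx⟩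
      refine hρ (LinearMap.ext fun x => L.injective ?_)
      have := DFunLike.congr_fun hM (L x)
      simpa [M] using this
  obtain ⟨l, hl⟩ := hsol.solvable
  have hex : ∃ m, derivedSeries H m = ⊥ := ⟨l, hl⟩
  have hm0 : Nat.find hex ≠ 0 := fun h => hh₀ (by
    have := Nat.find_spec hex
    rw [h, derivedSeries_zero] at this
    exact Subgroup.mem_bot.1 (this ▸ Subgroup.mem_top h₀))
  set N := derivedSeries H (Nat.find hex - 1) with hN
  haveI : N.Normal := derivedSeries_normal H _
  have hNc : ∀ a ∈ N, ∀ c ∈ N, a * c = c * a := fun a ha c hc => commutatorElement_eq_one_iff_mul_comm.1 (by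
    have h1 := Nat.find_spec hex
    rw [show Nat.find hex = Nat.find hex - 1 + 1 by omega, derivedSeries_succ] at h1
    exact Subgroup.mem_bot.1 (h1 ▸ Subgroup.commutator_mem_commutator ha hc))
  obtain ⟨n₀, hn₀, hn₀1⟩ : ∃ n ∈ N, n ≠ 1 :=
    Subgroup.ne_bot_iff_exists_ne_one.1 (Nat.find_min hex (by omega)) |> fun ⟨⟨n, hn⟩, h⟩ =>
      ⟨n, hn, fun e => h (Subtype.ext e)⟩
  -- no vector fixed by the whole of N
  have hfix : ∀ x : W, (∀ n ∈ N, ρ n x = x) → x = 0 := by
    let Fx : Submodule (ZMod 2) W :=
      { carrier := {x | ∀ n ∈ N, ρ n x = x}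
        zero_mem' := fun n _ => map_zero _
        add_mem' := fun {x y} hx hy n hn => by rw [map_add, hx n hn, hy n hn]
        smul_mem' := fun c x hx n hn => by rw [map_smul, hx n hn] }
    have hF : ∀ g : H, ∀ x ∈ Fx, ρ g x ∈ Fx := by
      intro g x hx n hn
      have hn' : g⁻¹ * n * g ∈ N := by simpa using ‹N.Normal›.conj_mem n hn g⁻¹
      calc ρ n (ρ g x) = ρ g (ρ (g⁻¹ * n * g) x) := by
            simp only [← Module.End.mul_apply, ← map_mul]
            congr 2; group
        _ = ρ g x := by rw [hx _ hn']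
    intro x hx
    rcases hirr Fx hF with h | h
    · exact (Submodule.mem_bot (ZMod 2)).1 (h ▸ (show x ∈ Fx from hx))
    · refine absurd (hρ ((LinearMap.ext fun y => ?_).trans (map_one ρ).symm)) hn₀1
      rw [Module.End.one_apply]
      exact (show y ∈ Fx from h ▸ Submodule.mem_top) n₀ hn₀
  have hcard : Nat.card W = 2 ^ k := by
    rw [Module.natCard_eq_pow_finrank (K := ZMod 2), Nat.card_zmod]
  haveI := Fintype.ofFinite (Submodule (ZMod 2) W)
  obtain ⟨U, hUm, hUmin⟩ := Finset.exists_min_image
    (Finset.univ.filter fun U : Submodule (ZMod 2) W => U ≠ ⊥ ∧ ∀ n ∈ N, ∀ x ∈ U, ρ n x ∈ U)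
    (fun U => Module.finrank (ZMod 2) U)
    ⟨⊤, Finset.mem_filter.2 ⟨Finset.mem_univ _, top_ne_bot, fun n _ x _ => Submodule.mem_top⟩⟩
  obtain ⟨hU0, hUinv⟩ := (Finset.mem_filter.1 hUm).2
  have hmin : ∀ X : Submodule (ZMod 2) W, X ≤ U → (∀ n ∈ N, ∀ x ∈ X, ρ n x ∈ X) → X = ⊥ ∨ X = U :=
    fun X hXU hX => or_iff_not_imp_left.2 fun hX0 =>
      Submodule.eq_of_le_of_finrank_le hXU (hUmin X (Finset.mem_filter.2 ⟨Finset.mem_univ _, hX0, hX⟩))
  -- the minimal piece has dimension at least three
  have hU3 : 3 ≤ Module.finrank (ZMod 2) U := by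
    by_contra hlt
    obtain ⟨u, huU, hu0⟩ := Submodule.exists_mem_ne_zero_of_ne_bot hU0
    have hmove : ∃ n ∈ N, ρ n u ≠ u := by
      by_contra hc
      push Not at hc
      exact hu0 (hfix u hc)
    obtain ⟨n, hn, hnu⟩ := hmove
    have hno : ∀ v ∈ U, ρ n v = v → v = 0 := by
      intro v hv hnv
      let X : Submodule (ZMod 2) W := U ⊓ LinearMap.ker (ρ n - 1)
      have hX : ∀ m ∈ N, ∀ x ∈ X, ρ m x ∈ X := by
        rintro m hm x ⟨hxU, hx⟩
        refine ⟨hUinv m hm x hxU, ?_⟩
        simp only [SetLike.mem_coe, LinearMap.mem_ker, LinearMap.sub_apply, Module.End.one_apply, sub_eq_zero] at hx ⊢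
        rw [← Module.End.mul_apply, ← map_mul, hNc n hn m hm, map_mul, Module.End.mul_apply, hx]
      have hmemX : ∀ x ∈ X, ρ n x = x := fun x hx => by
        have := hx.2
        simpa [sub_eq_zero] using this
      rcases hmin X inf_le_left hX with h | h
      · exact (Submodule.mem_bot (ZMod 2)).1 (h ▸ (show v ∈ X from ⟨hv, by simp [hnv]⟩))
      · exact absurd (hmemX u (h ▸ huU)) hnu
    haveI := Fintype.ofFinite U
    let a : W := ρ n u
    let c : W := ρ n a
    have haU : a ∈ U := hUinv n hn u huU
    have hcU : c ∈ U := hUinv n hn a haU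
    have ha0 : a ≠ 0 := fun h => hu0 (apply_injective ρ n (h.trans (map_zero _).symm))
    have hc0 : c ≠ 0 := fun h => ha0 (apply_injective ρ n (h.trans (map_zero _).symm))
    have hau : a ≠ u := hnu
    have hca : c ≠ a := fun h => hau (apply_injective ρ n h)
    have hcu : c ≠ u := fun h => hau (by
      have h1 : ρ n (u + a) = u + a := by rw [map_add]; show a + c = u + a; rw [h, add_comm]
      have h2 := hno _ (U.add_mem huU haU) h1
      calc a = (u + u) + a := by rw [← two_smul (ZMod 2) u, show (2 : ZMod 2) = 0 from rfl, zero_smul, zero_add]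
        _ = u := by rw [add_assoc, h2, add_zero])
    have h4 : Fintype.card U ≤ 4 := by
      rw [← Nat.card_eq_fintype_card, Module.natCard_eq_pow_finrank (K := ZMod 2), Nat.card_zmod]
      calc 2 ^ Module.finrank (ZMod 2) U ≤ 2 ^ 2 := Nat.pow_le_pow_right two_pos (by omega)
        _ = 4 := rfl
    let T : Finset U := {0, ⟨u, huU⟩, ⟨a, haU⟩, ⟨c, hcU⟩}
    have hT : T.card = 4 := by
      simp [T, Ne.symm hu0, Ne.symm ha0, Ne.symm hc0, hau.symm, hcu.symm, hca.symm, Subtype.ext_iff]
    have hall : ∀ x ∈ U, x = 0 ∨ x = u ∨ x = a ∨ x = c := fun x hx => by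
      have : (⟨x, hx⟩ : U) ∈ T := by
        rw [Finset.eq_univ_of_card T (le_antisymm (Finset.card_le_univ T) (hT ▸ h4))]
        exact Finset.mem_univ _
      simpa [T, Subtype.ext_iff] using this
    have hcube : ρ (n ^ 3) u = u := by
      rw [show n ^ 3 = n * (n * n) by rw [pow_succ', pow_two]]
      simp only [map_mul, Module.End.mul_apply]
      show ρ n c = u
      rcases hall _ (hUinv n hn c hcU) with h | h | h | h
      · exact absurd (apply_injective ρ n (h.trans (map_zero _).symm)) hc0
      · exact h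
      · exact absurd (apply_injective ρ n h) hcu
      · exact absurd (apply_injective ρ n h) hca
    have hco : (3 : ℕ).Coprime (orderOf n) := (Nat.Prime.coprime_iff_not_dvd Nat.prime_three).2
      fun h => h3 (h.trans (orderOf_dvd_natCard n))
    obtain ⟨m, hm⟩ := exists_pow_eq_self_of_coprime hco
    refine hnu ?_
    have : ∀ j : ℕ, ρ ((n ^ 3) ^ j) u = u := fun j => by
      induction j with
      | zero => rw [pow_zero, map_one, Module.End.one_apply]
      | succ j ih => rw [pow_succ, map_mul, Module.End.mul_apply, hcube, ih]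
    rw [← hm]
    exact this m
  -- it is invariant under the whole group
  have hUtop : U = ⊤ := by
    refine (hirr U fun g x hx => ?_).resolve_left hU0
    have hgU : U.map (ρ g) = U := by
      by_contra hne
      let X := U.map (ρ g)
      have hX : ∀ m ∈ N, ∀ y ∈ X, ρ m y ∈ X := by
        rintro m hm _ ⟨y, hy, rfl⟩
        have hm' : g⁻¹ * m * g ∈ N := by simpa using ‹N.Normal›.conj_mem m hm g⁻¹
        refine ⟨_, hUinv _ hm' y hy, ?_⟩
        simp only [← Module.End.mul_apply, ← map_mul]
        congr 2; group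
      have hdim : Module.finrank (ZMod 2) X = Module.finrank (ZMod 2) U :=
        (Submodule.equivMapOfInjective (ρ g) (apply_injective ρ g) U).finrank_eq.symm
      rcases hmin (U ⊓ X) inf_le_left (fun m hm y hy => ⟨hUinv m hm y hy.1, hX m hm y hy.2⟩) with h | h
      · have h1 := Submodule.finrank_sup_add_finrank_inf_eq U X
        rw [h, finrank_bot, hdim] at h1
        have h2 := Submodule.finrank_le (U ⊔ X)
        omega
      · exact hne (Submodule.eq_of_le_of_finrank_le (inf_eq_left.1 h) hdim.le).symm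
    exact hgU ▸ Submodule.mem_map_of_mem hx
  subst hUtop
  refine exists_field_set hρ h3 N hNc (fun X hX => hmin X le_top hX) ?_
  rw [finrank_top] at hU3
  calc 8 = 2 ^ 3 := rfl
    _ ≤ 2 ^ k := Nat.pow_le_pow_right two_pos hU3
    _ = Nat.card W := hcard.symm

end Cfsg.Agent.CopBase
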