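import Cfsg.Agent.Lib.CopBase.Monomial

/-!
The number of ternary vectors with largest line stabilisers, by computation.
-/

set_option autoImplicit false

namespace Cfsg.Agent.CopBase

/-- A signed translate of a packed ternary vector is plus or minus the vector. -/
def eigOK (n x : ℕ) : Bool :=
  let d := fun i => n / 3 ^ i % 3
  let sg := fun i => if par ((x >>> 3) &&& (i ^^^ x % 2 ^ 3)) then 2 else 1
  ((List.range 8).all fun i => sg i * d (i ^^^ x % 2 ^ 3) % 3 == d i) ||
    ((List.range 8).all fun i => sg i * d (i ^^^ x % 2 ^ 3) % 3 == 2 * d i % 3)

/-- A packed ternary vector with eight signed translates equal to it up to sign. -/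
def topOK (n : ℕ) : Bool := n != 0 && (List.range 64).countP (eigOK n) == 8

lemma top_count : (List.range 6561).countP topOK = 480 := by decide +kernel

end Cfsg.Agent.CopBase
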