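import Cfsg.Agent.Lib.CopBase.TinyBasic

/-!
Transfer of classes along the stabiliser, and the stabiliser as a linear group on the quotient.
-/

set_option autoImplicit false
set_option linter.style.haveILetI false
set_option linter.unusedSectionVars false

namespace Cfsg.Agent.CopBase

open PrimSol SolBase
open scoped commutatorElement

universe u v

variable {F : Type*} [Field F] {V : Type v} [AddCommGroup V] [Module F V] [FiniteDimensional F V]
  [Finite V] [Nontrivial V] {G : Type u} [Group G] [Finite G] {ρ : G →* Module.End F V}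
  {A E : Subgroup G} {w : V}

/-- A coefficient carried by an element of the centraliser. -/
theorem ratio (ht : IsTop ρ A E w) {n : G} (hn : n ∈ ht.N) {a b : Module.End F V} (ha : a ∈ alg ρ A)
    (hb : b ∈ alg ρ A) (ha0 : a ≠ 0) (h : ρ n (a w) = b w) :
    n ∈ ht.L ∧ ∃ r ∈ alg ρ A, ρ n w = r w ∧ r * a = b := by
  have hl := ht.toIsLayer
  obtain ⟨a', ha', haa⟩ := hl.scal.inv a ha ha0
  have hnw : ρ n w = (a' * b) w := by
    rw [Module.End.mul_apply, ← h, ← Module.End.mul_apply (ρ n), hl.commute_scalar hn.1 ha,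
      Module.End.mul_apply, ← Module.End.mul_apply a', haa, Module.End.one_apply]
  refine ⟨⟨hn.1, _, mul_mem ha' hb, hnw⟩, a' * b, mul_mem ha' hb, hnw, ?_⟩
  rw [mul_assoc, hl.scal.comm b hb a ha, ← mul_assoc, haa, one_mul]

/-- The class of a coefficient is preserved up to sign. -/
theorem class_transfer (ht : IsTop ρ A E w) {g x y : G} (hgA : ∀ c ∈ A, g * c = c * g) (hx : x ∈ E)
    (hy : y ∈ E) (hxA : x ^ 2 ∈ A) (hyA : y ^ 2 ∈ A) (hn : y⁻¹ * (g * x * g⁻¹) ∈ ht.N)
    {a b : Module.End F V} (ha : a ∈ alg ρ A) (hb : b ∈ alg ρ A) (ha0 : a ≠ 0)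
    (h : ρ (y⁻¹ * (g * x * g⁻¹)) (a w) = b w) :
    ρ (x ^ 2) * (a * a) = ρ (y ^ 2) * (b * b) ∨ ρ (x ^ 2) * (a * a) = -(ρ (y ^ 2) * (b * b)) := by
  have hl := ht.toIsLayer
  obtain ⟨hnL, r, hr, hnw, hra⟩ := ratio ht hn ha hb ha0 h
  set n := y⁻¹ * (g * x * g⁻¹) with hnd
  have hn2 : n ^ 2 ∈ A ∧ x ^ 2 = ⁅n, y⁆ * (y ^ 2 * n ^ 2) := by
    have e1 : x ^ 2 = ⁅n, y⁆ ^ (2 : ℕ).choose 2 * (y ^ 2 * n ^ 2) := by
      rw [← ht.mul_pow_eq hy hn.1, show y * n = g * x * g⁻¹ by rw [hnd]; group, conj_pow,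
        hgA _ hxA, mul_inv_cancel_right]
    rw [Nat.choose_self, pow_one] at e1
    refine ⟨?_, e1⟩
    have e2 : n ^ 2 = (y ^ 2)⁻¹ * (⁅n, y⁆⁻¹ * x ^ 2) := by rw [e1]; group
    rw [e2]
    exact A.mul_mem (A.inv_mem hyA) (A.mul_mem (A.inv_mem (hl.der _ hn.1 _ hy)) hxA)
  have hnr : ρ (n ^ 2) = r * r := by
    refine hl.scal.eq_of_apply (hl.scalar hn2.1) (mul_mem hr hr) ht.ne ?_
    rw [pow_two, map_mul, Module.End.mul_apply, hnw, ← Module.End.mul_apply, hl.commute_scalar hn.1 hr,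
      Module.End.mul_apply, hnw, Module.End.mul_apply]
  have hz : ρ ⁅n, y⁆ ∈ alg ρ A := hl.scalar (hl.der _ hn.1 _ hy)
  have hsgn : ρ ⁅n, y⁆ = 1 ∨ ρ ⁅n, y⁆ = -1 := by
    have h4 : ⁅n, y⁆ ^ 2 = 1 := by
      rw [← commutatorElement_inv, inv_pow, hl.comm_pow_eq_one hy hn.1 hyA, inv_one]
    have h5 : (ρ ⁅n, y⁆ - 1) * (ρ ⁅n, y⁆ + 1) = 0 := by
      rw [sub_mul, mul_add, mul_one, one_mul, ← pow_two, ← map_pow, h4, map_one,
        add_comm (1 : Module.End F V), sub_self]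
    rcases hl.scal.eq_zero_or (sub_mem hz (one_mem _)) h5 with h6 | h6
    · exact Or.inl (sub_eq_zero.1 h6)
    · exact Or.inr (eq_neg_of_add_eq_zero_left h6)
  have e3 : ρ (x ^ 2) * (a * a) = ρ ⁅n, y⁆ * (ρ (y ^ 2) * (b * b)) := by
    rw [hn2.2, map_mul, map_mul, hnr, mul_assoc, mul_assoc, ← hra]
    congr 2
    exact (hl.scal.comm a ha r hr ▸ (Commute.mul_mul_mul_comm (show Commute r a from hl.scal.comm r hr a ha) r a))
  rcases hsgn with h6 | h6 <;> rw [h6] at e3
  · exact Or.inl (by rw [e3, one_mul])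
  · exact Or.inr (by rw [e3, neg_one_mul])

/-- The elements fixing the chosen vector and commuting with the scalars. -/
def stab (ρ : G →* Module.End F V) (A : Subgroup G) (w : V) : Subgroup G where
  carrier := {g | (∀ a ∈ A, g * a = a * g) ∧ ρ g w = w}
  one_mem' := ⟨fun a _ => by rw [one_mul, mul_one], by rw [map_one, Module.End.one_apply]⟩
  mul_mem' := fun {g h} hg hh => ⟨fun a ha => (Commute.mul_left (hg.1 a ha) (hh.1 a ha)).eq, by
    rw [map_mul, Module.End.mul_apply, hh.2, hg.2]⟩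
  inv_mem' := fun {g} hg => ⟨fun a ha => (Commute.inv_left (hg.1 a ha)).eq, by
    conv_lhs => rw [← hg.2]
    exact inv_apply_cancel ρ g w⟩

/-- Conjugation by the stabiliser on the quotient of the layer. -/
def conjQuot (ht : IsTop ρ A E w) [(ht.N.subgroupOf E).Normal] (s : stab ρ A w) :
    E ⧸ ht.N.subgroupOf E →* E ⧸ ht.N.subgroupOf E :=
  QuotientGroup.map _ _
    { toFun := fun x : E => (⟨(s : G) * x * (s : G)⁻¹, ht.normal.conj_mem x x.2 s⟩ : E)
      map_one' := Subtype.ext (by simp)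
      map_mul' := fun x y => Subtype.ext (by
        show (s : G) * ((x * y : E) : G) * (s : G)⁻¹ = (s : G) * x * (s : G)⁻¹ * ((s : G) * y * (s : G)⁻¹)
        rw [Subgroup.coe_mul]; group) }
    fun x hx => by
      rw [Subgroup.mem_comap, Subgroup.mem_subgroupOf]
      exact conj_N ht s.2.2 hx

theorem conjQuot_mk (ht : IsTop ρ A E w) [(ht.N.subgroupOf E).Normal] (s : stab ρ A w) (x : E) :
    conjQuot ht s (x : E ⧸ ht.N.subgroupOf E) =
      ((⟨(s : G) * x * (s : G)⁻¹, ht.normal.conj_mem x x.2 s⟩ : E) : E ⧸ ht.N.subgroupOf E) := rfl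

/-- The stabiliser acts linearly on the coordinates. -/
@[reducible] def stabAction (ht : IsTop ρ A E w) [(ht.N.subgroupOf E).Normal] {k : ℕ}
    (e : E ⧸ ht.N.subgroupOf E ≃* Multiplicative (Fin k → ZMod 2)) :
    DistribMulAction (stab ρ A w) (Fin k → ZMod 2) where
  smul s x := Multiplicative.toAdd (e (conjQuot ht s (e.symm (Multiplicative.ofAdd x))))
  one_smul x := by
    show Multiplicative.toAdd (e (conjQuot ht 1 (e.symm (Multiplicative.ofAdd x)))) = x
    obtain ⟨f, hf⟩ := QuotientGroup.mk_surjective (e.symm (Multiplicative.ofAdd x))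
    rw [← hf, conjQuot_mk]
    have e1 : (⟨((1 : stab ρ A w) : G) * f * ((1 : stab ρ A w) : G)⁻¹, ht.normal.conj_mem f f.2 _⟩ : E) = f :=
      Subtype.ext (by simp)
    rw [e1, hf, MulEquiv.apply_symm_apply, toAdd_ofAdd]
  mul_smul s t x := by
    show Multiplicative.toAdd (e (conjQuot ht (s * t) (e.symm (Multiplicative.ofAdd x)))) =
      Multiplicative.toAdd (e (conjQuot ht s (e.symm (Multiplicative.ofAdd
        (Multiplicative.toAdd (e (conjQuot ht t (e.symm (Multiplicative.ofAdd x)))))))))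
    rw [ofAdd_toAdd, MulEquiv.symm_apply_apply]
    obtain ⟨f, hf⟩ := QuotientGroup.mk_surjective (e.symm (Multiplicative.ofAdd x))
    rw [← hf, conjQuot_mk, conjQuot_mk, conjQuot_mk]
    congr 3
    exact Subtype.ext (by
      show ((s * t : stab ρ A w) : G) * f * ((s * t : stab ρ A w) : G)⁻¹ = _
      rw [Subgroup.coe_mul]; group)
  smul_zero s := by
    show Multiplicative.toAdd (e (conjQuot ht s (e.symm (Multiplicative.ofAdd 0)))) = 0
    rw [ofAdd_zero, map_one, map_one, map_one, toAdd_one]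
  smul_add s x y := by
    show Multiplicative.toAdd (e (conjQuot ht s (e.symm (Multiplicative.ofAdd (x + y))))) =
      Multiplicative.toAdd (e (conjQuot ht s (e.symm (Multiplicative.ofAdd x)))) +
        Multiplicative.toAdd (e (conjQuot ht s (e.symm (Multiplicative.ofAdd y))))
    rw [ofAdd_add, map_mul, map_mul, map_mul, toAdd_mul]

/-- The map of an element of the stabiliser is its action. -/
theorem toAdd_map_eq (ht : IsTop ρ A E w) [(ht.N.subgroupOf E).Normal] {k : ℕ}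
    (e : E ⧸ ht.N.subgroupOf E ≃* Multiplicative (Fin k → ZMod 2))
    (R : E ⧸ ht.N.subgroupOf E → G)
    (hR : ∀ v, ∃ hv : R v ∈ E, ((⟨R v, hv⟩ : E) : E ⧸ ht.N.subgroupOf E) = v)
    (M : E ⧸ ht.N.subgroupOf E →* E ⧸ ht.N.subgroupOf E) (s : stab ρ A w)
    (hM : ∀ v, v ≠ 1 → (R (M v))⁻¹ * ((s : G) * R v * (s : G)⁻¹) ∈ ht.N) (x : Fin k → ZMod 2) :
    letI := stabAction ht e
    s • x = Multiplicative.toAdd (e (M (e.symm (Multiplicative.ofAdd x)))) := by
  show Multiplicative.toAdd (e (conjQuot ht s (e.symm (Multiplicative.ofAdd x)))) = _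
  congr 2
  set v := e.symm (Multiplicative.ofAdd x)
  by_cases hv : v = 1
  · rw [hv, map_one, map_one]
  obtain ⟨h1, h2⟩ := hR v
  obtain ⟨h3, h4⟩ := hR (M v)
  conv_lhs => rw [← h2, conjQuot_mk]
  conv_rhs => rw [← h4]
  rw [eq_comm, QuotientGroup.eq, Subgroup.mem_subgroupOf]
  exact hM v hv

/-- Coprimality to three passes to the stabiliser. -/
theorem three_not_dvd_stab (hcop : (Nat.card G : F) ≠ 0) (h3 : (3 : F) = 0) :
    ¬ 3 ∣ Nat.card (stab ρ A w) := by
  intro h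
  obtain ⟨c, hc⟩ := h.trans (Subgroup.card_subgroup_dvd_card _)
  refine hcop ?_
  rw [hc, Nat.cast_mul, Nat.cast_ofNat, h3, zero_mul]

end Cfsg.Agent.CopBase
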