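import Cfsg.Agent.Lib.CopBase.Counts
import Cfsg.Agent.Lib.CopBase.Transfer
import Cfsg.Agent.Lib.CopBase.MGroups
import Cfsg.Agent.Lib.CopBase.TopCount

/-!
Dimension three over three scalars: an element of order seven fixing the chosen vector.
-/

set_option autoImplicit false
set_option linter.style.haveILetI false
set_option linter.unusedSectionVars false

namespace Cfsg.Agent.CopBase

open PrimSol SolBase
open scoped commutatorElement

universe u v

lemma card_fin_bool (n : ℕ) (p : ℕ → Bool) : Nat.card {x : Fin n // p x} = (List.range n).countP p := by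
  rw [List.countP_eq_length_filter, Nat.card_eq_fintype_card, Fintype.card_subtype,
    ← Finset.card_map Fin.valEmbedding]
  have e : (Finset.univ.filter fun x : Fin n => p x = true).map Fin.valEmbedding =
      ⟨((List.range n).filter p : List ℕ), Multiset.coe_nodup.2 (List.nodup_range.filter _)⟩ := by
    ext a
    simp only [Finset.mem_map, Finset.mem_filter, Finset.mem_univ, true_and, Fin.valEmbedding_apply,
      Finset.mem_mk, Multiset.mem_coe, List.mem_filter, List.mem_range]
    exact ⟨fun ⟨x, hx, e⟩ => e ▸ ⟨x.2, hx⟩, fun ⟨h1, h2⟩ => ⟨⟨a, h1⟩, h2, rfl⟩⟩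
  rw [e]
  rfl

section count
variable {F : Type*} [Field F] [Finite F] [CharP F 3]

/-- Eight-dimensional ternary vectors with largest line stabilisers. -/
theorem top_vectors (hcard : Nat.card F = 3) :
    Nat.card {v : Fin (2 ^ 3) → F // v ≠ 0 ∧
      Nat.card {x : Fin (2 ^ 6) // opMono F 3 x v = v ∨ opMono F 3 x v = -v} = 8} = 480 := by
  classical
  haveI : Fact (Nat.Prime 3) := ⟨Nat.prime_three⟩
  have hinj : Function.Injective (fun a : Fin 3 => ((a : ℕ) : F)) := fun a b h =>
    Fin.ext (((CharP.natCast_eq_natCast F 3).1 h).eq_of_lt_of_lt a.2 b.2)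
  have hbij : Function.Bijective (fun a : Fin 3 => ((a : ℕ) : F)) :=
    hinj.bijective_of_nat_card_le (by rw [hcard, Nat.card_fin])
  let φ : Fin 3 ≃ F := Equiv.ofBijective _ hbij
  let ε : (Fin (2 ^ 3) → F) ≃ Fin (3 ^ (2 ^ 3)) := (Equiv.piCongrRight fun _ => φ.symm).trans finFunctionFinEquiv
  have hdig : ∀ (m : Fin (3 ^ (2 ^ 3))) (i : Fin (2 ^ 3)), ε.symm m i = (((m : ℕ) / 3 ^ (i : ℕ) % 3 : ℕ) : F) := by
    intro m i
    show φ ((finFunctionFinEquiv.symm m) i) = _
    simp [φ, finFunctionFinEquiv]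
  have hz : ((0 : Fin (3 ^ (2 ^ 3)))) = ε 0 := by
    rw [eq_comm, ← Equiv.eq_symm_apply]
    funext i
    rw [hdig]
    simp
  have hop : ∀ (m : Fin (3 ^ (2 ^ 3))) (x : ℕ), eigOK m x = true ↔
      (opMono F 3 x (ε.symm m) = ε.symm m ∨ opMono F 3 x (ε.symm m) = -ε.symm m) := by
    intro m x
    have h2 : ((2 : ℕ) : F) = -1 := by
      have h3 : ((3 : ℕ) : F) = 0 := CharP.cast_eq_zero F 3
      push_cast at h3 ⊢
      linear_combination h3
    have hcast : ∀ a b : ℕ, b < 3 → ((a % 3 == b) = true ↔ (a : F) = (b : F)) := fun a b hb => by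
      rw [beq_iff_eq]
      constructor
      · intro h; rw [← h, CharP.cast_eq_mod F 3 a]
      · intro h
        have h1 := (CharP.natCast_eq_natCast F 3).1 h
        rwa [Nat.ModEq, Nat.mod_eq_of_lt hb] at h1
    have hval : ∀ i : Fin (2 ^ 3),
        (((if par ((x >>> 3) &&& ((i : ℕ) ^^^ x % 2 ^ 3)) then 2 else 1) *
          ((m : ℕ) / 3 ^ ((i : ℕ) ^^^ x % 2 ^ 3) % 3) : ℕ) : F) = opMono F 3 x (ε.symm m) i := by
      intro i
      show _ = bitSign F (msgn 3 i x) * ε.symm m (axor 3 i x)
      rw [hdig, Nat.cast_mul]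
      congr 1
      simp only [msgn, axor, bitSign]
      by_cases hb : par ((x >>> 3) &&& ((i : ℕ) ^^^ x % 2 ^ 3)) = true <;>
        simp only [hb, if_true, if_false, Bool.false_eq_true, Nat.cast_one, h2]
    simp only [eigOK, Bool.or_eq_true, List.all_eq_true, List.mem_range]
    refine or_congr ⟨fun h => funext fun i => ?_, fun h i hi => ?_⟩ ⟨fun h => funext fun i => ?_, fun h i hi => ?_⟩
    · rw [← hval, hdig]
      exact (hcast _ _ (Nat.mod_lt _ (by omega))).1 (h i i.2)
    · refine (hcast _ _ (Nat.mod_lt _ (by omega))).2 ?_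
      have := congrFun h ⟨i, hi⟩
      rwa [← hval, hdig] at this
    · rw [Pi.neg_apply, ← hval, hdig, (hcast _ _ (Nat.mod_lt _ (by omega))).1 (h i i.2), ← CharP.cast_eq_mod F 3,
        Nat.cast_mul, h2, neg_one_mul]
    · refine (hcast _ _ (Nat.mod_lt _ (by omega))).2 ?_
      have := congrFun h ⟨i, hi⟩
      rw [Pi.neg_apply, ← hval, hdig] at this
      rw [this, ← CharP.cast_eq_mod F 3 (2 * _), Nat.cast_mul, h2, neg_one_mul]
  have key : ∀ m : Fin (3 ^ (2 ^ 3)), topOK m = true ↔ (ε.symm m ≠ 0 ∧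
      Nat.card {x : Fin (2 ^ 6) // opMono F 3 x (ε.symm m) = ε.symm m ∨
        opMono F 3 x (ε.symm m) = -ε.symm m} = 8) := by
    intro m
    simp only [topOK, Bool.and_eq_true, bne_iff_ne, beq_iff_eq]
    refine and_congr ⟨fun h e => h ?_, fun h e => h ?_⟩ ?_
    · rw [Equiv.symm_apply_eq, ← hz] at e
      rw [e]; rfl
    · rw [Equiv.symm_apply_eq, ← hz]
      exact Fin.ext e
    · rw [Nat.card_congr (Equiv.subtypeEquivRight fun x : Fin (2 ^ 6) => (hop m x).symm), card_fin_bool]
      rfl
  rw [← Nat.card_congr (Equiv.subtypeEquiv ε.symm key), card_fin_bool]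
  exact top_count

end count

variable {F : Type*} [Field F] {V : Type v} [AddCommGroup V] [Module F V] [FiniteDimensional F V]
  [Finite V] [Nontrivial V] {G : Type u} [Group G] [Finite G] {ρ : G →* Module.End F V}
  {A E : Subgroup G} {w : V}

/-- A single uncoloured point suffices when the stabiliser acts freely. -/
theorem two_of_free (ht : IsTop ρ A E w) [(ht.N.subgroupOf E).Normal]
    (e : E ⧸ ht.N.subgroupOf E ≃* Multiplicative (Fin 3 → ZMod 2)) (z : V) (hz : z ∈ space ht)
    (hS : ∀ g : G, ρ g w = w → ρ g z = z → ∀ x ∈ space ht, ρ g x = x)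
    (hfree : letI := stabAction ht e
      ∀ (s : stab ρ A w) (v : Fin 3 → ZMod 2), v ≠ 0 → s • v = v → ∀ x : Fin 3 → ZMod 2, s • x = x) : Two ρ := by
  classical
  obtain ⟨R, hR, hR1, -⟩ := exists_reps ht
  let a : E ⧸ ht.N.subgroupOf E := e.symm (Multiplicative.ofAdd (Pi.single 0 1))
  have ha1 : a ≠ 1 := fun h => by
    have h' : Multiplicative.toAdd (e a) = 0 := by rw [h, map_one, toAdd_one]
    simp only [a, MulEquiv.apply_symm_apply, toAdd_ofAdd] at h'
    exact absurd (congrFun h' 0) (by simp)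
  let c : E ⧸ ht.N.subgroupOf E → V := fun v => if v = 1 then z else if v = a then 0 else w
  refine two_of_colour ht z hS R hR hR1 c (fun v => ?_) (if_pos rfl) ?_ ?_
  · simp only [c]; split_ifs
    exacts [hz, Submodule.zero_mem _, self_mem_space ht]
  · intro g M hgA hgw _ hM h
    letI := stabAction ht e
    have hact := toAdd_map_eq ht e R hR M ⟨g, hgA, hgw⟩ fun v hv => (h v hv).1
    have hMa : M a = a := by
      have hMa1 : M a ≠ 1 := fun e' => ha1 (hM (e'.trans (map_one M).symm))
      obtain ⟨-, he⟩ := h a ha1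
      simp only [c, if_neg ha1, if_neg hMa1, if_true, map_zero] at he
      by_contra hne
      rw [if_neg hne] at he
      exact ht.ne he.symm
    have hall := hfree ⟨g, hgA, hgw⟩ (Multiplicative.toAdd (e a))
      (fun h0 => ha1 (e.injective (by rw [map_one]; exact Multiplicative.toAdd.injective (h0.trans toAdd_one.symm))))
      (by rw [hact, ofAdd_toAdd, MulEquiv.symm_apply_apply, hMa])
    refine MonoidHom.ext fun v => e.injective (Multiplicative.toAdd.injective ?_)
    have h2 := hall (Multiplicative.toAdd (e v))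
    rwa [hact, ofAdd_toAdd, MulEquiv.symm_apply_apply] at h2
  · refine (good_of_card (n := 1) ?_ (by rw [Nat.card_congr e.toEquiv, Nat.card_congr Multiplicative.toAdd]; simp)).spreads
    refine le_of_le_of_eq (Set.ncard_le_ncard (t := {a}) fun v hv => ?_) (Set.ncard_singleton _)
    simp only [Set.mem_compl_iff, Set.mem_setOf_eq, not_or, not_not, c] at hv
    obtain ⟨h1, h2'⟩ := hv
    rw [if_neg h1] at h2'
    by_contra hne
    rw [if_neg (fun e' => hne (Set.mem_singleton_iff.2 e'))] at h2'
    exact ht.ne h2'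

/-- An element of order seven fixing the vector makes the stabiliser act freely. -/
theorem free_of_seven (ht : IsTop ρ A E w) [(ht.N.subgroupOf E).Normal] (hNL : ht.N ≤ ht.L)
    (hK : ∀ x ∈ alg ρ A, ∃ c : F, x = c • (1 : Module.End F V)) (hF : ∀ c : F, c ≠ 0 → c * c = 1)
    (h3 : ¬ 3 ∣ Nat.card (stab ρ A w)) (g : G) (hg : orderOf g = 7) (hgw : ρ g w = w)
    (e : E ⧸ ht.N.subgroupOf E ≃* Multiplicative (Fin 3 → ZMod 2)) :
    letI := stabAction ht e
    ∀ (s : stab ρ A w) (v : Fin 3 → ZMod 2), v ≠ 0 → s • v = v → ∀ x : Fin 3 → ZMod 2, s • x = x := by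
  classical
  letI := stabAction ht e
  have hl := ht.toIsLayer
  rcases fixed_or_free_three (S := stab ρ A w) h3 with ⟨p, hp, hfix⟩ | hfree
  swap
  · exact hfree
  exfalso
  have hgA : ∀ a ∈ A, g * a = a * g := fun a ha => commute_of_prime hl hK ha
  let s : stab ρ A w := ⟨g, hgA, hgw⟩
  have hs7 : s ^ 7 = 1 := Subtype.ext (by
    rw [Subgroup.coe_pow, Subgroup.coe_one, ← hg]; exact pow_orderOf_eq_one g)
  haveI : Fact (Nat.Prime 7) := ⟨by norm_num⟩
  -- seven cannot move the other six points
  have htriv : ∀ x : Fin 3 → ZMod 2, s • x = x := by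
    intro x
    by_contra hx
    have hinj : Function.Injective (fun i : Fin 7 => s ^ (i : ℕ) • x) := by
      intro i j hij
      by_contra hne
      have key : ∀ a b : ℕ, a < b → b < 7 → s ^ a • x = s ^ b • x → False := by
        intro a b hab hb h
        have h1 : s ^ (b - a) • x = x := by
          rw [show b = a + (b - a) by omega, pow_add, mul_smul] at h
          exact (MulAction.injective (s ^ a) h).symm
        obtain ⟨c, hc⟩ : ∃ c, (b - a) * c % 7 = 1 := by
          have hd : 1 ≤ b - a ∧ b - a ≤ 6 := by omega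
          obtain ⟨d, hd'⟩ : ∃ d, d = b - a := ⟨_, rfl⟩
          rw [← hd'] at hd ⊢
          obtain ⟨hd1, hd2⟩ := hd
          interval_cases d
          exacts [⟨1, rfl⟩, ⟨4, rfl⟩, ⟨5, rfl⟩, ⟨2, rfl⟩, ⟨3, rfl⟩, ⟨6, rfl⟩]
        have h4 : ∀ n : ℕ, (s ^ (b - a)) ^ n • x = x := by
          intro n
          induction n with
          | zero => rw [pow_zero, one_smul]
          | succ n ih => rw [pow_succ, mul_smul, h1, ih]
        have h5 := h4 c
        rw [← pow_mul, ← Nat.div_add_mod ((b - a) * c) 7, hc, pow_add, pow_mul, hs7, one_pow, one_mul, pow_one] at h5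
        exact hx h5
      rcases lt_or_gt_of_ne (fun e' => hne (Fin.ext e')) with h | h
      · exact key _ _ h j.2 hij
      · exact key _ _ h i.2 hij.symm
    have hsub : Set.range (fun i : Fin 7 => s ^ (i : ℕ) • x) ⊆ {0, p}ᶜ := by
      rintro _ ⟨i, rfl⟩ hmem
      rcases hmem with h | h
      · change s ^ (i : ℕ) • x = 0 at h
        rw [smul_eq_zero_iff_eq] at h
        exact hx (by rw [h, smul_zero])
      · change s ^ (i : ℕ) • x = p at h
        rw [← hfix (s ^ (i : ℕ)), smul_left_cancel_iff] at h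
        exact hx (by rw [h, hfix])
    have hcard := Set.ncard_le_ncard hsub
    rw [Set.ncard_range_of_injective hinj, Nat.card_fin, Set.ncard_compl, Set.ncard_pair (Ne.symm hp),
      Nat.card_pi, Fin.prod_univ_three, Nat.card_zmod] at hcard
    omega
  -- the square fixes every translate
  have hconj : ∀ f ∈ E, ∃ c : F, c * c = 1 ∧ ρ g (ρ f w) = c • ρ f w := by
    intro f hf
    have h1 : conjQuot ht s ((⟨f, hf⟩ : E) : E ⧸ ht.N.subgroupOf E) = ((⟨f, hf⟩ : E) : E ⧸ ht.N.subgroupOf E) := by
      refine e.injective (Multiplicative.toAdd.injective ?_)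
      have := htriv (Multiplicative.toAdd (e ((⟨f, hf⟩ : E) : E ⧸ ht.N.subgroupOf E)))
      change Multiplicative.toAdd (e (conjQuot ht s (e.symm (Multiplicative.ofAdd (Multiplicative.toAdd (e _)))))) = _ at this
      rwa [ofAdd_toAdd, MulEquiv.symm_apply_apply] at this
    rw [conjQuot_mk, eq_comm, QuotientGroup.eq, Subgroup.mem_subgroupOf] at h1
    push_cast at h1
    obtain ⟨-, k, hk, hkw⟩ := hNL h1
    obtain ⟨c, rfl⟩ := hK k hk
    rw [LinearMap.smul_apply, Module.End.one_apply] at hkw
    refine ⟨c, hF c fun e0 => ht.ne ?_, ?_⟩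
    · rw [e0, zero_smul] at hkw
      exact apply_injective ρ _ (hkw.trans (map_zero _).symm)
    · have e2 : g * f = f * (f⁻¹ * (g * f * g⁻¹)) * g := by group
      rw [← Module.End.mul_apply, ← map_mul, e2, map_mul, Module.End.mul_apply, hgw, map_mul,
        Module.End.mul_apply, hkw, map_smul]
  have hsq1 : g ^ 2 = 1 := hl.eq_one_of_fix (fun a ha => (Commute.pow_left (hgA a ha) 2).eq) ht.ne fun f hf => by
    obtain ⟨c, hcc, hc⟩ := hconj f hf
    rw [pow_two, map_mul, Module.End.mul_apply, hc, map_smul, hc, smul_smul, hcc, one_smul]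
  have := orderOf_dvd_of_pow_eq_one hsq1
  rw [hg] at this
  omega

end Cfsg.Agent.CopBase
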