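import Mathlib

/-!
A search for the signed linear relabellings of a small binary space that keep a colouring.
-/

set_option autoImplicit false
set_option linter.style.haveILetI false

namespace Cfsg.Agent.CopBase

/-- The data of a signed colouring: twisting bit, square class, colour, and negation of colours. -/
structure SignData where
  bt : ℕ → ℕ → Bool
  sq : ℕ → Bool
  col : ℕ → ℕ
  neg : ℕ → ℕ

/-- A signed image is consistent at one point. -/
def SignData.okAt (D : SignData) (p : ℕ × ℕ × Bool) : Bool :=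
  (p.1 == 0 || p.2.1 != 0) && D.sq p.1 == D.sq p.2.1 &&
    D.col p.1 == (if p.2.2 then D.neg (D.col p.2.1) else D.col p.2.1)

/-- The new points after one more basis vector with given image and sign. -/
def SignData.next (D : SignData) (sp : List (ℕ × ℕ × Bool)) (e a : ℕ) (s : Bool) : List (ℕ × ℕ × Bool) :=
  sp.map fun p => (p.1 ^^^ e, p.2.1 ^^^ a, p.2.2 ^^ s ^^ D.bt p.1 e ^^ D.bt p.2.1 a)

/-- The image of a point in a list of signed images. -/
def imgOf (sp : List (ℕ × ℕ × Bool)) (x : ℕ) : ℕ :=
  match sp.find? (fun p => p.1 == x) with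
  | some p => p.2.1
  | none => x

/-- Repeated application of the listed images. -/
def imgIter (sp : List (ℕ × ℕ × Bool)) : ℕ → ℕ → ℕ
  | 0, x => x
  | r + 1, x => imgIter sp r (imgOf sp x)

/-- All consistent choices have order dividing the exponent. -/
def SignData.search (D : SignData) (n r : ℕ) : List ℕ → List (ℕ × ℕ × Bool) → Bool
  | [], sp => sp.all fun p => imgIter sp r p.1 == p.1
  | e :: es, sp => (List.range n).all fun a =>
      !(D.sq e == D.sq a && (D.col e == D.col a || D.col e == D.neg (D.col a))) ||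
        [false, true].all fun s =>
          !((D.next sp e a s).all D.okAt) || D.search n r es (sp ++ D.next sp e a s)

/-- The points reached from a list of vectors. -/
def spanPts : List ℕ → List ℕ → List ℕ
  | [], sp => sp
  | e :: es, sp => spanPts es (sp ++ sp.map fun x => x ^^^ e)

/-- A list reaches every point below a bound. -/
def covers (n : ℕ) (l : List ℕ) : Bool := l.foldl (fun acc x => acc ||| 2 ^ x) 0 == 2 ^ n - 1

lemma mem_of_covers {n : ℕ} {l : List ℕ} (h : covers n l = true) {x : ℕ} (hx : x < n) : x ∈ l := by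
  simp only [covers, beq_iff_eq] at h
  have key : ∀ (l : List ℕ) (acc : ℕ), (l.foldl (fun acc x => acc ||| 2 ^ x) acc).testBit x = true →
      acc.testBit x = true ∨ x ∈ l := by
    intro l
    induction l with
    | nil => exact fun acc ha => Or.inl ha
    | cons y l ih =>
      intro acc ha
      rcases ih _ ha with h1 | h1
      · rw [Nat.testBit_or, Bool.or_eq_true, Nat.testBit_two_pow, decide_eq_true_eq] at h1
        rcases h1 with h1 | h1
        · exact Or.inl h1
        · exact Or.inr (h1 ▸ List.mem_cons_self ..)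
      · exact Or.inr (List.mem_cons_of_mem _ h1)
  refine (key l 0 ?_).resolve_left (by simp)
  rw [h, Nat.testBit_two_pow_sub_one]
  simpa using hx

/-- The search is sound. -/
theorem SignData.search_sound (D : SignData) {k r : ℕ} (M : ℕ → ℕ) (t : ℕ → Bool)
    (hM : ∀ x < 2 ^ k, M x < 2 ^ k)
    (hadd : ∀ x < 2 ^ k, ∀ y < 2 ^ k, M (x ^^^ y) = M x ^^^ M y ∧
      t (x ^^^ y) = (t x ^^ t y ^^ D.bt x y ^^ D.bt (M x) (M y)))
    (hne : ∀ x < 2 ^ k, x ≠ 0 → M x ≠ 0)
    (hsq : ∀ x < 2 ^ k, D.sq x = D.sq (M x))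
    (hcol : ∀ x < 2 ^ k, D.col x = if t x then D.neg (D.col (M x)) else D.col (M x)) :
    ∀ (es : List ℕ) (sp : List (ℕ × ℕ × Bool)), (∀ p ∈ sp, p.1 < 2 ^ k ∧ p.2.1 = M p.1 ∧ p.2.2 = t p.1) →
      (∀ e ∈ es, e < 2 ^ k) → D.search (2 ^ k) r es sp = true → covers (2 ^ k) (spanPts es (sp.map (·.1))) = true →
      ∀ x < 2 ^ k, M^[r] x = x := by
  intro es
  induction es with
  | nil =>
    intro sp hsp _ h hcov x hx
    simp only [spanPts] at hcov
    simp only [SignData.search, List.all_eq_true, beq_iff_eq] at h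
    have himg : ∀ y < 2 ^ k, imgOf sp y = M y := by
      intro y hy
      obtain ⟨p, hp, hpy⟩ := List.mem_map.1 (mem_of_covers hcov hy)
      unfold imgOf
      cases hf : sp.find? (fun q => q.1 == y) with
      | none =>
        have := List.find?_eq_none.1 hf p hp
        simp [hpy] at this
      | some q =>
        have h1 := List.find?_some hf
        simp only [beq_iff_eq] at h1
        show q.2.1 = M y
        rw [(hsp q (List.mem_of_find?_eq_some hf)).2.1, h1]
    have hiter : ∀ (j : ℕ) (y : ℕ), y < 2 ^ k → imgIter sp j y = M^[j] y := by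
      intro j
      induction j with
      | zero => exact fun y _ => rfl
      | succ j ih =>
        intro y hy
        rw [imgIter, himg y hy, ih _ (hM y hy), Function.iterate_succ_apply]
    obtain ⟨p, hp, hpx⟩ := List.mem_map.1 (mem_of_covers hcov hx)
    have h2 := h p hp
    rw [hpx, hiter r x hx] at h2
    exact h2
  | cons e es ih =>
    intro sp hsp hes h hcov
    have he : e < 2 ^ k := hes e (List.mem_cons_self ..)
    simp only [SignData.search, List.all_eq_true, List.mem_range, Bool.or_eq_true, Bool.not_eq_true'] at h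
    have hnext : ∀ p ∈ D.next sp e (M e) (t e), p.1 < 2 ^ k ∧ p.2.1 = M p.1 ∧ p.2.2 = t p.1 := by
      intro p hp
      obtain ⟨q, hq, rfl⟩ := List.mem_map.1 hp
      obtain ⟨a1, a2, a3⟩ := hsp q hq
      refine ⟨Nat.xor_lt_two_pow a1 he, ?_, ?_⟩
      · show q.2.1 ^^^ M e = M (q.1 ^^^ e)
        rw [(hadd q.1 a1 e he).1, a2]
      · show (q.2.2 ^^ t e ^^ D.bt q.1 e ^^ D.bt q.2.1 (M e)) = t (q.1 ^^^ e)
        rw [(hadd q.1 a1 e he).2, a2, a3]
    have hpre : (D.sq e == D.sq (M e) && (D.col e == D.col (M e) || D.col e == D.neg (D.col (M e)))) = true := by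
      have h1 := hcol e he
      simp only [hsq e he, beq_self_eq_true, Bool.true_and, Bool.or_eq_true, beq_iff_eq]
      cases ht : t e
      · exact Or.inl (by simpa [ht] using h1)
      · exact Or.inr (by simpa [ht] using h1)
    have hok : (D.next sp e (M e) (t e)).all D.okAt = true := by
      rw [List.all_eq_true]
      intro p hp
      obtain ⟨a1, a2, a3⟩ := hnext p hp
      simp only [SignData.okAt, a2, a3, Bool.and_eq_true, Bool.or_eq_true, beq_iff_eq, bne_iff_ne]
      exact ⟨⟨(em (p.1 = 0)).imp id (hne _ a1), hsq _ a1⟩, hcol _ a1⟩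
    have h1 := (h (M e) (hM e he)).resolve_left (by rw [hpre]; exact Bool.noConfusion)
    have h2 := (h1 (t e) (by cases t e <;> simp)).resolve_left (by rw [hok]; exact Bool.noConfusion)
    refine ih (sp ++ D.next sp e (M e) (t e)) ?_ (fun x hx => hes x (List.mem_cons_of_mem _ hx)) h2 ?_
    · intro p hp
      rcases List.mem_append.1 hp with hp | hp
      exacts [hsp p hp, hnext p hp]
    · have e1 : (sp ++ D.next sp e (M e) (t e)).map (·.1) = sp.map (·.1) ++ (sp.map (·.1)).map (fun x => x ^^^ e) := by
        simp [SignData.next, List.map_append, List.map_map, Function.comp_def]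
      rw [e1]
      simpa [spanPts] using hcov

/-- The search from the origin. -/
theorem SignData.search_spec (D : SignData) {k r : ℕ} (M : ℕ → ℕ) (t : ℕ → Bool)
    (hM : ∀ x < 2 ^ k, M x < 2 ^ k) (h0 : M 0 = 0 ∧ t 0 = false)
    (hadd : ∀ x < 2 ^ k, ∀ y < 2 ^ k, M (x ^^^ y) = M x ^^^ M y ∧
      t (x ^^^ y) = (t x ^^ t y ^^ D.bt x y ^^ D.bt (M x) (M y)))
    (hne : ∀ x < 2 ^ k, x ≠ 0 → M x ≠ 0)
    (hsq : ∀ x < 2 ^ k, D.sq x = D.sq (M x))
    (hcol : ∀ x < 2 ^ k, D.col x = if t x then D.neg (D.col (M x)) else D.col (M x))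
    (es : List ℕ) (hes : es.all (fun e => decide (e < 2 ^ k)) = true)
    (h : D.search (2 ^ k) r es [(0, 0, false)] = true) (hcov : covers (2 ^ k) (spanPts es [0]) = true) :
    ∀ x < 2 ^ k, M^[r] x = x :=
  D.search_sound M t hM hadd hne hsq hcol es [(0, 0, false)]
    (fun p hp => by
      rw [List.mem_singleton] at hp; subst hp
      exact ⟨Nat.two_pow_pos k, h0.1.symm, h0.2.symm⟩)
    (fun e he => by simpa using List.all_eq_true.1 hes e he) h hcov

end Cfsg.Agent.CopBase
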