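import Cfsg.Agent.Lib.CopBase.Frame

/-!
Two vectors when the quotient of the layer by the centraliser of a line stabiliser is trivial.
-/

set_option autoImplicit false
set_option linter.style.haveILetI false
set_option linter.unusedSectionVars false

namespace Cfsg.Agent.CopBase

open PrimSol SolBase
open scoped commutatorElement

universe u v

variable {F : Type*} [Field F] {V : Type v} [AddCommGroup V] [Module F V] [FiniteDimensional F V]
  [Finite V] [Nontrivial V] {G : Type u} [Group G] [Finite G] {ρ : G →* Module.End F V}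
  {A E : Subgroup G} {w : V}

/-- The case in which the layer centralises the line stabiliser. -/
theorem two_of_le (ht : IsTop ρ A E w) (h2 : (2 : F) ≠ 0) (hcop : (Nat.card G : F) ≠ 0)
    (hEN : E ≤ ht.N) : Two ρ := by
  classical
  have hl := ht.toIsLayer
  have hLA : ht.L ≤ A := fun l hlm =>
    hl.self l (hl.cent l (ht.L_le hlm)) fun f hf => ((hEN hf).2 l hlm).symm
  obtain ⟨m₁, hm₁, m₂, hm₂, hgens, hcase⟩ := ht.exists_gens
  rcases hcase with hNL | ⟨h1A, h2A, hanti, hneg, hs1, hs2⟩
  · obtain ⟨y, hy⟩ := exists_shift hl.scal hl.inj h2 hcop ht.ne (v := w) fun g hgA hgw _ =>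
      hl.eq_one (hl.self g hgA fun f hf => hgA f (hLA (hNL (hEN hf)))) ht.ne hgw
    exact ⟨w, y, hy⟩
  obtain ⟨a, ha, b, hb, hb0, hab⟩ := exists_norm_one hl.scal (hl.scalar h1A) (hl.scalar h2A) hs1 hs2 hneg
  obtain ⟨b', hb', hbb⟩ := hl.scal.inv b hb hb0
  have hm1E := hm₁.1
  have hm2E := hm₂.1
  set ε := a * ρ m₁ + b * ρ m₂ with hε
  have hswap : ρ m₁ * ρ m₂ = -(ρ m₂ * ρ m₁) := by
    rw [← map_mul, ← map_mul, show m₁ * m₂ = ⁅m₁, m₂⁆ * (m₂ * m₁) by rw [commutatorElement_def]; group,
      map_mul, hanti, neg_one_mul]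
  have ca : ∀ {f : G}, f ∈ E → Commute (ρ f) a := fun hf => hl.commute_scalar hf ha
  have cb : ∀ {f : G}, f ∈ E → Commute (ρ f) b := fun hf => hl.commute_scalar hf hb
  have hεε : ε * ε = 1 := by
    rw [hε, add_mul, mul_add, mul_add, (ca hm1E).mul_mul_mul_comm, (cb hm2E).mul_mul_mul_comm,
      (cb hm1E).mul_mul_mul_comm, (ca hm2E).mul_mul_mul_comm, ← map_mul ρ m₁ m₁, ← map_mul ρ m₂ m₂, ← pow_two m₁,
      ← pow_two m₂, hswap, hl.scal.comm b hb a ha, mul_neg]
    rw [← hab]
    abel
  obtain ⟨v, hv⟩ : ∃ v, v + ε v ≠ 0 := by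
    by_contra hcon
    push Not at hcon
    have hεn : ε = -1 := LinearMap.ext fun v => by
      rw [LinearMap.neg_apply, Module.End.one_apply]
      exact eq_neg_of_add_eq_zero_right (hcon v)
    have e : ρ m₂ = b' * (-1 - a * ρ m₁) := by
      rw [← hεn, hε, add_sub_cancel_left, ← mul_assoc, hbb, one_mul]
    have hc : Commute (ρ m₁) (ρ m₂) := by
      rw [e]
      exact (show Commute (ρ m₁) b' from hl.commute_scalar hm1E hb').mul_right
        (((Commute.one_right _).neg_right).sub_right ((ca hm1E).mul_right (Commute.refl _)))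
    have h11 : (1 : Module.End F V) = -1 := by
      rw [← hanti, ← map_one ρ]
      refine congrArg ρ (commutatorElement_eq_one_iff_mul_comm.2 (hl.inj ?_)).symm
      rw [map_mul, map_mul]
      exact hc.eq
    exact hneg 1 (one_mem _) (by rw [mul_one]; exact h11)
  set u := v + ε v with hu
  have hεu : ε u = u := by
    rw [hu, map_add, ← Module.End.mul_apply, hεε, Module.End.one_apply, add_comm]
  have hstab : ∀ f ∈ E, ρ f u = u → f ∈ A := by
    intro f hf hfu
    have hle := hl.le_lineStab hv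
    have hcard : Nat.card (hl.lineStab hv) ≤ Nat.card A :=
      (ht.top _ hv).trans (Subgroup.card_le_of_le hLA)
    rw [Subgroup.eq_of_le_of_card_ge hle hcard]
    exact ⟨hf, 1, one_mem _, by rw [hfu, Module.End.one_apply]⟩
  obtain ⟨y, hy⟩ := exists_shift hl.scal hl.inj h2 hcop hv (v := ρ m₁ u) fun g hgA h1 h2 => by
    have hgk : ∀ k ∈ alg ρ A, ∀ x : V, ρ g (k x) = k (ρ g x) := fun k hk x => by
      rw [← Module.End.mul_apply, commute_alg hgA hk, Module.End.mul_apply]
    have h4 : ρ g (ρ m₂ u) = ρ m₂ u := by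
      have e : ρ m₂ u = b' (u - a (ρ m₁ u)) := by
        have e' : a (ρ m₁ u) + b (ρ m₂ u) = u := hεu
        rw [← eq_sub_of_add_eq' e', ← Module.End.mul_apply, hbb, Module.End.one_apply]
      rw [e, hgk b' hb', map_sub, hgk a ha, h1, h2]
    refine hl.eq_one_of_fix hgA hv fun f hf => ?_
    refine fix_closure (N := E) h1 (fun n hn => hl.normal.conj_mem n hn g)
      (fun l hlE hlu n hn => (hl.cent n hn l (hstab l hlE hlu)).symm)
      (S := (A : Set G) ∪ {m₁, m₂}) ?_ ?_ f ?_
    · rintro x (hx | hx | hx)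
      · exact hl.le hx
      · exact hx ▸ hm1E
      · exact (Set.mem_singleton_iff.1 hx) ▸ hm2E
    · rintro x (hx | rfl | rfl)
      · rw [hgk _ (hl.scalar hx), h1]
      · exact h2
      · exact h4
    · rw [Subgroup.closure_union, Subgroup.closure_eq]
      exact sup_le_sup_right hLA _ (hgens (hEN hf))
  exact ⟨u, y, hy⟩

end Cfsg.Agent.CopBase
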