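import Cfsg.Agent.Lib.CopBase.Quat

/-!
Tables of pairings, checked by computation.
-/

set_option autoImplicit false
set_option linter.style.haveILetI false

namespace Cfsg.Agent.CopBase

/-- A digit of a packed vector. -/
def dig (U i : ℕ) : ℕ := (U >>> (4 * i)) % 16

/-- An entry of a packed table. -/
def fld (T x : ℕ) : ℕ := (T >>> (12 * x)) % 4096

/-- The pairing in the monomial model. -/
def pairMono (p k x A B : ℕ) : ℕ :=
  ((List.range (2 ^ k)).map fun i =>
    (if par ((x >>> k) &&& (i ^^^ x % 2 ^ k)) then p - 1 else 1) * dig A (i ^^^ x % 2 ^ k) * dig B i).sum % p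

/-- The quaternion entries as numbers. -/
def qNat (c r s : ℕ) : ℕ := fld ([1, 0, 0, 1, 0, 2, 1, 0, 1, 1, 1, 2, 2, 1, 1, 1].foldr (fun a t => a + 4096 * t) 0)
  (4 * c + 2 * r + s)

/-- The pairing in the quaternion model. -/
def pairQuat (k x A B : ℕ) : ℕ :=
  let c := x >>> (2 * k)
  ((List.range (2 ^ k)).map fun i =>
    let a := i ^^^ x % 2 ^ k
    (if par ((x >>> k) &&& a) then 2 else 1) *
      ((qNat c 0 0 * dig A (2 * a) + qNat c 0 1 * dig A (2 * a + 1)) * dig B (2 * i + 1) +
        2 * ((qNat c 1 0 * dig A (2 * a) + qNat c 1 1 * dig A (2 * a + 1)) * dig B (2 * i)))).sum % 3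

/-- Four pairings as one number. -/
def code4t (p : ℕ) (d : Fin 4 → ℕ) : ℕ := d 0 + p * d 1 + p * p * d 2 + p * p * p * d 3

/-- The code of the negated pairings. -/
def negCode (p c : ℕ) : ℕ :=
  (p - c % p) % p + p * ((p - c / p % p) % p) + p * p * ((p - c / (p * p) % p) % p) +
    p * p * p * ((p - c / (p * p * p) % p) % p)

/-- The four pairings of a word. -/
def tab (P : ℕ → ℕ → ℕ → ℕ) (U Z x : ℕ) : Fin 4 → ℕ := ![P x U U, P x U Z, P x Z U, P x Z Z]

/-- A table is correct. -/
def tabOK (P : ℕ → ℕ → ℕ → ℕ) (p N U Z T : ℕ) : Bool :=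
  (List.range N).all fun x => fld T x == code4t p (tab P U Z x)

/-- The first row is proportional to no other nonzero one. -/
def uniqOK (P : ℕ → ℕ → ℕ → ℕ) (p N U Z : ℕ) : Bool :=
  (List.range N).all fun h => h == 0 || code4t p (tab P U Z h) == 0 ||
    !((List.finRange 4).all fun i => (List.finRange 4).all fun j =>
      tab P U Z 0 i * tab P U Z h j % p == tab P U Z 0 j * tab P U Z h i % p)

/-- The data of a certificate are correct. -/
def certOK (P : ℕ → ℕ → ℕ → ℕ) (bt : ℕ → ℕ → Bool) (p m r U Z T : ℕ) (es : List ℕ) : Bool :=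
  tabOK P p (2 ^ m) U Z T && fld T 0 != 0 && es.all (fun e => decide (e < 2 ^ m) && fld T e != 0) &&
    covers (2 ^ m) (spanPts es [0]) &&
      (SignData.mk bt (fun x => bt x x) (fld T) (negCode p)).search (2 ^ m) r es [(0, 0, false)]

section
variable {F : Type*} [Field F] {V : Type*} [AddCommGroup V] [Module F V]

lemma code4t_cases {p : ℕ} (a b c d : ℕ) (ha : a < p) (hb : b < p) (hc : c < p) :
    code4t p ![a, b, c, d] % p = a ∧ code4t p ![a, b, c, d] / p % p = b ∧
      code4t p ![a, b, c, d] / (p * p) % p = c ∧ code4t p ![a, b, c, d] / (p * p * p) = d := by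
  have hp : 0 < p := by omega
  have e1 : code4t p ![a, b, c, d] = a + p * (b + p * (c + p * d)) := by simp [code4t]; ring
  rw [e1, ← Nat.div_div_eq_div_mul _ (p * p) p, ← Nat.div_div_eq_div_mul _ p p, Nat.add_mul_div_left _ _ hp,
    Nat.div_eq_of_lt ha, Nat.zero_add, Nat.add_mul_div_left _ _ hp, Nat.div_eq_of_lt hb, Nat.zero_add,
    Nat.add_mul_div_left _ _ hp, Nat.div_eq_of_lt hc, Nat.zero_add]
  refine ⟨?_, ?_, ?_, rfl⟩ <;> rw [Nat.add_mul_mod_self_left, Nat.mod_eq_of_lt (by assumption)]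

/-- A checked table of pairings bounds the stabiliser of two vectors. -/
theorem WordModel.of_cert [Nontrivial V] (W : WordModel F V) {p : ℕ} [Fact p.Prime] [CharP F p]
    (h2 : (2 : F) ≠ 0) (P : ℕ → ℕ → ℕ → ℕ) (vec : ℕ → V)
    (hP : ∀ x < 2 ^ W.m, ∀ A B, W.form (W.op x (vec A)) (vec B) = (P x A B : F))
    (hPlt : ∀ x A B, P x A B < p) (U Z T r : ℕ) (es : List ℕ)
    (hok : certOK P W.bt p W.m r U Z T es = true)
    (hh : (∀ c : F, c ≠ 0 → c * c = 1) ∨ uniqOK P p (2 ^ W.m) U Z = true)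
    (g : Module.End F V) (hg : Function.Injective g) (hgs : Function.Surjective g) (hgu : g (vec U) = vec U)
    (hgz : g (vec Z) = vec Z)
    (hconj : ∀ x < 2 ^ W.m, ∃ y < 2 ^ W.m, ∃ c : F, g * W.op x = c • (W.op y * g)) :
    ∀ x < 2 ^ W.m, Commute (g ^ r) (W.op x) := by
  classical
  simp only [certOK, Bool.and_eq_true, bne_iff_ne, List.all_eq_true, decide_eq_true_eq] at hok
  obtain ⟨⟨⟨⟨htab, h00⟩, hes⟩, hcov⟩, hsearch⟩ := hok
  have hT : ∀ x < 2 ^ W.m, fld T x = code4t p (tab P U Z x) := fun x hx => by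
    simpa using List.all_eq_true.1 htab x (List.mem_range.2 hx)
  have hdlt : ∀ x i, tab P U Z x i < p := fun x i => by fin_cases i <;> exact hPlt _ _ _
  have hcolour : ∀ x < 2 ^ W.m, W.colour (vec U) (vec Z) x =
      ((tab P U Z x 0 : F), (tab P U Z x 1 : F), (tab P U Z x 2 : F), (tab P U Z x 3 : F)) := fun x hx => by
    simp only [WordModel.colour, hP x hx]
    rfl
  have hne0 : ∀ x < 2 ^ W.m, fld T x ≠ 0 → W.colour (vec U) (vec Z) x ≠ 0 := by
    intro x hx hne h
    rw [hcolour x hx] at h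
    simp only [Prod.mk_eq_zero, CharP.cast_eq_zero_iff F p] at h
    have hz : ∀ i, (p ∣ tab P U Z x i) → tab P U Z x i = 0 := fun i hi =>
      Nat.eq_zero_of_dvd_of_lt hi (hdlt x i)
    refine hne ?_
    rw [hT x hx, code4t, hz 0 h.1, hz 1 h.2.1, hz 2 h.2.2.1, hz 3 h.2.2.2]
    simp
  have hpos : (0 : ℕ) < 2 ^ W.m := Nat.two_pow_pos _
  refine W.pow_commute h2 (vec U) (vec Z) _ rfl (fun x _ => rfl) ?_ r es
    (List.all_eq_true.2 fun e he => decide_eq_true (hes e he).1) hsearch hcov
    (fun e he => hne0 e (hes e he).1 (hes e he).2) (hne0 0 hpos h00) ?_ g hg hgs hgu hgz hconj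
  · intro x hx y hy b h
    rw [hcolour x hx, hcolour y hy] at h
    simp only [Prod.smul_mk, Prod.mk.injEq, smul_eq_mul] at h
    show fld T x = if b then negCode p (fld T y) else fld T y
    rw [hT x hx, hT y hy]
    cases b
    · simp only [bitSign, Bool.false_eq_true, if_false, one_mul] at h ⊢
      have hinj : ∀ i, (tab P U Z x i : F) = (tab P U Z y i : F) → tab P U Z x i = tab P U Z y i := fun i e =>
        ((CharP.natCast_eq_natCast F p).1 e).eq_of_lt_of_lt (hdlt x i) (hdlt y i)
      simp only [code4t, hinj 0 h.1, hinj 1 h.2.1, hinj 2 h.2.2.1, hinj 3 h.2.2.2]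
    · simp only [bitSign, if_true] at h ⊢
      have hinj : ∀ i, (tab P U Z x i : F) = -1 * (tab P U Z y i : F) →
          tab P U Z x i = (p - tab P U Z y i) % p := fun i e => by
        refine Nat.ModEq.eq_of_lt_of_lt ((CharP.natCast_eq_natCast F p).1 ?_) (hdlt x i)
          (Nat.mod_lt _ (Fact.out (p := p.Prime)).pos)
        rw [e, ← CharP.cast_eq_mod, Nat.cast_sub (hdlt y i).le, CharP.cast_eq_zero F p, zero_sub, neg_one_mul]
      obtain ⟨q0, q1, q2, q3⟩ := code4t_cases (p := p) (tab P U Z y 0) (tab P U Z y 1) (tab P U Z y 2)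
        (tab P U Z y 3) (hdlt y 0) (hdlt y 1) (hdlt y 2)
      have e0 : code4t p (tab P U Z y) =
          code4t p ![tab P U Z y 0, tab P U Z y 1, tab P U Z y 2, tab P U Z y 3] := by simp [code4t]
      simp only [negCode, e0, q0, q1, q2, q3, Nat.mod_eq_of_lt (hdlt y 3)]
      simp only [code4t, hinj 0 h.1, hinj 1 h.2.1, hinj 2 h.2.2.1, hinj 3 h.2.2.2]
  · refine hh.imp id fun hu h hh2 c hc => ?_
    by_contra hne
    have hchk := List.all_eq_true.1 hu h (List.mem_range.2 hh2)
    simp only [Bool.or_eq_true, beq_iff_eq, hne, false_or, Bool.not_eq_true'] at hchk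
    rcases hchk with hz | hz
    · refine hne0 0 hpos h00 ?_
      have e : ∀ i, tab P U Z h i = 0 := by
        have hp := (Fact.out (p := p.Prime)).pos
        simp only [code4t, Nat.add_eq_zero_iff, Nat.mul_eq_zero, hp.ne', or_false, false_or] at hz
        intro i; fin_cases i <;> simp_all
      rw [hc, hcolour h hh2, e 0, e 1, e 2, e 3]
      simp only [Nat.cast_zero, Prod.smul_mk, smul_eq_mul, mul_zero]
      rfl
    · rw [hcolour h hh2, hcolour 0 hpos] at hc
      simp only [Prod.smul_mk, Prod.mk.injEq, smul_eq_mul] at hc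
      have hc' : ∀ i, (tab P U Z 0 i : F) = c * (tab P U Z h i : F) := by
        intro i
        fin_cases i
        exacts [hc.1, hc.2.1, hc.2.2.1, hc.2.2.2]
      refine Bool.eq_false_iff.1 hz ?_
      simp only [List.all_eq_true, beq_iff_eq]
      intro i _ j _
      have h1 : ((tab P U Z 0 i * tab P U Z h j : ℕ) : F) = ((tab P U Z 0 j * tab P U Z h i : ℕ) : F) := by
        push_cast
        rw [hc' i, hc' j]
        ring
      exact (CharP.natCast_eq_natCast F p).1 h1

end

section models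
variable {F : Type*} [Field F] {k : ℕ}

/-- A packed vector in the monomial model. -/
def vecMono (F : Type*) [Field F] (k A : ℕ) : Fin (2 ^ k) → F := fun i => (dig A i : F)

/-- A packed vector in the quaternion model. -/
def vecQuat (F : Type*) [Field F] (k A : ℕ) : Fin (2 ^ k) × Fin 2 → F := fun q =>
  (dig A (2 * (q.1 : ℕ) + (q.2 : ℕ)) : F)

lemma pairMono_spec {p : ℕ} [Fact p.Prime] [CharP F p] (x A B : ℕ) :
    dotForm F _ (opMono F k x (vecMono F k A)) (vecMono F k B) = (pairMono p k x A B : F) := by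
  rw [pairMono, ← CharP.cast_eq_mod, Nat.cast_list_sum, List.map_map]
  show ∑ i : Fin (2 ^ k), bitSign F (msgn k i x) * vecMono F k A (axor k i x) * vecMono F k B i = _
  rw [← Fin.sum_univ_fun_getElem, ]
  have hneg : ((p - 1 : ℕ) : F) = -1 := by
    rw [Nat.cast_sub (Fact.out (p := p.Prime)).one_le, CharP.cast_eq_zero, Nat.cast_one, zero_sub]
  rw [← Fintype.sum_equiv (finCongr (List.length_range).symm) _ _ (fun _ => rfl)]
  refine Finset.sum_congr rfl fun i _ => ?_
  simp only [Function.comp_apply, List.getElem_range, vecMono, finCongr_apply, Fin.val_cast, Nat.cast_mul]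
  congr 2
  simp only [msgn, axor, bitSign]
  split_ifs with hb <;> simp [hb, hneg]

lemma qNat_spec : ∀ c < 4, ∀ r s : Fin 2, qNat c r s = (qMat c r s).val := by decide +kernel

lemma pairQuat_spec [CharP F 3] {x : ℕ} (hx : x < 2 ^ (2 * k + 2)) (A B : ℕ) :
    altForm F k (opQuat F k x (vecQuat F k A)) (vecQuat F k B) = (pairQuat k x A B : F) := by
  haveI : Fact (Nat.Prime 3) := ⟨Nat.prime_three⟩
  simp only [pairQuat]
  rw [← CharP.cast_eq_mod, Nat.cast_list_sum, List.map_map]
  show ∑ i : Fin (2 ^ k), (opQuat F k x (vecQuat F k A) (i, 0) * vecQuat F k B (i, 1) -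
    opQuat F k x (vecQuat F k A) (i, 1) * vecQuat F k B (i, 0)) = _
  rw [← Fin.sum_univ_fun_getElem]
  have h2 : ((2 : ℕ) : F) = -1 := by
    have h3 : ((3 : ℕ) : F) = 0 := CharP.cast_eq_zero F 3
    push_cast at h3 ⊢
    linear_combination h3
  rw [← Fintype.sum_equiv (finCongr (List.length_range).symm) _ _ (fun _ => rfl)]
  refine Finset.sum_congr rfl fun i _ => ?_
  have hq : ∀ r s : Fin 2, qEnt F k x r s = ((qNat (x >>> (2 * k)) r s : ℕ) : F) := fun r s => by
    rw [qNat_spec _ (shift_lt hx), qEnt, ZMod.natCast_val, ZMod.castHom_apply]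
  simp only [Function.comp_apply, List.getElem_range, finCongr_apply, Fin.val_cast, Nat.cast_mul, Nat.cast_add, h2]
  show bitSign F (msgn k i x) * (qEnt F k x 0 0 * vecQuat F k A (axor k i x, 0) +
      qEnt F k x 0 1 * vecQuat F k A (axor k i x, 1)) * vecQuat F k B (i, 1) -
    bitSign F (msgn k i x) * (qEnt F k x 1 0 * vecQuat F k A (axor k i x, 0) +
      qEnt F k x 1 1 * vecQuat F k A (axor k i x, 1)) * vecQuat F k B (i, 0) = _
  simp only [hq, vecQuat, msgn, axor, bitSign, Fin.val_zero, Fin.val_one, Nat.add_zero]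
  by_cases hb : par (x >>> k &&& ((i : ℕ) ^^^ x % 2 ^ k)) = true <;>
    simp only [hb, if_true, if_false, Bool.false_eq_true, h2, Nat.cast_one] <;> ring

lemma pairMono_lt {p : ℕ} (hp : 0 < p) (k x A B : ℕ) : pairMono p k x A B < p := Nat.mod_lt _ hp

lemma pairQuat_lt (k x A B : ℕ) : pairQuat k x A B < 3 := by simp only [pairQuat]; exact Nat.mod_lt _ (by omega)

end models

end Cfsg.Agent.CopBase
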