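import Cfsg.Agent.Lib.CopBase.Primitive

/-!
The smallest fields: the layer has exponent two, and colourings by zero and nonzero.
-/

set_option autoImplicit false
set_option linter.style.haveILetI false
set_option linter.unusedSectionVars false

namespace Cfsg.Agent.CopBase

open PrimSol SolBase
open scoped commutatorElement

universe u v

variable {F : Type*} [Field F] {V : Type v} [AddCommGroup V] [Module F V] [FiniteDimensional F V]
  [Finite V] [Nontrivial V] {G : Type u} [Group G] [Finite G] {ρ : G →* Module.End F V}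
  {A E : Subgroup G} {w : V}

/-- The nonzero scalars have order one less than their number. -/
theorem scalar_pow_eq_one (hK : IsScalars ρ A) {x : Module.End F V} (hx : x ∈ alg ρ A) (hx0 : x ≠ 0) :
    x ^ (Nat.card (alg ρ A) - 1) = 1 := by
  classical
  haveI : Finite (Module.End F V) := Finite.of_injective _ DFunLike.coe_injective
  let K := alg ρ A
  letI : CommRing K :=
    { (inferInstance : Ring K) with
      mul_comm := fun x y => Subtype.ext (hK.comm x x.2 y y.2) }
  haveI : Nontrivial K := ⟨0, 1, fun h => zero_ne_one (congrArg Subtype.val h)⟩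
  haveI : NoZeroDivisors K := ⟨fun {x y} h =>
    (hK.eq_zero_or x.2 (congrArg Subtype.val h)).imp Subtype.ext Subtype.ext⟩
  haveI : IsDomain K := NoZeroDivisors.to_isDomain _
  letI : Field K := (Finite.isDomain_to_isField K).toField
  haveI := Fintype.ofFinite K
  have h := FiniteField.pow_card_sub_one_eq_one (⟨x, hx⟩ : K) fun e => hx0 (congrArg Subtype.val e)
  rw [← Nat.card_eq_fintype_card] at h
  simpa using congrArg Subtype.val h

/-- Over the smallest fields the layer has exponent two modulo the scalars. -/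
theorem sq_mem (hl : IsLayer ρ A E) (hq : Nat.card (alg ρ A) ∈ ({3, 5, 9} : Set ℕ)) {f : G} (hf : f ∈ E) :
    f ^ 2 ∈ A := by
  classical
  obtain ⟨j, hj⟩ : ∃ j, Nat.card (alg ρ A) - 1 = 2 ^ j := by
    simp only [Set.mem_insert_iff, Set.mem_singleton_iff] at hq
    rcases hq with h | h | h <;> rw [h]
    · exact ⟨1, rfl⟩
    · exact ⟨2, rfl⟩
    · exact ⟨3, rfl⟩
  obtain ⟨n, hn, hfn⟩ := hl.exp f hf
  suffices key : ∀ n, Squarefree n → ∀ f ∈ E, f ^ n ∈ A → f ^ 2 ∈ A from key n hn f hf hfn
  clear hn hfn hf f n
  intro n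
  induction n using Nat.strong_induction_on with
  | _ n ih =>
  intro hn f hf hfn
  by_cases hodd : ∃ s, s.Prime ∧ s ≠ 2 ∧ s ∣ n
  · obtain ⟨s, hs, hs2, m, rfl⟩ := hodd
    have hm0 : m ≠ 0 := fun e => by simp [e] at hn
    have hm : f ^ m ∈ A := by
      refine hl.self _ (hl.cent _ (E.pow_mem hf m)) fun e he => commutatorElement_eq_one_iff_mul_comm.1 ?_
      have hz := hl.der _ (E.pow_mem hf m) e he
      set z := ⁅f ^ m, e⁆ with hzd
      have h1 : z ^ s = 1 := hl.comm_pow_eq_one (E.pow_mem hf m) he (by rw [← pow_mul, mul_comm]; exact hfn)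
      have h2 : z ^ (2 ^ j) = 1 := hl.inj (by
        rw [map_pow, ← hj, scalar_pow_eq_one hl.scal (hl.scalar hz) (fun h0 => ?_), map_one]
        obtain ⟨v, hv⟩ := exists_ne (0 : V)
        exact hv (apply_injective ρ z (by rw [h0, LinearMap.zero_apply, LinearMap.zero_apply])))
      have h3 := Nat.dvd_gcd (orderOf_dvd_of_pow_eq_one h1) (orderOf_dvd_of_pow_eq_one h2)
      rw [((Nat.coprime_primes hs Nat.prime_two).2 hs2).pow_right j] at h3
      exact orderOf_eq_one_iff.1 (Nat.dvd_one.1 h3)
    exact ih m (lt_mul_of_one_lt_left (Nat.pos_of_ne_zero hm0) hs.one_lt)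
      (hn.squarefree_of_dvd (dvd_mul_left m s)) f hf hm
  · push Not at hodd
    rcases eq_or_ne n 1 with rfl | hn1
    · rw [pow_one] at hfn; exact A.pow_mem hfn 2
    obtain ⟨s, hs, hsn⟩ := Nat.exists_prime_and_dvd hn1
    obtain rfl : s = 2 := Classical.byContradiction fun h => hodd s hs h hsn
    obtain ⟨m, rfl⟩ := hsn
    rcases eq_or_ne m 1 with rfl | hm
    · simpa using hfn
    obtain ⟨t, ht, htm⟩ := Nat.exists_prime_and_dvd hm
    obtain rfl : t = 2 := Classical.byContradiction fun h => hodd t ht h (dvd_mul_of_dvd_right htm 2)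
    obtain ⟨c, rfl⟩ := htm
    exact absurd (hn 2 ⟨c, by ring⟩) (by simp)

/-- The quotient of the layer as a vector space over the two-element field. -/
theorem exists_coords (ht : IsTop ρ A E w) (hq : Nat.card (alg ρ A) ∈ ({3, 5, 9} : Set ℕ))
    [(ht.N.subgroupOf E).Normal] :
    ∃ k, Nonempty (E ⧸ ht.N.subgroupOf E ≃* Multiplicative (Fin k → ZMod 2)) := by
  classical
  letI : CommGroup (E ⧸ ht.N.subgroupOf E) :=
    { (inferInstance : Group (E ⧸ ht.N.subgroupOf E)) with mul_comm := comm_quot ht }
  have hexp : ∀ v : E ⧸ ht.N.subgroupOf E, v ^ 2 = 1 := fun v => by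
    obtain ⟨f, rfl⟩ := QuotientGroup.mk_surjective v
    rw [← QuotientGroup.mk_pow, QuotientGroup.eq_one_iff, Subgroup.mem_subgroupOf]
    exact ht.A_le_N (by push_cast; exact sq_mem ht.toIsLayer hq f.2)
  haveI : Module (ZMod 2) (Additive (E ⧸ ht.N.subgroupOf E)) :=
    AddCommGroup.zmodModule (fun x => Additive.toMul.injective (by rw [toMul_nsmul, hexp, toMul_zero]))
  haveI : FiniteDimensional (ZMod 2) (Additive (E ⧸ ht.N.subgroupOf E)) := Module.Finite.of_finite
  exact ⟨_, ⟨MulEquiv.toAdditive.symm (((Module.finBasis (ZMod 2) _).equivFun).toAddEquiv.trans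
    (AddEquiv.additiveMultiplicative _).symm)⟩⟩

/-- Zero and nonzero coefficients give two vectors when the zero set is rigid and thin. -/
theorem two_of_pattern (ht : IsTop ρ A E w) [(ht.N.subgroupOf E).Normal] {k : ℕ}
    (e : E ⧸ ht.N.subgroupOf E ≃* Multiplicative (Fin k → ZMod 2)) (z : V) (hz : z ∈ space ht)
    (hS : ∀ g : G, ρ g w = w → ρ g z = z → ∀ x ∈ space ht, ρ g x = x)
    (T : Set (Fin k → ZMod 2)) (hT0 : (0 : Fin k → ZMod 2) ∉ T)
    (hrigid : ∀ M : (Fin k → ZMod 2) →+ (Fin k → ZMod 2), Function.Injective M →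
      (∀ x, M x ∈ T ↔ x ∈ T) → M = AddMonoidHom.id _)
    (hspread : Spreads {x : Multiplicative (Fin k → ZMod 2) | Multiplicative.toAdd x ∉ T}) : Two ρ := by
  classical
  obtain ⟨R, hR, hR1, -⟩ := exists_reps ht
  let c : E ⧸ ht.N.subgroupOf E → V := fun v =>
    if v = 1 then z else if Multiplicative.toAdd (e v) ∈ T then 0 else w
  refine two_of_colour ht z hS R hR hR1 c (fun v => ?_) (if_pos rfl) ?_ ?_
  · simp only [c]; split_ifs
    exacts [hz, Submodule.zero_mem _, self_mem_space ht]
  · intro g M _ _ _ hM h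
    let M' : (Fin k → ZMod 2) →+ (Fin k → ZMod 2) :=
      { toFun := fun x => Multiplicative.toAdd (e (M (e.symm (Multiplicative.ofAdd x))))
        map_zero' := by simp
        map_add' := fun x y => by simp }
    have hM' : ∀ x, M' x = Multiplicative.toAdd (e (M (e.symm (Multiplicative.ofAdd x)))) := fun x => rfl
    have hinj : Function.Injective M' := fun x y hxy => by
      rw [hM', hM'] at hxy
      exact Multiplicative.ofAdd.injective (e.symm.injective (hM (e.injective (Multiplicative.toAdd.injective hxy))))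
    have hid := hrigid M' hinj fun x => by
      set v := e.symm (Multiplicative.ofAdd x) with hv
      have hex : Multiplicative.toAdd (e v) = x := by rw [hv, MulEquiv.apply_symm_apply]; rfl
      rw [hM', ← hv]
      by_cases hv1 : v = 1
      · rw [hv1, map_one, map_one]
        rw [hv1, map_one] at hex
        simp [← hex]
      have hMv : M v ≠ 1 := fun e' => hv1 (hM (e'.trans (map_one M).symm))
      obtain ⟨-, he⟩ := h v hv1
      simp only [c, if_neg hv1, if_neg hMv, hex] at he
      by_cases hx : x ∈ T
      · rw [if_pos hx, map_zero] at he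
        simp only [hx, iff_true]
        by_contra hn
        rw [if_neg hn] at he
        exact ht.ne he.symm
      · rw [if_neg hx] at he
        simp only [hx, iff_false]
        intro hn
        rw [if_pos hn] at he
        exact ht.ne (apply_injective ρ _ (he.trans (map_zero _).symm))
    refine MonoidHom.ext fun v => e.injective (Multiplicative.toAdd.injective ?_)
    have h2 := DFunLike.congr_fun hid (Multiplicative.toAdd (e v))
    rw [hM', ofAdd_toAdd, MulEquiv.symm_apply_apply] at h2
    exact h2
  · have hB : {v | v = 1 ∨ c v ≠ 0} = e ⁻¹' {x | Multiplicative.toAdd x ∉ T} := by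
      ext v
      simp only [Set.mem_setOf_eq, Set.mem_preimage, c]
      by_cases hv : v = 1
      · simp [hv, hT0]
      · simp only [hv, false_or, if_false]
        by_cases hx : Multiplicative.toAdd (e v) ∈ T <;> simp [hx, ht.ne]
    rw [hB]
    -- transport along the equivalence
    have hcl : ∀ S : Set (Multiplicative (Fin k → ZMod 2)), Subgroup.closure S = ⊤ →
        Subgroup.closure (e ⁻¹' S) = ⊤ := fun S hS' => by
      rw [Subgroup.eq_top_iff']
      intro v
      have : e v ∈ (Subgroup.closure (e ⁻¹' S)).map e.toMonoidHom := by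
        rw [MonoidHom.map_closure]
        have himg : (e.toMonoidHom : _ → _) '' (e ⁻¹' S) = S := Set.image_preimage_eq _ e.surjective
        rw [himg, hS']; exact Subgroup.mem_top _
      obtain ⟨u, hu, hue⟩ := this
      rwa [← e.injective hue]
    have hsp := hcl _ hspread
    refine top_le_iff.1 (hsp.ge.trans (Subgroup.closure_mono fun f hf => ⟨hf.1, ?_⟩))
    have := hcl _ hf.2
    refine top_le_iff.1 (this.ge.trans (Subgroup.closure_mono fun h hh => ⟨hh.1, ?_⟩))
    have h2 := hh.2
    rw [← map_mul] at h2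
    exact h2

end Cfsg.Agent.CopBase
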