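import Cfsg.Agent.Lib.CopBase.Nine
import Cfsg.Agent.Lib.CopBase.Frames
import Cfsg.Agent.Lib.CopBase.Seven
import Cfsg.Agent.Lib.CopBase.NoFixed
import Cfsg.Agent.Lib.CopBase.Certs

/-!
Two vectors in all the cases of very small scalars.
-/

set_option autoImplicit false
set_option linter.style.haveILetI false
set_option linter.unusedSectionVars false

namespace Cfsg.Agent.CopBase

open PrimSol SolBase
open scoped commutatorElement

universe u v

variable {F : Type*} [Field F] {V : Type v} [AddCommGroup V] [Module F V] [FiniteDimensional F V]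
  [Finite V] [Nontrivial V] {G : Type u} [Group G] [Finite G] {ρ : G →* Module.End F V}
  {A E : Subgroup G} {w : V}

lemma three_pow_one (h3 : ¬ 3 ∣ Nat.card G) {g : G} (h : g ^ 3 = 1) : g = 1 := by
  have h1 := orderOf_dvd_of_pow_eq_one h
  rcases (Nat.dvd_prime Nat.prime_three).1 h1 with e | e
  · exact orderOf_eq_one_iff.1 e
  · exact absurd (e ▸ orderOf_dvd_natCard g) h3

lemma cast_dig_ne_zero {p : ℕ} [CharP F p] {n : ℕ} (h : ¬ p ∣ n) : (n : F) ≠ 0 := fun e =>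
  h ((CharP.cast_eq_zero_iff F p n).1 e)

/-- Two vectors from a monomial certificate. -/
theorem two_of_mono_cert (ht : IsTop ρ A E w) (h2 : (2 : F) ≠ 0) {p : ℕ} [Fact p.Prime] [CharP F p]
    (hK : ∀ x ∈ alg ρ A, ∃ c : F, x = c • (1 : Module.End F V)) (hsq : ∀ f ∈ E, f ^ 2 ∈ A) {k : ℕ} (hk : k ≤ 4)
    (d : Adapted ht k 1 1) (hroot : ∀ i < k, ∃ c : F, (c * c) • ρ (d.fe i ^ 2) = 1)
    (hW1 : ∀ x ∈ space ht, ∃ c : F, c • w = x) (r : ℕ) (hr : ∀ g : G, g ^ r = 1 → g = 1) (U Z T : ℕ)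
    (es : List ℕ) (hok : certOK (pairMono p k) (btMono k) p (2 * k) r U Z T es = true)
    (hh : (∀ c : F, c ≠ 0 → c * c = 1) ∨ uniqOK (pairMono p k) p (2 ^ (2 * k)) U Z = true)
    (hU : ∃ i < 2 ^ k, ¬ p ∣ dig U i) : Two ρ := by
  obtain ⟨ψ, hgen, hcl, -⟩ := mono_chart ht hsq h2 hK hk d hroot hW1
  have hl := ht.toIsLayer
  refine two_of_chart (monoModel hk h2) hl (fun g a ha => commute_of_prime hl hK ha)
    (fun a ha => hK _ (hl.scalar ha)) ψ hgen hcl (vecMono F k U) (vecMono F k Z) (Or.inl fun e => ?_) r hr ?_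
  · obtain ⟨i, hi, hne⟩ := hU
    exact cast_dig_ne_zero (F := F) hne (congrFun e ⟨i, hi⟩)
  · intro g hg hgs hgu hgz hconj
    exact (monoModel (F := F) hk h2).of_cert (p := p) h2 (pairMono p k) (vecMono F k)
      (fun x _ a b => pairMono_spec x a b) (pairMono_lt (Fact.out (p := p.Prime)).pos k) U Z T r es hok hh
      g hg hgs hgu hgz hconj

/-- Two vectors from a quaternion certificate. -/
theorem two_of_quat_cert [CharP F 3] (ht : IsTop ρ A E w) (h2 : (2 : F) ≠ 0)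
    (hK : ∀ x ∈ alg ρ A, ∃ c : F, x = c • (1 : Module.End F V)) (hF : ∀ c : F, c ≠ 0 → c * c = 1)
    (hsq : ∀ f ∈ E, f ^ 2 ∈ A) (h3 : ¬ 3 ∣ Nat.card G) {k : ℕ} (hk : k ≤ 4) {m₁ m₂ : G} (hm₁ : m₁ ∈ ht.N)
    (hm₂ : m₂ ∈ ht.N) (hs1 : ρ (m₁ ^ 2) = -1) (hs2 : ρ (m₂ ^ 2) = -1) (hanti : cb m₁ m₂ = true)
    (d : Adapted ht k m₁ m₂) (hroot : ∀ i < k, ∃ c : F, (c * c) • ρ (d.fe i ^ 2) = 1)
    (hW2 : ∀ x ∈ space ht, ∃ p : Fin 2 → F, p 0 • w + p 1 • ρ m₁ w = x) (U Z T : ℕ)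
    (es : List ℕ) (hok : certOK (pairQuat k) (btQuat k) 3 (2 * k + 2) 3 U Z T es = true)
    (hU : ¬ 3 ∣ dig U 0) : Two ρ := by
  haveI : Fact (Nat.Prime 3) := ⟨Nat.prime_three⟩
  obtain ⟨ψ, hgen, hcl⟩ := quat_chart ht hsq h2 hK hF hk hm₁ hm₂ hs1 hs2 hanti d hroot hW2
  have hl := ht.toIsLayer
  refine two_of_chart (quatModel hk h2) hl (fun g a ha => commute_of_prime hl hK ha)
    (fun a ha => hK _ (hl.scalar ha)) ψ hgen hcl (vecQuat F k U) (vecQuat F k Z) (Or.inl fun e => ?_) 3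
    (fun g => three_pow_one h3) ?_
  · exact cast_dig_ne_zero (F := F) hU (congrFun e (⟨0, Nat.two_pow_pos k⟩, 0))
  · intro g hg hgs hgu hgz hconj
    exact (quatModel (F := F) hk h2).of_cert (p := 3) h2 (pairQuat k) (vecQuat F k)
      (fun x hx a b => pairQuat_spec hx a b) (pairQuat_lt k) U Z T 3 es hok (Or.inl hF)
      g hg hgs hgu hgz hconj

/-- Generators of the centraliser and adapted representatives over three scalars. -/
theorem exists_frame_three [CharP F 3] (ht : IsTop ρ A E w) [(ht.N.subgroupOf E).Normal] (h2 : (2 : F) ≠ 0)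
    (hK : ∀ x ∈ alg ρ A, ∃ c : F, x = c • (1 : Module.End F V)) (hF : ∀ c : F, c ≠ 0 → c * c = 1)
    (hsq : ∀ f ∈ E, f ^ 2 ∈ A) {k : ℕ} (e : E ⧸ ht.N.subgroupOf E ≃* Multiplicative (Fin k → ZMod 2)) :
    ∃ m₁ m₂ : G, ∃ _ : m₁ ∈ ht.N, ∃ _ : m₂ ∈ ht.N, ht.N ≤ ht.L ⊔ Subgroup.closure {m₁, m₂} ∧
      ((ht.N ≤ ht.L ∧ m₁ = 1 ∧ m₂ = 1) ∨ (ρ (m₁ ^ 2) = -1 ∧ ρ (m₂ ^ 2) = -1 ∧ cb m₁ m₂ = true)) ∧
      ∃ d : Adapted ht k m₁ m₂, ∀ i < k, ∃ c : F, (c * c) • ρ (d.fe i ^ 2) = 1 := by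
  classical
  have hl := ht.toIsLayer
  by_cases hNL : ht.N ≤ ht.L
  · obtain ⟨d⟩ := exists_adapted ht hsq h2 e 1 1 ht.N.one_mem ht.N.one_mem (hNL.trans le_sup_left)
      fun f _ => ⟨1, ht.N.one_mem, cb_one _, cb_one _⟩
    exact ⟨1, 1, ht.N.one_mem, ht.N.one_mem, hNL.trans le_sup_left, Or.inl ⟨hNL, rfl, rfl⟩,
      exists_roots_three ht hsq h2 hK hF ht.N.one_mem ht.N.one_mem d⟩
  obtain ⟨m₁, hm₁, m₂, hm₂, hgens, hcase⟩ := ht.exists_gens
  obtain ⟨-, -, hanti, -, hn1, hn2⟩ := hcase.resolve_left hNL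
  have hneg : ∀ m ∈ E, (∀ x ∈ alg ρ A, x * x ≠ ρ (m ^ 2)) → ρ (m ^ 2) = -1 := fun m hm h =>
    (square_three hl hK hF hsq hm).resolve_left fun e1 => h 1 (one_mem _) (by rw [e1, one_mul])
  have hcb : cb m₁ m₂ = true := by
    cases h : cb m₁ m₂
    · exfalso
      have h1 := rho_comm hl hsq h2 hm₁.1 hm₂.1
      rw [h, hanti, show bitSign F false = 1 from rfl, one_smul] at h1
      obtain ⟨v, hv⟩ := exists_ne (0 : V)
      have h4 := LinearMap.congr_fun h1 v
      rw [LinearMap.neg_apply, Module.End.one_apply, neg_eq_iff_add_eq_zero, ← two_smul F] at h4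
      exact hv ((smul_eq_zero.1 h4).resolve_left h2)
    · rfl
  obtain ⟨d⟩ := exists_adapted ht hsq h2 e m₁ m₂ hm₁ hm₂ hgens fun f hf => by
    refine ⟨(if cb f m₁ then m₂ else 1) * (if cb f m₂ then m₁ else 1), ht.N.mul_mem
      (by split; exacts [hm₂, ht.N.one_mem]) (by split; exacts [hm₁, ht.N.one_mem]), ?_⟩
    have hi : (if cb f m₁ then m₂ else 1) ∈ E := by split; exacts [hm₂.1, E.one_mem]
    have hj : (if cb f m₂ then m₁ else 1) ∈ E := by split; exacts [hm₁.1, E.one_mem]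
    have e1 : ∀ (q : Bool) (x y : G), cb (if q then x else 1) y = (q && cb x y) := fun q x y => by
      cases q <;> simp [cb_symm (1 : G), cb_one]
    rw [cb_mul_left hl hsq h2 hf (E.mul_mem hi hj) hm₁.1, cb_mul_left hl hsq h2 hf (E.mul_mem hi hj) hm₂.1,
      cb_mul_left hl hsq h2 hi hj hm₁.1, cb_mul_left hl hsq h2 hi hj hm₂.1, e1, e1, e1, e1, cb_self, cb_self,
      cb_symm m₂ m₁, hcb]
    simp
  exact ⟨m₁, m₂, hm₁, hm₂, hgens, Or.inr ⟨hneg m₁ hm₁.1 hn1, hneg m₂ hm₂.1 hn2, hcb⟩,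
    exists_roots_three ht hsq h2 hK hF hm₁ hm₂ d⟩

/-- The largest line stabilisers in dimension three are fixed by an element of order seven. -/
theorem two_seven [CharP F 3] [Fintype V] (ht : IsTop ρ A E w) (h2 : (2 : F) ≠ 0) (hcardF : Nat.card F = 3)
    (hK : ∀ x ∈ alg ρ A, ∃ c : F, x = c • (1 : Module.End F V)) (hF : ∀ c : F, c ≠ 0 → c * c = 1)
    (hq : Nat.card (alg ρ A) ∈ ({3, 5, 9} : Set ℕ)) (hsol : Group.IsSolvable G) (h3 : ¬ 3 ∣ Nat.card G)
    (hmax : ∀ B : Subgroup G, B.Normal → IsMulCommutative B → A ≤ B → B = A)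
    (d : Adapted ht 3 1 1) (hroot : ∀ i < 3, ∃ c : F, (c * c) • ρ (d.fe i ^ 2) = 1)
    (hW1 : ∀ x ∈ space ht, ∃ c : F, c • w = x) : Two ρ := by
  classical
  have hl := ht.toIsLayer
  have hsq : ∀ f ∈ E, f ^ 2 ∈ A := fun f hf => sq_mem hl hq hf
  have hgA : ∀ g : G, ∀ a ∈ A, g * a = a * g := fun g a ha => commute_of_prime hl hK ha
  haveI : Finite F := Nat.finite_of_card_ne_zero (by omega)
  haveI hAn : (A.subgroupOf E).Normal := ⟨fun a ha x => by
    rw [Subgroup.mem_subgroupOf] at ha ⊢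
    push_cast
    rw [hgA x _ ha, mul_inv_cancel_right]
    exact ha⟩
  obtain ⟨ψ, hgen, hcl, hψ0⟩ := mono_chart ht hsq h2 hK (k := 3) (by norm_num) d hroot hW1
  obtain ⟨hX, hsing⟩ := chart_counts (monoModel (k := 3) (by norm_num) h2) hl h2 hF hK ψ hgen hcl
  obtain ⟨p, hp, hp3, hpG, hp1, hp2⟩ := exists_prime_points hl hsol h2 hsq hgA h3 hmax
    (Or.inr (by rw [hX]; rfl))
  rw [hX] at hp1
  rw [hsing] at hp2
  have h35 : ((Finset.univ : Finset (Fin (2 ^ 6))).filter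
      (fun x : Fin (2 ^ 6) => (x : ℕ) ≠ 0 ∧ btMono 3 x x = false)).card = 35 := by decide +kernel
  have hp7 : p = 7 := by
    have h1 : p ∣ 63 := hp1
    have h4 : p ∣ 35 := h35 ▸ hp2
    have h5 := Nat.dvd_gcd h1 h4
    exact (Nat.prime_dvd_prime_iff_eq hp (by norm_num)).1 h5
  subst hp7
  haveI : Fact (Nat.Prime 7) := ⟨hp⟩
  obtain ⟨g, hg⟩ := exists_prime_orderOf_dvd_card' 7 hpG
  -- vectors with largest line stabilisers
  let T := {x : V // ∃ hx : x ≠ 0, Nat.card (hl.lineStab hx) = Nat.card ht.L}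
  have hLcard := card_L ht hsq h2 ht.N.one_mem ht.N.one_mem d
  have hTcard : Nat.card T = 480 := by
    rw [← top_vectors (F := F) hcardF]
    refine (Nat.card_congr (Equiv.subtypeEquiv ψ.toEquiv fun v => ?_)).symm
    have key : ∀ hv : ψ v ≠ 0, (Nat.card (hl.lineStab hv) = Nat.card ht.L ↔
        Nat.card {x : Fin (2 ^ 6) // opMono F 3 x v = v ∨ opMono F 3 x v = -v} = 8) := fun hv => by
      rw [chart_lineStab (monoModel (k := 3) (by norm_num) h2) hl h2 hF hK ψ hgen hcl v hv, hLcard]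
      exact Nat.mul_right_inj (Nat.pos_iff_ne_zero.1 Nat.card_pos)
    constructor
    · rintro ⟨hv, h8⟩
      have hv' : ψ v ≠ 0 := fun e => hv (ψ.injective (e.trans (map_zero ψ).symm))
      exact ⟨hv', (key hv').2 h8⟩
    · rintro ⟨hv', h⟩
      exact ⟨fun e => hv' (by show ψ v = 0; rw [e, map_zero]), (key hv').1 h⟩
  have hle : ∀ (a : G) (x : V) (hx : x ≠ 0) (hax : ρ a x ≠ 0),
      Nat.card (hl.lineStab hx) ≤ Nat.card (hl.lineStab hax) := by
    intro a x hx hax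
    refine Nat.card_le_card_of_injective (fun y : hl.lineStab hx => (⟨a * y * a⁻¹, ?_⟩ : hl.lineStab hax))
      fun y z h => Subtype.ext (mul_left_cancel (mul_right_cancel (congrArg Subtype.val h)))
    obtain ⟨hyE, k, hk, hky⟩ := y.2
    obtain ⟨c, rfl⟩ := hK k hk
    refine ⟨hl.normal.conj_mem _ hyE a, _, hk, ?_⟩
    rw [map_mul, map_mul, Module.End.mul_apply, Module.End.mul_apply, inv_apply_cancel, hky,
      LinearMap.smul_apply, Module.End.one_apply, map_smul, LinearMap.smul_apply, Module.End.one_apply]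
  have hne : ∀ (a : G) (x : V), x ≠ 0 → ρ a x ≠ 0 := fun a x hx e =>
    hx (apply_injective ρ a (e.trans (map_zero _).symm))
  letI : MulAction (Subgroup.zpowers g) T :=
    { smul := fun a x => ⟨ρ (a : G) x.1, hne _ _ x.2.choose, le_antisymm (ht.top _ _)
        (x.2.choose_spec.ge.trans (hle _ _ x.2.choose _))⟩
      one_smul := fun x => Subtype.ext (by
        show ρ ((1 : Subgroup.zpowers g) : G) x.1 = x.1
        rw [OneMemClass.coe_one, map_one, Module.End.one_apply])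
      mul_smul := fun a b x => Subtype.ext (by
        show ρ ((a * b : Subgroup.zpowers g) : G) x.1 = ρ (a : G) (ρ (b : G) x.1)
        rw [Subgroup.coe_mul, map_mul, Module.End.mul_apply]) }
  have hP : IsPGroup 7 (Subgroup.zpowers g) := IsPGroup.of_card (n := 1) (by
    rw [Nat.card_zpowers, hg, pow_one])
  have hmod := hP.card_modEq_card_fixedPoints T
  rw [hTcard] at hmod
  obtain ⟨⟨⟨x, hx0, hxL⟩, hxfix⟩⟩ : Nonempty (MulAction.fixedPoints (Subgroup.zpowers g) T) := by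
    rw [← not_isEmpty_iff]
    intro he
    rw [Nat.card_of_isEmpty] at hmod
    exact absurd hmod (by decide)
  have hgx : ρ g x = x := congrArg Subtype.val (hxfix ⟨g, Subgroup.mem_zpowers g⟩)
  -- the new chosen vector
  let ht' : IsTop ρ A E x := ⟨hl, hx0, fun v hv => hxL.ge.trans' (ht.top v hv)⟩
  haveI := normal_N ht'
  obtain ⟨k', ⟨e'⟩⟩ := exists_coords ht' hq
  obtain ⟨m₁, m₂, hm₁, hm₂, -, -, d', hroot'⟩ := exists_frame_three ht' h2 hK hF hsq e'
  have hk' : k' = 3 := by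
    have h1 := card_L ht' hsq h2 hm₁ hm₂ d'
    have h5 : Nat.card ht'.L = Nat.card ht.L := hxL
    rw [h5, hLcard] at h1
    exact (Nat.pow_right_injective le_rfl (Nat.eq_of_mul_eq_mul_left Nat.card_pos h1)).symm
  subst hk'
  obtain ⟨t, s, -, -, -, -, htt, ht1, hs1, hss, hst, hsfix, hsW⟩ := d'.exists_ops hsq h2 hK hroot'
  have hbij := coordMap_bijective (k := 3) (j := (space ht').subtype) h2 htt ht1 hs1 hss hst Subtype.val_injective
    (fun i hi y => hsfix i hi _ y.2) fun y hy => ⟨⟨y, hsW y hy⟩, rfl⟩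
  haveI : Finite (space ht') := Finite.of_injective _ Subtype.val_injective
  have hV8 : Nat.card V = Nat.card (space ht') ^ (2 ^ 3) := by
    rw [← Nat.card_congr (Equiv.ofBijective _ hbij), Nat.card_fun, Nat.card_fin]
  have hV8' : Nat.card V = 3 ^ (2 ^ 3) := by
    rw [← Nat.card_congr ψ.toEquiv, Nat.card_fun, hcardF, Nat.card_fin]
  have hsp : Nat.card (space ht') = 3 := Nat.pow_left_injective (by norm_num) (hV8.symm.trans hV8')
  have hline : ∀ y ∈ space ht', ∃ c : F, c • x = y := by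
    intro y hy
    let f : F → space ht' := fun c => ⟨c • x, (space ht').smul_mem c (self_mem_space ht')⟩
    have hf : Function.Bijective f := Function.Injective.bijective_of_nat_card_le
      (fun a b h => smul_left_injective F hx0 (congrArg Subtype.val h)) (by rw [hsp, hcardF])
    obtain ⟨c, hc⟩ := hf.2 ⟨y, hy⟩
    exact ⟨c, congrArg Subtype.val hc⟩
  have hNL : ht'.N ≤ ht'.L := fun n hn => by
    obtain ⟨c, hc⟩ := hline _ (N_mem_space ht' hn (self_mem_space ht'))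
    refine ⟨hn.1, _, Subalgebra.algebraMap_mem _ c, ?_⟩
    rw [Module.algebraMap_end_apply, hc]
  have h3s : ¬ 3 ∣ Nat.card (stab ρ A x) := fun h => h3 (h.trans (Subgroup.card_subgroup_dvd_card _))
  refine two_of_free ht' e' x (self_mem_space ht') (fun a ha _ y hy => ?_)
    (free_of_seven ht' hNL hK hF h3s g hg hgx e')
  obtain ⟨c, rfl⟩ := hline y hy
  rw [map_smul, ha]

/-- The cases of very small scalars. -/
theorem tiny_holds (h2 : (2 : F) ≠ 0) : Tiny.{u, v} F := by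
  intro V _ _ _ _ _ G _ _ ρ A E w ht z hsol _ _ hcop hEN hq hz hS hmax
  classical
  haveI := Fintype.ofFinite V
  haveI := normal_N ht
  have hl := ht.toIsLayer
  have hsq : ∀ f ∈ E, f ^ 2 ∈ A := fun f hf => sq_mem hl hq hf
  obtain ⟨k, ⟨e⟩⟩ := exists_coords ht hq
  simp only [Set.mem_insert_iff, Set.mem_singleton_iff] at hq
  by_cases h9 : Nat.card (alg ρ A) = 9
  · exact two_nine ht h2 h9 hcop e z hz hS
  by_cases hk234 : k ≠ 2 ∧ k ≠ 3 ∧ k ≠ 4
  · exact two_of_dimension ht e z hz hS hk234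
  have hq35 : Nat.card (alg ρ A) = 3 ∨ Nat.card (alg ρ A) = 5 := by tauto
  have hq' : Nat.card (alg ρ A) ∈ ({3, 5, 9} : Set ℕ) := by simp [hq]
  obtain ⟨hcardF, hK⟩ := scalars_prime (F := F) hq35
  have hgA : ∀ g : G, ∀ a ∈ A, g * a = a * g := fun g a ha => commute_of_prime hl hK ha
  haveI : Finite F := Nat.finite_of_card_ne_zero (by omega)
  haveI := Fintype.ofFinite F
  have hpow : ∀ c : F, c ≠ 0 → c ^ (Nat.card (alg ρ A) - 1) = 1 := fun c hc => by
    have := FiniteField.pow_card_sub_one_eq_one c hc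
    rwa [← Nat.card_eq_fintype_card, hcardF] at this
  rcases hq35 with hq3 | hq5
  · rw [hq3] at hcardF hpow
    haveI : Fact (Nat.Prime 3) := ⟨Nat.prime_three⟩
    haveI : CharP F 3 := charP_of_card_eq_prime (by rw [← Nat.card_eq_fintype_card, hcardF])
    have hF : ∀ c : F, c ≠ 0 → c * c = 1 := fun c hc => by rw [← pow_two]; exact hpow c hc
    have h3 : ¬ 3 ∣ Nat.card G := fun h => hcop ((CharP.cast_eq_zero_iff F 3 _).2 h)
    haveI hAn : (A.subgroupOf E).Normal := ⟨fun a ha x => by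
      rw [Subgroup.mem_subgroupOf] at ha ⊢
      push_cast
      rw [hgA x _ ha, mul_inv_cancel_right]
      exact ha⟩
    obtain ⟨m₁, m₂, hm₁, hm₂, hN, hcase, d, hroot⟩ := exists_frame_three ht h2 hK hF hsq e
    rcases hcase with ⟨hNL, rfl, rfl⟩ | ⟨hs1, hs2, hanti⟩
    · rcases line_or_two ht h2 hK hNL z hz hS with hW1 | h
      swap
      · exact h
      rcases (show k = 2 ∨ k = 3 ∨ k = 4 by omega) with rfl | rfl | rfl
      · exfalso
        obtain ⟨ψ, hgen, hcl, -⟩ := mono_chart ht hsq h2 hK (k := 2) (by norm_num) d hroot hW1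
        obtain ⟨hX, hsing⟩ := chart_counts (monoModel (k := 2) (by norm_num) h2) hl h2 hF hK ψ hgen hcl
        obtain ⟨p, hp, hp3, -, hp1, hp2⟩ := exists_prime_points hl hsol h2 hsq hgA h3 hmax
          (Or.inl (by rw [hX]; rfl))
        rw [hX] at hp1
        rw [hsing] at hp2
        have h9' : ((Finset.univ : Finset (Fin (2 ^ 4))).filter
            (fun x : Fin (2 ^ 4) => (x : ℕ) ≠ 0 ∧ btMono 2 x x = false)).card = 9 := by decide +kernel
        have h5 := Nat.dvd_gcd (show p ∣ 15 from hp1) (show p ∣ 9 from h9' ▸ hp2)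
        exact hp3 ((Nat.prime_dvd_prime_iff_eq hp Nat.prime_three).1 h5)
      · exact two_seven ht h2 hcardF hK hF hq' hsol h3 hmax d hroot hW1
      · exact two_of_mono_cert ht h2 (p := 3) hK hsq le_rfl d hroot hW1 3 (fun g => three_pow_one h3) _ _ _ _
          mono34_ok (Or.inl hF) ⟨3, by norm_num, by decide⟩
    · rcases plane_or_two ht hsq h2 hK hF hcardF hm₁ hm₂ hN hanti z hz hS with hW2 | h
      swap
      · exact h
      rcases (show k = 2 ∨ k = 3 ∨ k = 4 by omega) with rfl | rfl | rfl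
      · exfalso
        obtain ⟨ψ, hgen, hcl⟩ := quat_chart ht hsq h2 hK hF (k := 2) (by norm_num) hm₁ hm₂ hs1 hs2 hanti d hroot hW2
        obtain ⟨hX, hsing⟩ := chart_counts (quatModel (k := 2) (by norm_num) h2) hl h2 hF hK ψ hgen hcl
        obtain ⟨p, hp, hp3, -, hp1, hp2⟩ := exists_prime_points hl hsol h2 hsq hgA h3 hmax
          (Or.inr (by rw [hX]; rfl))
        rw [hX] at hp1
        rw [hsing] at hp2
        have h27 : ((Finset.univ : Finset (Fin (2 ^ 6))).filter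
            (fun x : Fin (2 ^ 6) => (x : ℕ) ≠ 0 ∧ btQuat 2 x x = false)).card = 27 := by decide +kernel
        have h5 := Nat.dvd_gcd (show p ∣ 63 from hp1) (show p ∣ 27 from h27 ▸ hp2)
        have h6 : p ∣ 3 ^ 2 := h5
        exact hp3 ((Nat.prime_dvd_prime_iff_eq hp Nat.prime_three).1 (hp.dvd_of_dvd_pow h6))
      · exact two_of_quat_cert ht h2 hK hF hsq h3 (by norm_num) hm₁ hm₂ hs1 hs2 hanti d hroot hW2 _ _ _ _
          quat33_ok (by decide)
      · exact two_of_quat_cert ht h2 hK hF hsq h3 le_rfl hm₁ hm₂ hs1 hs2 hanti d hroot hW2 _ _ _ _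
          quat34_ok (by decide)
  · rw [hq5] at hcardF hpow
    haveI : Fact (Nat.Prime 5) := ⟨by norm_num⟩
    haveI : CharP F 5 := charP_of_card_eq_prime (by rw [← Nat.card_eq_fintype_card, hcardF])
    have h5 : (5 : F) = 0 := by exact_mod_cast CharP.cast_eq_zero F 5
    have hi : (2 : F) * 2 = -1 := by linear_combination h5
    have h4 : ∀ c : F, c ≠ 0 → c * c * (c * c) = 1 := fun c hc => by
      rw [show c * c * (c * c) = c ^ 4 by ring]; exact hpow c hc
    obtain ⟨m₁, hm₁, m₂, hm₂, -, hcase⟩ := ht.exists_gens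
    have hNL : ht.N ≤ ht.L := by
      rcases hcase with h | ⟨-, -, -, hneg, -, -⟩
      · exact h
      · refine absurd ?_ (hneg _ (Subalgebra.algebraMap_mem _ (2 : F)))
        rw [← map_mul, hi, map_neg, map_one]
    rcases line_or_two ht h2 hK hNL z hz hS with hW1 | h
    swap
    · exact h
    obtain ⟨d⟩ := exists_adapted ht hsq h2 e 1 1 ht.N.one_mem ht.N.one_mem (hNL.trans le_sup_left)
      fun f _ => ⟨1, ht.N.one_mem, cb_one _, cb_one _⟩
    have hroot := exists_roots_five ht hsq h2 hK h4 ⟨2, hi⟩ hmax d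
    rcases (show k = 2 ∨ k = 3 ∨ k = 4 by omega) with rfl | rfl | rfl
    · exact two_of_mono_cert ht h2 (p := 5) hK hsq (by norm_num) d hroot hW1 1 (fun g h => by simpa using h) _ _ _ _
        mono52_ok (Or.inr mono52_uniq) ⟨0, by norm_num, by decide⟩
    · exact two_of_mono_cert ht h2 (p := 5) hK hsq (by norm_num) d hroot hW1 1 (fun g h => by simpa using h) _ _ _ _
        mono53_ok (Or.inr mono53_uniq) ⟨0, by norm_num, by decide⟩
    · exact two_of_mono_cert ht h2 (p := 5) hK hsq le_rfl d hroot hW1 1 (fun g h => by simpa using h) _ _ _ _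
        mono54_ok (Or.inr mono54_uniq) ⟨0, by norm_num, by decide⟩

end Cfsg.Agent.CopBase
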